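/-
Twisted symplectic modules: definitions, Schur, Maschke and the hyperbolic lemma.
-/
import Mathlib

set_option autoImplicit false

namespace CF.FSo

open Module

variable {Γ : Type*} [Group Γ]

/-- The elements of a subgroup of a finite group, as a finset. -/
noncomputable def fs [Finite Γ] (H : Subgroup Γ) : Finset Γ := (Set.toFinite (H : Set Γ)).toFinset

@[simp] theorem mem_fs [Finite Γ] {H : Subgroup Γ} {g : Γ} : g ∈ fs H ↔ g ∈ H :=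
  Set.Finite.mem_toFinset _

theorem card_fs [Finite Γ] (H : Subgroup Γ) : (fs H).card = Nat.card H :=
  (Set.ncard_eq_toFinset_card _ _).symm.trans (Nat.card_coe_set_eq _).symm

theorem card_fs_ne [Finite Γ] (H : Subgroup Γ) : ((fs H).card : ℂ) ≠ 0 := by
  rw [card_fs]; exact Nat.cast_ne_zero.2 Nat.card_pos.ne'

theorem sum_fs_left [Finite Γ] {M : Type*} [AddCommMonoid M] {H : Subgroup Γ} {g : Γ} (hg : g ∈ H)
    (f : Γ → M) : ∑ x ∈ fs H, f (g * x) = ∑ x ∈ fs H, f x :=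
  Finset.sum_nbij' (g * ·) (g⁻¹ * ·) (fun x hx => mem_fs.2 (H.mul_mem hg (mem_fs.1 hx)))
    (fun x hx => mem_fs.2 (H.mul_mem (H.inv_mem hg) (mem_fs.1 hx))) (by simp) (by simp) (by simp)

theorem sum_fs_right [Finite Γ] {M : Type*} [AddCommMonoid M] {H : Subgroup Γ} {g : Γ} (hg : g ∈ H)
    (f : Γ → M) : ∑ x ∈ fs H, f (x * g) = ∑ x ∈ fs H, f x :=
  Finset.sum_nbij' (· * g) (· * g⁻¹) (fun x hx => mem_fs.2 (H.mul_mem (mem_fs.1 hx) hg))
    (fun x hx => mem_fs.2 (H.mul_mem (mem_fs.1 hx) (H.inv_mem hg))) (by simp) (by simp) (by simp)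

theorem sum_fs_coe [Finite Γ] {M : Type*} [AddCommMonoid M] (H : Subgroup Γ) [Fintype H]
    (f : Γ → M) : ∑ x ∈ fs H, f x = ∑ x : H, f x :=
  Finset.sum_subtype _ (fun _ => mem_fs) f

section Rep

variable {W : Type*} [AddCommGroup W] [Module ℂ W] {ρ : Γ → End ℂ W} {H : Subgroup Γ}

/-- `ρ` is multiplicative on `H`. -/
structure Rp (ρ : Γ → End ℂ W) (H : Subgroup Γ) : Prop where
  one : ρ 1 = 1
  mul : ∀ {g h}, g ∈ H → h ∈ H → ρ (g * h) = ρ g * ρ h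

/-- Invariant subspaces. -/
def Inv (ρ : Γ → End ℂ W) (H : Subgroup Γ) (X : Submodule ℂ W) : Prop :=
  ∀ g ∈ H, ∀ v ∈ X, ρ g v ∈ X

/-- The subspace `X` has no proper invariant subspaces. -/
def IrrOn (ρ : Γ → End ℂ W) (H : Subgroup Γ) (X : Submodule ℂ W) : Prop :=
  ∀ Y ≤ X, Inv ρ H Y → Y = ⊥ ∨ Y = X

theorem Rp.mono {H' : Subgroup Γ} (h : Rp ρ H) (h' : H' ≤ H) : Rp ρ H' :=
  ⟨h.one, fun a b => h.mul (h' a) (h' b)⟩

theorem Rp.app (h : Rp ρ H) {g k : Γ} (hg : g ∈ H) (hk : k ∈ H) (v : W) :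
    ρ g (ρ k v) = ρ (g * k) v := by rw [h.mul hg hk]; rfl

theorem Rp.inv_app (h : Rp ρ H) {g : Γ} (hg : g ∈ H) (v : W) : ρ g⁻¹ (ρ g v) = v := by
  rw [h.app (H.inv_mem hg) hg, inv_mul_cancel, h.one]; rfl

theorem Rp.app_inv (h : Rp ρ H) {g : Γ} (hg : g ∈ H) (v : W) : ρ g (ρ g⁻¹ v) = v := by
  rw [h.app hg (H.inv_mem hg), mul_inv_cancel, h.one]; rfl

/-- The associated representation. -/
def Rp.rep (h : Rp ρ H) : Representation ℂ H W where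
  toFun g := ρ g
  map_one' := h.one
  map_mul' g k := h.mul g.2 k.2

theorem Rp.tr_conj [FiniteDimensional ℂ W] (h : Rp ρ H) {g k : Γ} (hg : g ∈ H) (hk : k ∈ H) :
    LinearMap.trace ℂ W (ρ (k * g * k⁻¹)) = LinearMap.trace ℂ W (ρ g) :=
  h.rep.char_conj ⟨g, hg⟩ ⟨k, hk⟩

theorem Rp.norm_one [Finite Γ] [FiniteDimensional ℂ W] [Nontrivial W] (h : Rp ρ H)
    (hi : IrrOn ρ H ⊤) : ∑ g ∈ fs H, LinearMap.trace ℂ W (ρ g) * LinearMap.trace ℂ W (ρ g⁻¹) =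
      Nat.card H := by
  classical
  haveI := Fintype.ofFinite H
  have h0 : (Nat.card H : ℂ) ≠ 0 := Nat.cast_ne_zero.2 Nat.card_pos.ne'
  haveI := invertibleOfNonzero h0
  haveI : Nontrivial (Subrepresentation h.rep) :=
    ⟨⊥, ⊤, fun e => bot_ne_top (congrArg Subrepresentation.toSubmodule e)⟩
  haveI : h.rep.IsIrreducible := ⟨fun X => (hi X.toSubmodule le_top fun g hg v hv =>
    X.apply_mem_toSubmodule ⟨g, hg⟩ hv).imp (fun e => Subrepresentation.toSubmodule_injective e)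
      fun e => Subrepresentation.toSubmodule_injective e⟩
  have := h.rep.char_orthonormal h.rep
  rw [if_pos ⟨.refl _⟩, inv_mul_eq_one₀ h0] at this
  rw [sum_fs_coe, this]; rfl

theorem schur [FiniteDimensional ℂ W] {X : Submodule ℂ W} (hi : IrrOn ρ H X) {A : End ℂ W}
    (hA : ∀ v ∈ X, A v ∈ X) (hc : ∀ g ∈ H, ∀ v ∈ X, A (ρ g v) = ρ g (A v)) (hX : Inv ρ H X) :
    ∃ c : ℂ, ∀ v ∈ X, A v = c • v := by
  rcases eq_or_ne X ⊥ with rfl | h0
  · exact ⟨0, fun v hv => by simp [(Submodule.mem_bot ℂ).1 hv]⟩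
  haveI := Submodule.nontrivial_iff_ne_bot.2 h0
  obtain ⟨c, hc'⟩ := End.exists_eigenvalue (A.restrict hA)
  obtain ⟨v, hv⟩ := hc'.exists_hasEigenvector
  refine ⟨c, fun w hw => ?_⟩
  rcases hi (X ⊓ A.eigenspace c) inf_le_left (fun g hg u hu => ⟨hX g hg u hu.1, by
    rw [SetLike.mem_coe, End.mem_eigenspace_iff, hc g hg u hu.1, End.mem_eigenspace_iff.1 hu.2,
      map_smul]⟩) with h | h
  · have h1 : (v : W) ∈ X ⊓ A.eigenspace c :=
      ⟨v.2, End.mem_eigenspace_iff.2 (congrArg Subtype.val hv.apply_eq_smul)⟩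
    rw [h] at h1
    exact (hv.2 (Subtype.ext h1)).elim
  · exact End.mem_eigenspace_iff.1 (h.ge hw).2

theorem exists_irrOn [FiniteDimensional ℂ W] {X : Submodule ℂ W} (hX : Inv ρ H X) (h0 : X ≠ ⊥) :
    ∃ Y ≤ X, Y ≠ ⊥ ∧ Inv ρ H Y ∧ IrrOn ρ H Y := by
  obtain ⟨Y, ⟨h1, h2, h3⟩, h4⟩ := exists_minimal_of_wellFoundedLT
    (fun Y : Submodule ℂ W => Y ≤ X ∧ Y ≠ ⊥ ∧ Inv ρ H Y) ⟨X, le_rfl, h0, hX⟩
  exact ⟨Y, h1, h2, h3, fun Z h5 h6 => or_iff_not_imp_left.2 fun h7 =>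
    le_antisymm h5 (h4 ⟨h5.trans h1, h7, h6⟩ h5)⟩

theorem exists_weight [FiniteDimensional ℂ W] {X : Submodule ℂ W} (hX : Inv ρ H X) (h0 : X ≠ ⊥)
    (hc : ∀ g ∈ H, ∀ k ∈ H, ρ g * ρ k = ρ k * ρ g) :
    ∃ v ∈ X, v ≠ 0 ∧ ∃ μ : Γ → ℂ, ∀ g ∈ H, ρ g v = μ g • v := by
  obtain ⟨Y, h1, h2, h3, h4⟩ := exists_irrOn hX h0
  obtain ⟨v, hv, h5⟩ := Submodule.exists_mem_ne_zero_of_ne_bot h2
  have : ∀ g, ∃ c : ℂ, g ∈ H → ρ g v = c • v := fun g => by
    by_cases hg : g ∈ H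
    · obtain ⟨c, h6⟩ := schur h4 (h3 g hg) (fun k hk u _ => LinearMap.congr_fun (hc g hg k hk) u) h3
      exact ⟨c, fun _ => h6 v hv⟩
    · exact ⟨0, fun h => (hg h).elim⟩
  choose μ hμ using this
  exact ⟨v, h1 hv, h5, μ, hμ⟩

theorem maschke [Finite Γ] (h : Rp ρ H) {X : Submodule ℂ W} (hX : Inv ρ H X) :
    ∃ p : End ℂ W, (∀ v, p v ∈ X) ∧ (∀ v ∈ X, p v = v) ∧ ∀ g ∈ H, p * ρ g = ρ g * p := by
  obtain ⟨q, hq⟩ := LinearMap.exists_extend (LinearMap.id (R := ℂ) (M := X))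
  have h1 : ∀ v ∈ X, (q v : W) = v := fun v hv =>
    congrArg Subtype.val (LinearMap.congr_fun hq ⟨v, hv⟩)
  refine ⟨((fs H).card : ℂ)⁻¹ • ∑ g ∈ fs H, ρ g * (X.subtype ∘ₗ q) * ρ g⁻¹, fun v => ?_,
    fun v hv => ?_, fun k hk => ?_⟩
  · rw [LinearMap.smul_apply, LinearMap.sum_apply]
    exact X.smul_mem _ (X.sum_mem fun g hg => hX g (mem_fs.1 hg) _ (q _).2)
  · rw [LinearMap.smul_apply, LinearMap.sum_apply, Finset.sum_congr rfl (g := fun _ => v)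
      fun g hg => ?_]
    · rw [Finset.sum_const, ← Nat.cast_smul_eq_nsmul ℂ, inv_smul_smul₀ (card_fs_ne H)]
    · change ρ g (q (ρ g⁻¹ v)) = v
      rw [h1 _ (hX _ (H.inv_mem (mem_fs.1 hg)) v hv), h.app_inv (mem_fs.1 hg)]
  · rw [smul_mul_assoc, mul_smul_comm, Finset.sum_mul, Finset.mul_sum, ← sum_fs_left hk]
    refine congrArg _ (Finset.sum_congr rfl fun g hg => ?_)
    have := mem_fs.1 hg
    rw [mul_assoc, ← h.mul (H.inv_mem (H.mul_mem hk this)) hk, h.mul hk this]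
    simp [mul_assoc]

theorem span_eq_top (h : Rp ρ H) (hi : IrrOn ρ H ⊤) {X : Submodule ℂ W} (h0 : X ≠ ⊥) :
    Submodule.span ℂ {v | ∃ g ∈ H, ∃ x ∈ X, ρ g x = v} = ⊤ := by
  refine (hi _ le_top fun k hk v hv => ?_).resolve_left fun h1 => h0 (eq_bot_iff.2 fun x hx => ?_)
  · refine Submodule.mem_comap.1 (Submodule.span_le.2 ?_ hv)
    rintro _ ⟨g, hg, x, hx, rfl⟩
    exact Submodule.subset_span ⟨_, H.mul_mem hk hg, x, hx, (h.app hk hg x).symm⟩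
  · exact h1.le (Submodule.subset_span ⟨1, H.one_mem, x, hx, by rw [h.one]; rfl⟩)

theorem tr_adj [FiniteDimensional ℂ W] {B : LinearMap.BilinForm ℂ W} (hB : B.Nondegenerate)
    {A A' : End ℂ W} (h : ∀ v w, B (A v) w = B v (A' w)) :
    LinearMap.trace ℂ W A = LinearMap.trace ℂ W A' := by
  rw [← LinearMap.trace_transpose' A', ← LinearMap.trace_conj' A (B.toDual hB)]
  congr 1
  ext φ w
  obtain ⟨v, rfl⟩ := (B.toDual hB).surjective φ
  simp [LinearMap.BilinForm.toDual_def, h, Dual.transpose_apply]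

theorem integral_trace [FiniteDimensional ℂ W] {A : End ℂ W} {m : ℕ} (hm : 0 < m)
    (h : A ^ (m + 1) = A) : IsIntegral ℤ (LinearMap.trace ℂ W A) := by
  rw [End.trace_eq_sum_roots_charpoly_of_splits (IsAlgClosed.splits _)]
  refine IsIntegral.multiset_sum fun x hx => ?_
  obtain ⟨v, hv⟩ := ((End.hasEigenvalue_iff_isRoot_charpoly A x).2
    (Polynomial.isRoot_of_mem_roots hx)).exists_hasEigenvector
  have h1 := hv.pow_apply (m + 1)
  rw [h, hv.apply_eq_smul] at h1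
  refine ⟨Polynomial.X ^ (m + 1) - Polynomial.X, Polynomial.monic_X_pow_sub ?_, ?_⟩
  · rw [Polynomial.degree_X]; exact_mod_cast Nat.succ_lt_succ hm
  · simp [← smul_left_injective ℂ hv.2 h1]

theorem sum_trace_integral [Finite Γ] [FiniteDimensional ℂ W] {K : Γ → End ℂ W}
    (h : ∀ g ∈ H, ∀ k ∈ H, K (g * k) = K g * K k) {Q : Subgroup Γ} (hQ : Q ≤ H) {c : Γ}
    (hc : c ∈ H) (hc' : ∀ u ∈ Q, Commute c u) :
    ∃ a : ℂ, IsIntegral ℤ a ∧ ∑ u ∈ fs Q, LinearMap.trace ℂ W (K (c * u)) = Nat.card Q * a := by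
  have h1 : ∀ j : ℕ, (((fs Q).card : ℂ)⁻¹ • ∑ u ∈ fs Q, K (c * u)) ^ (j + 1) =
      ((fs Q).card : ℂ)⁻¹ • ∑ u ∈ fs Q, K (c ^ (j + 1) * u) := fun j => by
    induction j with
    | zero => simp
    | succ j ih =>
      rw [pow_succ, ih, smul_mul_smul_comm, Finset.sum_mul, Finset.sum_congr rfl
        (g := fun _ => ∑ u ∈ fs Q, K (c ^ (j + 1 + 1) * u)) fun u hu => ?_, Finset.sum_const,
        ← Nat.cast_smul_eq_nsmul ℂ, smul_smul, inv_mul_cancel_right₀ (card_fs_ne Q)]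
      have hu := mem_fs.1 hu
      rw [Finset.mul_sum, ← sum_fs_left hu (fun u => K (c ^ (j + 1 + 1) * u))]
      refine Finset.sum_congr rfl fun x hx => ?_
      rw [← h _ (H.mul_mem (H.pow_mem hc _) (hQ hu)) _ (H.mul_mem hc (hQ (mem_fs.1 hx))),
        pow_succ c (j + 1), mul_assoc, ← mul_assoc u, ← (hc' u hu).eq]
      simp only [mul_assoc]
  refine ⟨_, integral_trace (orderOf_pos c) ((h1 _).trans (by
    rw [pow_succ, pow_orderOf_eq_one, one_mul])), ?_⟩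
  rw [map_smul, map_sum, smul_eq_mul, ← card_fs, mul_inv_cancel_left₀ (card_fs_ne Q)]

theorem sum_norm_integral [Finite Γ] [FiniteDimensional ℂ W] (h : Rp ρ H) {p : End ℂ W}
    (hp : p * p = p) (hp' : ∀ g ∈ H, p * ρ g = ρ g * p) {Q : Subgroup Γ} (hQ : Q ≤ H) {c : Γ}
    (hc : c ∈ H) (hc' : ∀ u ∈ Q, Commute c u) :
    ∃ a : ℂ, IsIntegral ℤ a ∧ ∑ u ∈ fs Q, LinearMap.trace ℂ W (ρ (c * u) * p) *
      LinearMap.trace ℂ W (ρ (c * u)⁻¹) = Nat.card Q * a := by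
  obtain ⟨a, h1, h2⟩ := sum_trace_integral (H := H) (K := fun g => TensorProduct.map (ρ g * p)
    (Dual.transpose (R := ℂ) (ρ g⁻¹))) (fun g hg k hk => by
      rw [← TensorProduct.map_mul, h.mul hg hk, mul_inv_rev, h.mul (H.inv_mem hk) (H.inv_mem hg),
        mul_assoc (ρ g) p, ← mul_assoc p, hp' k hk, mul_assoc (ρ k), hp, mul_assoc]
      rfl) hQ hc hc'
  refine ⟨a, h1, ?_⟩
  simpa only [LinearMap.trace_tensorProduct', LinearMap.trace_transpose'] using h2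

end Rep

variable (s : Γ →* ℤˣ)

/-- The even part of a subgroup. -/
abbrev Ev (Δ : Subgroup Γ) : Subgroup Γ := Δ ⊓ s.ker

/-- The odd part of a subgroup. -/
def Od (Δ : Subgroup Γ) (x : Γ) : Prop := x ∈ Δ ∧ s x = -1

/-- Twisted symplectic modules. -/
structure TS (Δ : Subgroup Γ) (W : Type) [AddCommGroup W] [Module ℂ W] where
  ρ : Γ → End ℂ W
  b : Γ → LinearMap.BilinForm ℂ W
  rp : Rp ρ (Ev s Δ)
  left : ∀ {g x}, g ∈ Ev s Δ → Od s Δ x → ∀ v w, b (g * x) (ρ g v) w = b x v w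
  skew : ∀ {x}, Od s Δ x → ∀ v w, b x⁻¹ v w = -b x w v
  nd : ∀ {x}, Od s Δ x → ∀ v, (∀ w, b x v w = 0) → v = 0

/-- There are no irreducible twisted symplectic modules. -/
def NS (Δ : Subgroup Γ) : Prop := ∀ (W : Type) [AddCommGroup W] [Module ℂ W]
  [FiniteDimensional ℂ W] [Nontrivial W] (T : TS s Δ W), ¬ IrrOn T.ρ (Ev s Δ) ⊤

/-- The inductive property. -/
def Good (Δ : Subgroup Γ) : Prop := (∃ x, Od s Δ x) → NS s Δ ∧ ∃ y, Od s Δ y ∧ y * y = 1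

variable {s} {Δ Δ' : Subgroup Γ} {x y g : Γ}

theorem mem_Ev : g ∈ Ev s Δ ↔ g ∈ Δ ∧ s g = 1 := Iff.rfl

theorem ev_or_od (h : g ∈ Δ) : g ∈ Ev s Δ ∨ Od s Δ g :=
  (Int.units_eq_one_or (s g)).imp (fun e => ⟨h, e⟩) fun e => ⟨h, e⟩

theorem Od.inv (h : Od s Δ x) : Od s Δ x⁻¹ := ⟨Δ.inv_mem h.1, by rw [map_inv, h.2]; rfl⟩

theorem Od.mul (h : Od s Δ x) (h' : Od s Δ y) : x * y ∈ Ev s Δ :=
  mem_Ev.2 ⟨Δ.mul_mem h.1 h'.1, by rw [map_mul, h.2, h'.2]; simp⟩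

theorem Od.lmul (h : Od s Δ x) (hg : g ∈ Ev s Δ) : Od s Δ (g * x) :=
  ⟨Δ.mul_mem hg.1 h.1, by rw [map_mul, h.2, (mem_Ev.1 hg).2, one_mul]⟩

theorem Od.rmul (h : Od s Δ x) (hg : g ∈ Ev s Δ) : Od s Δ (x * g) :=
  ⟨Δ.mul_mem h.1 hg.1, by rw [map_mul, h.2, (mem_Ev.1 hg).2, mul_one]⟩

theorem Od.mono (h : Od s Δ x) (h' : Δ ≤ Δ') : Od s Δ' x := ⟨h' h.1, h.2⟩

theorem Ev.mono (h' : Δ ≤ Δ') : Ev s Δ ≤ Ev s Δ' := inf_le_inf_right _ h'

theorem Ev.conj (hg : g ∈ Ev s Δ) (hx : x ∈ Δ) : x * g * x⁻¹ ∈ Ev s Δ :=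
  ⟨Δ.mul_mem (Δ.mul_mem hx hg.1) (Δ.inv_mem hx), s.normal_ker.conj_mem _ hg.2 x⟩

theorem Ev.conj' (hg : g ∈ Ev s Δ) (hx : x ∈ Δ) : x⁻¹ * g * x ∈ Ev s Δ := by
  simpa using Ev.conj hg (Δ.inv_mem hx)

namespace TS

variable {W : Type} [AddCommGroup W] [Module ℂ W] (T : TS s Δ W)

/-- Restriction to a subgroup. -/
def mono (h : Δ' ≤ Δ) : TS s Δ' W :=
  ⟨T.ρ, T.b, T.rp.mono (Ev.mono h), fun a b => T.left (Ev.mono h a) (b.mono h),
    fun a => T.skew (a.mono h), fun a => T.nd (a.mono h)⟩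

theorem right (hg : g ∈ Ev s Δ) (hx : Od s Δ x) (v w : W) :
    T.b (x * g) v w = T.b x v (T.ρ g w) := by
  have h1 := T.skew (hx.rmul hg).inv v w
  have h2 := T.left ((Ev s Δ).inv_mem hg) hx.inv (T.ρ g w) v
  rw [T.rp.inv_app hg, T.skew hx, ← mul_inv_rev] at h2
  rw [inv_inv] at h1
  rw [h1, h2, neg_neg]

theorem adj (hg : g ∈ Ev s Δ) (hx : Od s Δ x) (v w : W) :
    T.b x (T.ρ g v) w = T.b x v (T.ρ (x⁻¹ * g⁻¹ * x) w) := by
  have h1 := (Ev s Δ).inv_mem hg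
  rw [← T.right (Ev.conj' h1 hx.1) hx, ← T.left h1 hx, T.rp.inv_app hg]
  simp [mul_assoc]

theorem nondeg (hx : Od s Δ x) : (T.b x).Nondegenerate :=
  ⟨T.nd hx, fun v hv => T.nd hx.inv v fun w => by rw [T.skew hx, hv, neg_zero]⟩

theorem tr_tw [FiniteDimensional ℂ W] (hg : g ∈ Ev s Δ) (hx : Od s Δ x) :
    LinearMap.trace ℂ W (T.ρ (x * g⁻¹ * x⁻¹)) = LinearMap.trace ℂ W (T.ρ g) := by
  simpa using (tr_adj (T.nondeg hx.inv) (T.adj hg hx.inv)).symm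

theorem perp_symm (hx : Od s Δ x) {X : Submodule ℂ W} (hX : Inv T.ρ (Ev s Δ) X) {v : W}
    (h : ∀ w ∈ X, T.b x v w = 0) (w : W) (hw : w ∈ X) : T.b x w v = 0 := by
  have h1 := T.right (hx.inv.mul hx.inv) hx v w
  rw [h _ (hX _ (hx.inv.mul hx.inv) w hw), mul_inv_cancel_left, T.skew hx] at h1
  exact neg_eq_zero.1 h1

/-- Construction from an involution. -/
noncomputable def ofInv (hy : Od s Δ y) (hy' : y * y = 1) {ρ : Γ → End ℂ W} (h : Rp ρ (Ev s Δ))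
    (B : LinearMap.BilinForm ℂ W) (h1 : ∀ v w, B v w = -B w v)
    (h2 : ∀ v, (∀ w, B v w = 0) → v = 0)
    (h3 : ∀ g ∈ Ev s Δ, ∀ v w, B (ρ g v) w = B v (ρ (y * g⁻¹ * y) w)) : TS s Δ W where
  ρ := ρ
  b x := B ∘ₗ ρ (y * x⁻¹)
  rp := h
  left hg hx v w := by
    simp only [LinearMap.comp_apply]
    rw [h.app (hy.mul (hx.lmul hg).inv) hg]; simp [mul_assoc]
  skew hx v w := by
    simp only [LinearMap.comp_apply]
    rw [h3 _ (hy.mul hx.inv.inv), h1, inv_inv, mul_inv_rev, mul_assoc, inv_mul_cancel_right]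
  nd hx v hv := by
    rw [← h.inv_app (hy.mul hx.inv) v, h2 _ hv, map_zero]

end TS

open scoped Classical in
/-- Restriction of an operator to a subspace. -/
noncomputable def res {W : Type*} [AddCommGroup W] [Module ℂ W] (X : Submodule ℂ W) (f : End ℂ W) :
    End ℂ X := if h : ∀ v ∈ X, f v ∈ X then f.restrict h else 0

theorem res_coe {W : Type*} [AddCommGroup W] [Module ℂ W] {X : Submodule ℂ W} {f : End ℂ W}
    (h : ∀ v ∈ X, f v ∈ X) (v : X) : (res X f v : W) = f v := by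
  rw [res, dif_pos h]; rfl

variable {W : Type} [AddCommGroup W] [Module ℂ W] [FiniteDimensional ℂ W]

theorem NS.iso (h : NS s Δ) (T : TS s Δ W) (hy : Od s Δ y) {X : Submodule ℂ W}
    (h1 : Inv T.ρ (Ev s Δ) X) (h2 : IrrOn T.ρ (Ev s Δ) X) : ∀ v ∈ X, ∀ w ∈ X, T.b y v w = 0 := by
  by_contra h3
  have h4 : ∀ v ∈ X, (∀ w ∈ X, T.b y v w = 0) → v = 0 := fun v hv h5 => by
    rcases h2 (X ⊓ ⨅ w ∈ X, LinearMap.ker ((T.b y).flip w)) inf_le_left (fun g hg u hu =>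
      ⟨h1 g hg u hu.1, by
        have := hu.2
        simp only [SetLike.mem_coe, Submodule.mem_iInf, LinearMap.mem_ker] at this ⊢
        exact fun w hw => (T.adj hg hy _ _).trans
          (this _ (h1 _ (Ev.conj' ((Ev s Δ).inv_mem hg) hy.1) w hw))⟩) with h6 | h6
    · exact h6.le ⟨hv, by simpa using h5⟩
    · exact (h3 fun v hv => by simpa using (h6.ge hv).2).elim
  haveI : Nontrivial X := Submodule.nontrivial_iff_ne_bot.2 (by
    rintro rfl; exact h3 fun v hv w _ => by simp [(Submodule.mem_bot ℂ).1 hv])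
  refine h X ⟨fun g => res X (T.ρ g), fun x => (T.b x).restrict X, ⟨?_, fun hg hk => ?_⟩,
    fun hg hx v w => ?_, fun hx v w => T.skew hx _ _, fun {x} hx v hv => ?_⟩ fun Y _ hY => ?_
  · ext v; rw [res_coe (h1 _ (one_mem _)), T.rp.one]; rfl
  · ext v
    rw [res_coe (h1 _ (mul_mem hg hk)), End.mul_apply, res_coe (h1 _ hg), res_coe (h1 _ hk),
      T.rp.app hg hk]
  · simp only [LinearMap.BilinForm.restrict_apply, LinearMap.domRestrict_apply]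
    rw [res_coe (h1 _ hg), T.left hg hx]
  · have h5 := hy.mul hx.inv
    have h6 := h4 _ (h1 _ h5 v v.2) fun w hw => by
      have := T.left h5 hx v w
      rw [inv_mul_cancel_right] at this
      exact this.trans (hv ⟨w, hw⟩)
    exact Subtype.ext (by rw [← T.rp.inv_app h5 v, h6, map_zero]; rfl)
  · refine (h2 (Y.map X.subtype) (X.map_subtype_le Y) ?_).imp (fun e => ?_) fun e => ?_
    · rintro g hg _ ⟨v, hv, rfl⟩
      exact ⟨_, hY g hg v hv, res_coe (h1 _ hg) v⟩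
    · exact Submodule.map_injective_of_injective X.injective_subtype (by simpa using e)
    · exact Submodule.map_injective_of_injective X.injective_subtype (by simpa using e)

theorem NS.hyp [Finite Γ] (h : NS s Δ) (T : TS s Δ W) (hy : Od s Δ y) :
    ∃ p : End ℂ W, p * p = p ∧ (∀ g ∈ Ev s Δ, p * T.ρ g = T.ρ g * p) ∧
      ∀ g ∈ Ev s Δ, LinearMap.trace ℂ W (T.ρ g) = LinearMap.trace ℂ W (T.ρ g * p) +
        LinearMap.trace ℂ W (T.ρ (y⁻¹ * g⁻¹ * y) * p) := by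
  obtain ⟨X, ⟨h1, h2⟩, h3⟩ := exists_maximal_of_wellFoundedGT (fun X : Submodule ℂ W =>
    Inv T.ρ (Ev s Δ) X ∧ ∀ v ∈ X, ∀ w ∈ X, T.b y v w = 0) ⟨⊥, fun g _ v hv => by
      simp [(Submodule.mem_bot ℂ).1 hv], fun v hv w _ => by simp [(Submodule.mem_bot ℂ).1 hv]⟩
  obtain ⟨p, p1, p2, p3⟩ := maschke T.rp h1
  set q := (T.b y).leftAdjointOfNondegenerate (T.nondeg hy) p
  have q1 : ∀ v w, T.b y (q v) w = T.b y v (p w) :=
    (T.b y).isAdjointPairLeftAdjointOfNondegenerate (T.nondeg hy) p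
  have q2 : ∀ v, q v = 0 ↔ ∀ w ∈ X, T.b y v w = 0 := fun v =>
    ⟨fun e w hw => by rw [← p2 w hw, ← q1, e, LinearMap.map_zero₂],
      fun e => T.nd hy _ fun w => by rw [q1, e _ (p1 w)]⟩
  have h4 : LinearMap.ker q ⊓ LinearMap.ker p = ⊥ := by
    by_contra h4
    obtain ⟨M, m1, m2, m3, m4⟩ := exists_irrOn (ρ := T.ρ) (H := Ev s Δ)
      (X := LinearMap.ker q ⊓ LinearMap.ker p) (fun g hg v hv => ⟨by
      rw [SetLike.mem_coe, LinearMap.mem_ker, q2]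
      exact fun w hw => (T.adj hg hy _ _).trans ((q2 v).1 hv.1 _
        (h1 _ (Ev.conj' ((Ev s Δ).inv_mem hg) hy.1) w hw)), by
      rw [SetLike.mem_coe, LinearMap.mem_ker, ← End.mul_apply, p3 g hg, End.mul_apply,
        LinearMap.mem_ker.1 hv.2, map_zero]⟩) h4
    have m5 := h3 (y := X ⊔ M) ⟨fun g hg v hv => ?_, fun v hv w hw => ?_⟩ le_sup_left
    · refine m2 (eq_bot_iff.2 fun v hv => ?_)
      rw [← p2 v (m5 (Submodule.mem_sup_right hv))]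
      exact (m1 hv).2
    · obtain ⟨a, ha, b, hb, rfl⟩ := Submodule.mem_sup.1 hv
      rw [map_add]; exact Submodule.add_mem_sup (h1 g hg a ha) (m3 g hg b hb)
    · obtain ⟨a, ha, b, hb, rfl⟩ := Submodule.mem_sup.1 hv
      obtain ⟨a', ha', b', hb', rfl⟩ := Submodule.mem_sup.1 hw
      simp only [map_add, LinearMap.add_apply]
      rw [h2 a ha a' ha', (q2 b).1 (m1 hb).1 a' ha', h.iso T hy m3 m4 b hb b' hb',
        T.perp_symm hy h1 ((q2 b').1 (m1 hb').1) a ha]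
      simp
  have h5 : ∀ v, q (p v) = 0 := fun v => (q2 _).2 (h2 _ (p1 v))
  have h6 : ∀ v, q v = 0 → p v = v := fun v hv => by
    have : v - p v ∈ LinearMap.ker q ⊓ LinearMap.ker p := ⟨by simp [hv, h5], by simp [p2 _ (p1 v)]⟩
    rw [h4] at this
    exact (sub_eq_zero.1 this).symm
  have h7 : q * (1 - p) = q := LinearMap.ext fun v => by simp [h5]
  have h8 : (1 - p) * q = 1 - p := LinearMap.ext fun v => by
    have := h6 (v - q v) (T.nd hy _ fun w => by simp [q1, p2 _ (p1 w)])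
    rw [map_sub, sub_eq_sub_iff_sub_eq_sub] at this
    simp only [End.mul_apply, LinearMap.sub_apply, End.one_apply]
    rw [← neg_sub, ← this, neg_sub]
  refine ⟨p, LinearMap.ext fun v => p2 _ (p1 v), p3, fun g hg => ?_⟩
  rw [← tr_adj (T.nondeg hy) (A := q * T.ρ g) (A' := T.ρ (y⁻¹ * g⁻¹ * y) * p) fun v w => by
    rw [End.mul_apply, q1, T.adj hg hy]; rfl]
  have h9 : (1 - p) * T.ρ g = T.ρ g * (1 - p) := by rw [sub_mul, mul_sub, p3 g hg]; simp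
  rw [← h7, mul_assoc, LinearMap.trace_mul_comm _ q, h9, mul_assoc, h8, ← map_add, ← mul_add]
  simp

end CF.FSo
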