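/-
Twisted symplectic modules: the local criterion.
-/
import Cfsg.Agent.FSo.A1

set_option autoImplicit false

namespace CF.FSo

open Module MulAction

/-- Divisibility in the ring of algebraic integers. -/
def Dv (n z : ℂ) : Prop := ∃ a, IsIntegral ℤ a ∧ z = n * a

theorem Dv.sum {ι : Type*} {n : ℂ} {S : Finset ι} {f : ι → ℂ} (h : ∀ i ∈ S, Dv n (f i)) :
    Dv n (∑ i ∈ S, f i) :=
  Finset.sum_induction f (Dv n) (fun _ _ ⟨a, ha, e⟩ ⟨b, hb, e'⟩ =>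
    ⟨a + b, ha.add hb, by rw [e, e', mul_add]⟩) ⟨0, isIntegral_zero, by simp⟩ h

theorem Dv.dvd {n m : ℕ} (hn : n ≠ 0) (h : Dv n m) : n ∣ m := by
  obtain ⟨a, ha, e⟩ := h
  have h0 : (n : ℂ) ≠ 0 := Nat.cast_ne_zero.2 hn
  have h1 : a = algebraMap ℚ ℂ (m / n) := by simp [e, h0]
  rw [h1, isIntegral_algebraMap_iff (algebraMap ℚ ℂ).injective] at ha
  obtain ⟨z, hz⟩ := IsIntegrallyClosed.isIntegral_iff.1 ha
  refine Int.natCast_dvd_natCast.1 ⟨z, ?_⟩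
  have : (m : ℚ) = n * z := by
    rw [show (z : ℚ) = m / n from hz, mul_div_cancel₀ _ (Nat.cast_ne_zero.2 hn)]
  exact_mod_cast this

theorem dv_orb (G : Type*) {Y : Type*} [Group G] [MulAction G Y] [Fintype Y] {n : ℂ} {f : Y → ℂ}
    (h1 : ∀ (g : G) y, f (g • y) = f y) (h2 : ∀ y, Dv n ((stabilizer G y).index * f y)) :
    Dv n (∑ y, f y) := by
  classical
  haveI := Fintype.ofFinite (orbitRel.Quotient G Y)
  rw [← Finset.sum_fiberwise Finset.univ (Quotient.mk (orbitRel G Y))]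
  refine Dv.sum fun q _ => ?_
  obtain ⟨y, rfl⟩ := q.exists_rep
  convert h2 y using 1
  rw [Finset.sum_congr rfl (g := fun _ => f y) fun x hx => ?_, Finset.sum_const, nsmul_eq_mul,
    index_stabilizer, ← Set.ncard_coe_finset]
  · congr 3; ext x; simp [Quotient.eq, orbitRel_apply]
  · obtain ⟨g, rfl⟩ := Quotient.exact (Finset.mem_filter.1 hx).2
    exact h1 g y

variable {Γ : Type*} [Group Γ] (s : Γ →* ℤˣ)

/-- The twisted conjugation action. -/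
def tw (x g : Γ) : Γ := x * g ^ (s x : ℤ) * x⁻¹

/-- The group with the twisted conjugation action. -/
def Tw (_s : Γ →* ℤˣ) : Type _ := Γ

theorem tw_mul (x y g : Γ) : tw s (x * y) g = tw s x (tw s y g) := by
  rw [tw, tw, tw, conj_zpow, ← zpow_mul, map_mul, Units.val_mul, mul_comm (s x : ℤ)]
  simp only [mul_assoc, mul_inv_rev]

theorem tw_one (g : Γ) : tw s 1 g = g := by simp [tw]

instance : MulAction Γ (Tw s) where
  smul := tw s
  one_smul := tw_one s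
  mul_smul := tw_mul s

variable {s} {Δ Δ' : Subgroup Γ} {x y g : Γ}

theorem tw_ev (h : s x = 1) (g : Γ) : tw s x g = x * g * x⁻¹ := by simp [tw, h]

theorem tw_od (h : s x = -1) (g : Γ) : tw s x g = x * g⁻¹ * x⁻¹ := by simp [tw, h]

theorem tw_pow (x g : Γ) (e : ℕ) : tw s x (g ^ e) = tw s x g ^ e := by
  rw [tw, tw, conj_pow, ← zpow_natCast, ← zpow_natCast, ← zpow_mul, ← zpow_mul, mul_comm (e : ℤ)]

theorem tw_inv_tw (x g : Γ) : tw s x⁻¹ (tw s x g) = g := by rw [← tw_mul, inv_mul_cancel, tw_one]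

theorem tw_tw_inv (x g : Γ) : tw s x (tw s x⁻¹ g) = g := by rw [← tw_mul, mul_inv_cancel, tw_one]

theorem tw_mem (hx : x ∈ Δ) (hg : g ∈ Ev s Δ) : tw s x g ∈ Ev s Δ := Ev.conj (zpow_mem hg _) hx

theorem tw_comm {c u : Γ} (h : Commute c u) (x : Γ) : tw s x (c * u) = tw s x c * tw s x u := by
  simp [tw, h.mul_zpow]

theorem card_ev (hy : Od s Δ y) : Nat.card Δ = 2 * Nat.card (Ev s Δ) := by
  rw [← ((Ev s Δ).subgroupOf Δ).index_mul_card,
    Nat.card_congr (Subgroup.subgroupOfEquivOfLe inf_le_left).toEquiv,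
    Subgroup.index_eq_two_iff.2 ⟨⟨y, hy.1⟩, fun b => ?_⟩]
  simp only [Subgroup.mem_subgroupOf, mem_Ev, SetLike.coe_mem, true_and, Subgroup.coe_mul, map_mul,
    hy.2, mul_mem b.2 hy.1]
  rcases Int.units_eq_one_or (s b) with h | h <;> simp [h]

open scoped Classical in
theorem frob [Fintype Γ] {f : Γ → ℂ} (h1 : ∀ u, s u = 1 → IsIntegral ℤ (f u))
    (h2 : ∀ x u, s u = 1 → f (tw s x u) = f u)
    (h3 : ∀ Q : Subgroup Γ, IsPGroup 2 Q → Dv (Nat.card Q) (∑ u ∈ fs (Ev s Q), f u))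
    {k : ℕ} (hk : 2 ^ k ∣ Nat.card Γ) :
    Dv (2 ^ k) (∑ u with s u = 1 ∧ ∃ j, u ^ 2 ^ j = 1, f u) := by
  obtain ⟨P⟩ : Nonempty (Sylow 2 Γ) := inferInstance
  obtain ⟨N, hN⟩ : ∃ N, (2 ^ k).totient = N + 1 :=
    Nat.exists_eq_succ_of_ne_zero (Nat.totient_pos.2 (by positivity)).ne'
  have a1 : ∀ q : Γ ⧸ (P : Subgroup Γ), IsPGroup 2 (stabilizer Γ q) := fun q => by
    obtain ⟨g, rfl⟩ := QuotientGroup.mk_surjective q
    have := stabilizer_smul_eq_stabilizer_map_conj g ((1 : Γ) : Γ ⧸ (P : Subgroup Γ))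
    rw [stabilizer_quotient, Quotient.smul_coe, smul_eq_mul, mul_one] at this
    rw [this]; exact P.isPGroup'.map _
  have a2 : ∀ x : Fin (N + 1) → Γ ⧸ (P : Subgroup Γ), IsPGroup 2 (stabilizer Γ x) := fun x =>
    (a1 (x 0)).to_le fun g hg => congrFun (mem_stabilizer_iff.1 hg) 0
  have a3 := dv_orb Γ (n := 2 ^ k) (f := fun x : Fin (N + 1) → Γ ⧸ (P : Subgroup Γ) =>
    ∑ u ∈ fs (Ev s (stabilizer Γ x)), f u) (fun g x => ?_) fun x => ?_
  · have a4 : ∀ x : Fin (N + 1) → Γ ⧸ (P : Subgroup Γ), ∑ u ∈ fs (Ev s (stabilizer Γ x)), f u =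
        ∑ u with s u = 1 ∧ ∃ j, u ^ 2 ^ j = 1, if u • x = x then f u else 0 := fun x => by
      rw [← Finset.sum_filter]
      congr 1; ext u
      simp only [mem_fs, mem_Ev, mem_stabilizer_iff, Finset.mem_filter, Finset.mem_univ, true_and]
      exact ⟨fun h => ⟨⟨h.2, (a2 x ⟨u, h.1⟩).imp fun j hj => congrArg Subtype.val hj⟩, h.1⟩,
        fun h => ⟨h.2, h.1.1⟩⟩
    simp only [a4] at a3
    rw [Finset.sum_comm] at a3
    obtain ⟨a, ha, e⟩ := a3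
    have a5 := Dv.sum (n := 2 ^ k) (S := {u | s u = 1 ∧ ∃ j, u ^ 2 ^ j = 1}) (f := fun u =>
      (∑ x : Fin (N + 1) → Γ ⧸ (P : Subgroup Γ), if u • x = x then f u else 0) - f u) fun u hu => ?_
    · obtain ⟨b, hb, e'⟩ := a5
      rw [Finset.sum_sub_distrib, e] at e'
      exact ⟨a - b, ha.sub hb, by linear_combination -e'⟩
    obtain ⟨h4, j, h5⟩ := (Finset.mem_filter.1 hu).2
    have a6 : IsPGroup 2 (Subgroup.zpowers u) := by
      obtain ⟨i, -, hi⟩ := (Nat.dvd_prime_pow Nat.prime_two).1 (orderOf_dvd_of_pow_eq_one h5)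
      exact .of_card (by rw [Nat.card_zpowers, hi])
    have a7 := a6.card_modEq_card_fixedPoints (Γ ⧸ (P : Subgroup Γ))
    have a8 : (Finset.univ.filter fun x : Fin (N + 1) → Γ ⧸ (P : Subgroup Γ) => u • x = x).card =
        Nat.card (fixedPoints (Subgroup.zpowers u) (Γ ⧸ (P : Subgroup Γ))) ^ (N + 1) := by
      rw [← Nat.card_fin (N + 1), ← Nat.card_fun, ← Fintype.card_subtype, ← Nat.card_eq_fintype_card,
        Nat.card_fin]
      refine Nat.card_congr ((Equiv.subtypeEquivRight fun x => ?_).trans Equiv.subtypePiEquivPi)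
      refine funext_iff.trans (forall_congr' fun i => ⟨fun h g => ?_, fun h => h ⟨u, by simp⟩⟩)
      exact (Subgroup.zpowers_le (H := stabilizer Γ (x i))).2 h g.2
    have a9 := Nat.ModEq.pow_totient (n := 2 ^ k) (Nat.Coprime.pow_right k
      (Nat.coprime_comm.1 ((Nat.Prime.coprime_iff_not_dvd Nat.prime_two).2 fun h =>
        P.not_dvd_index ((a7.dvd_iff dvd_rfl).2 h))))
    rw [hN, ← a8] at a9
    obtain ⟨m, hm⟩ := a9.symm.dvd
    refine ⟨m * f u, (isIntegral_algebraMap (R := ℤ) (x := m)).mul (h1 u h4), ?_⟩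
    rw [← Finset.sum_filter, Finset.sum_const, nsmul_eq_mul, ← mul_assoc, ← sub_one_mul]
    congr 1; exact_mod_cast hm
  · refine Finset.sum_nbij' (tw s g⁻¹) (tw s g) (fun u hu => ?_) (fun u hu => ?_)
      (fun u _ => tw_tw_inv g u) (fun u _ => tw_inv_tw g u) fun u hu => (h2 _ _ (mem_fs.1 hu).2).symm
    · rw [mem_fs] at hu ⊢
      refine ⟨?_, (tw_mem (Δ := ⊤) trivial ⟨trivial, hu.2⟩).2⟩
      change tw s g⁻¹ u • x = x
      rw [tw, inv_inv, mul_smul, mul_smul,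
        mem_stabilizer_iff.1 (zpow_mem (mem_Ev.1 hu).1 _), inv_smul_smul]
    · rw [mem_fs] at hu ⊢
      refine ⟨?_, (tw_mem (Δ := ⊤) trivial ⟨trivial, hu.2⟩).2⟩
      change tw s g u • g • x = g • x
      rw [tw, mul_smul, mul_smul, inv_smul_smul,
        mem_stabilizer_iff.1 (zpow_mem (mem_Ev.1 hu).1 _)]
  · obtain ⟨a, ha, e⟩ := h3 _ (a2 x)
    obtain ⟨m, hm⟩ := hk
    refine ⟨m * a, (isIntegral_natCast m).mul ha, ?_⟩
    rw [e, ← mul_assoc, ← Nat.cast_mul, Subgroup.index_mul_card, hm]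
    push_cast; ring

theorem exists_od (Γ : Type*) [Group Γ] [Finite Γ] : ∃ e : ℕ, (∀ g : Γ, Odd (orderOf (g ^ e))) ∧
    (∀ g : Γ, ∃ j, ((g ^ e)⁻¹ * g) ^ 2 ^ j = 1) ∧ (∀ c : Γ, Odd (orderOf c) → c ^ e = c) ∧
    ∀ (u : Γ) (j : ℕ), u ^ 2 ^ j = 1 → u ^ e = 1 := by
  obtain ⟨a, m, hm, e⟩ := Nat.exists_eq_two_pow_mul_odd (Nat.card_pos (α := Γ)).ne'
  have h1 : (2 ^ a).Coprime m := (Nat.coprime_two_left.2 hm).pow_left a
  have h2 := Nat.ModEq.pow_totient h1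
  have h3 : 2 ^ a ∣ (2 ^ a) ^ m.totient := dvd_pow_self _ (Nat.totient_pos.2 hm.pos).ne'
  generalize (2 ^ a) ^ m.totient = t at h2 h3
  have h4 : ∀ g : Γ, orderOf g ∣ 2 ^ a * m := fun g => e ▸ orderOf_dvd_natCard g
  refine ⟨t, fun g => hm.of_dvd_nat (orderOf_dvd_of_pow_eq_one ?_), fun g => ⟨a, ?_⟩,
    fun c hc => ?_, fun u j hu => orderOf_dvd_iff_pow_eq_one.1 (dvd_trans ?_ h3)⟩
  · rw [← pow_mul]
    exact orderOf_dvd_iff_pow_eq_one.1 ((h4 g).trans (Nat.mul_dvd_mul_right h3 m))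
  · rw [((Commute.refl g).pow_left t).inv_left.mul_pow, inv_pow, inv_mul_eq_one, ← pow_mul,
      pow_eq_pow_iff_modEq, mul_comm]
    simpa using (h2.mul_left' (2 ^ a)).of_dvd (h4 g)
  · conv_rhs => rw [← pow_one c]
    rw [pow_eq_pow_iff_modEq]
    exact h2.of_dvd (((Nat.coprime_two_right.2 hc).pow_right a).dvd_of_dvd_mul_left (h4 c))
  · exact (((Nat.coprime_two_left.2 hm).pow_left j).coprime_dvd_left
      (orderOf_dvd_of_pow_eq_one hu)).dvd_of_dvd_mul_right (h4 u)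

variable {W : Type} [AddCommGroup W] [Module ℂ W] [FiniteDimensional ℂ W]

/-- The square of the absolute value of the character. -/
noncomputable def TS.nm (T : TS s Δ W) (g : Γ) : ℂ :=
  LinearMap.trace ℂ W (T.ρ g) * LinearMap.trace ℂ W (T.ρ g⁻¹)

theorem TS.tr_tw' (T : TS s Δ W) (hx : x ∈ Δ) (hg : g ∈ Ev s Δ) :
    LinearMap.trace ℂ W (T.ρ (tw s x g)) = LinearMap.trace ℂ W (T.ρ g) := by
  rcases ev_or_od (s := s) hx with h | h
  · rw [tw_ev h.2, T.rp.tr_conj hg h]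
  · rw [tw_od h.2, T.tr_tw hg h]

theorem TS.nm_tw (T : TS s Δ W) (hx : x ∈ Δ) (hg : g ∈ Ev s Δ) : T.nm (tw s x g) = T.nm g := by
  rw [TS.nm, TS.nm, T.tr_tw' hx hg, ← T.tr_tw' hx (inv_mem hg)]
  simp [tw, mul_assoc]

variable [Finite Γ]

theorem Rp.integral {ρ : Γ → End ℂ W} (h : Rp ρ Δ) (hg : g ∈ Δ) :
    IsIntegral ℤ (LinearMap.trace ℂ W (ρ g)) := by
  refine integral_trace (orderOf_pos g) ?_
  change h.rep ⟨g, hg⟩ ^ _ = h.rep ⟨g, hg⟩
  rw [← map_pow, pow_succ, ← Subgroup.orderOf_mk g hg, pow_orderOf_eq_one, one_mul]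

theorem NS.dv (h : NS s Δ) (T : TS s Δ W) {c : Γ} (hc : c ∈ Ev s Δ) {Q : Subgroup Γ} (hQ : Q ≤ Δ)
    (hy : Od s Q y) (h1 : ∀ x ∈ Q, tw s x c = c) :
    Dv (Nat.card Q) (∑ u ∈ fs (Ev s Q), T.nm (c * u)) := by
  obtain ⟨p, p1, p2, p3⟩ := h.hyp T (hy.inv.mono hQ)
  have h2 : ∀ u ∈ Ev s Q, Commute c u := fun u hu => by
    have := h1 u hu.1
    rw [tw_ev hu.2, mul_inv_eq_iff_eq_mul] at this
    exact this.symm
  obtain ⟨a, ha, e⟩ := sum_norm_integral T.rp p1 p2 (Ev.mono hQ) hc h2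
  refine ⟨a, ha, ?_⟩
  rw [card_ev hy, Nat.cast_mul, mul_assoc, ← e, Nat.cast_two, two_mul]
  rw [Finset.sum_congr rfl fun u hu => by
    rw [TS.nm, p3 _ (mul_mem hc (Ev.mono hQ (mem_fs.1 hu))), add_mul], Finset.sum_add_distrib]
  congr 1
  refine Finset.sum_nbij' (tw s y) (tw s y⁻¹) (fun u hu => mem_fs.2 (tw_mem hy.1 (mem_fs.1 hu)))
    (fun u hu => mem_fs.2 (tw_mem hy.inv.1 (mem_fs.1 hu))) (fun u _ => tw_inv_tw y u)
    (fun u _ => tw_tw_inv y u) fun u hu => ?_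
  have h3 : c * tw s y u = tw s y (c * u) := by rw [tw_comm (h2 u (mem_fs.1 hu)), h1 y hy.1]
  rw [h3, ← T.tr_tw' (hQ hy.1) (inv_mem (mul_mem hc (Ev.mono hQ (mem_fs.1 hu)))), tw_od hy.2,
    tw_od hy.2]
  simp [mul_assoc]

/-- The local criterion. -/
theorem NS.of_local (hy : Od s Δ y) (h : ∀ c ∈ Ev s Δ, Odd (orderOf c) → ∀ P ≤ Δ, IsPGroup 2 P →
    (∀ x ∈ P, tw s x c = c) → (∃ x, Od s P x) → ∃ Δ' ≤ Δ, NS s Δ' ∧ P ≤ Δ' ∧
      (c ∈ Δ' ∨ ∀ g ∈ Ev s Δ, Commute c g)) : NS s Δ := by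
  classical
  intro W _ _ _ _ T hT
  haveI := Fintype.ofFinite Γ
  obtain ⟨e, e1, e2, e3, e4⟩ := exists_od Γ
  have a1 : ∀ c ∈ Ev s Δ, Odd (orderOf c) → ∀ P ≤ Δ, IsPGroup 2 P → (∀ x ∈ P, tw s x c = c) →
      Dv (Nat.card P) (∑ u ∈ fs (Ev s P), T.nm (c * u)) := fun c hc ho P hP h1 h2 => by
    by_cases h3 : ∃ x, Od s P x
    · obtain ⟨Δ', h4, h5, h6, h7⟩ := h c hc ho P hP h1 h2 h3
      obtain ⟨x, hx⟩ := h3
      rcases h7 with h7 | h7
      · exact h5.dv (T.mono h4) ⟨h7, hc.2⟩ h6 hx h2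
      convert h5.dv (T.mono h4) (one_mem _) h6 hx (by simp [tw]) using 2 with u hu
      obtain ⟨z, hz⟩ := schur hT (A := T.ρ c) (fun _ _ => trivial) (fun g hg v _ => by
        rw [T.rp.app hc hg, T.rp.app hg hc, (h7 g hg).eq]) fun _ _ _ _ => trivial
      have h8 := Ev.mono hP (mem_fs.1 hu)
      have h9 : T.ρ c = z • 1 := LinearMap.ext fun v => hz v trivial
      have h10 : T.ρ u⁻¹ = z • T.ρ (c * u)⁻¹ := by
        rw [← mul_smul_one, ← h9, ← T.rp.mul (inv_mem (mul_mem hc h8)) hc]; simp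
      change T.nm (c * u) = T.nm (1 * u)
      rw [one_mul, TS.nm, TS.nm, h10, T.rp.mul hc h8, h9, smul_one_mul, map_smul, map_smul]
      simp only [smul_eq_mul]; ring
    · have h4 : Ev s P = P := inf_eq_left.2 fun x hx =>
        ((ev_or_od hx).resolve_right fun h => h3 ⟨x, h⟩).2
      have h5 : P ≤ Ev s Δ := h4.ge.trans (Ev.mono hP)
      obtain ⟨a, ha, e⟩ := sum_norm_integral T.rp (one_mul 1) (by simp) h5 hc fun u hu => by
        have := h2 u hu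
        rw [tw_ev (h5 hu).2, mul_inv_eq_iff_eq_mul] at this
        exact this.symm
      exact ⟨a, ha, by simpa [h4, TS.nm] using e⟩
  letI : Fintype (Tw s) := inferInstanceAs (Fintype Γ)
  have a2 := dv_orb Δ (n := 2 ^ (Nat.card Δ).factorization 2) (f := fun c : Tw s =>
    ∑ g ∈ fs (Ev s Δ) with (g ^ e : Γ) = c, T.nm g) (fun x c => ?_) fun c => ?_
  · erw [Finset.sum_fiberwise] at a2
    have a3 := T.rp.norm_one hT
    rw [show ∑ g ∈ fs (Ev s Δ), T.nm g = _ from a3] at a2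
    refine Nat.pow_succ_factorization_not_dvd Nat.card_pos.ne' Nat.prime_two (n := Nat.card Δ) ?_
    conv_rhs => rw [card_ev hy]
    rw [pow_succ']
    exact Nat.mul_dvd_mul_left 2 (Dv.dvd (by positivity) (by simpa using a2))
  · refine Finset.sum_nbij' (tw s x⁻¹) (tw s x) (fun u hu => ?_) (fun u hu => ?_)
      (fun u _ => tw_tw_inv _ u) (fun u _ => tw_inv_tw _ u) fun u hu =>
        (T.nm_tw (inv_mem x.2) (mem_fs.1 (Finset.mem_filter.1 hu).1)).symm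
    · rw [Finset.mem_filter, mem_fs] at hu ⊢
      exact ⟨tw_mem (inv_mem x.2) hu.1, by rw [← tw_pow, hu.2]; exact tw_inv_tw _ _⟩
    · rw [Finset.mem_filter, mem_fs] at hu ⊢
      exact ⟨tw_mem x.2 hu.1, by rw [← tw_pow, hu.2]; rfl⟩
  by_cases h1 : ∃ g ∈ Ev s Δ, g ^ e = c
  swap
  · rw [Finset.filter_false_of_mem fun g hg h2 => h1 ⟨g, mem_fs.1 hg, h2⟩]
    exact ⟨0, isIntegral_zero, by simp⟩
  obtain ⟨c', hc, ho, rfl⟩ : ∃ c' ∈ Ev s Δ, Odd (orderOf c') ∧ c' = c := by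
    obtain ⟨g, hg, rfl⟩ := h1
    exact ⟨_, pow_mem hg e, e1 g, rfl⟩
  set S := stabilizer Δ (show Tw s from c')
  haveI := Fintype.ofFinite S
  let φ : S →* Γ := Δ.subtype.comp S.subtype
  have b0 : Function.Injective φ := Subtype.val_injective.comp Subtype.val_injective
  have b1 : ∀ x : S, tw s (φ x) c' = c' := fun x => x.2
  have b2 : ∀ u : S, s (φ u) = 1 → Commute c' (φ u) := fun u hu => by
    have := b1 u
    rw [tw_ev hu, mul_inv_eq_iff_eq_mul] at this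
    exact this.symm
  have b3 := frob (s := s.comp φ) (f := fun u => T.nm (c' * φ u)) (fun u hu => ?_)
    (fun x u hu => ?_) (fun Q hQ => ?_) (Nat.ordProj_dvd (Nat.card S) 2)
  · obtain ⟨a, ha, b3⟩ := b3
    obtain ⟨m, hm⟩ := Nat.ordProj_dvd S.index 2
    refine ⟨m * a, (isIntegral_natCast m).mul ha, ?_⟩
    rw [← S.index_mul_card, Nat.factorization_mul S.index_ne_zero_of_finite Nat.card_pos.ne',
      Finsupp.add_apply, pow_add, mul_mul_mul_comm, ← b3]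
    congr 1
    · exact_mod_cast hm
    refine (Finset.sum_bij (fun u _ => c' * φ u) (fun u hu => ?_) (fun u _ v _ h => ?_)
      (fun g hg => ?_) fun _ _ => rfl).symm
    · obtain ⟨h2, j, h3⟩ := (Finset.mem_filter.1 hu).2
      rw [Finset.mem_filter, mem_fs, (b2 u h2).mul_pow, e3 _ ho, e4 (φ u) j (by
        rw [← map_pow, h3, map_one]), mul_one]
      exact ⟨mul_mem hc ⟨u.1.2, h2⟩, rfl⟩
    · exact b0 (mul_left_cancel h)
    · rw [Finset.mem_filter, mem_fs] at hg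
      obtain ⟨h2, rfl⟩ := hg
      have h3 := mul_mem (inv_mem hc) h2
      obtain ⟨j, h4⟩ := e2 g
      refine ⟨⟨⟨_, h3.1⟩, ?_⟩, Finset.mem_filter.2 ⟨Finset.mem_univ _, h3.2, j,
        b0 (by rw [map_pow, map_one]; exact h4)⟩, mul_inv_cancel_left _ _⟩
      change tw s _ (g ^ e) = g ^ e
      rw [tw_ev h3.2]; group
  · have := mul_mem hc (mem_Ev.2 ⟨u.1.2, hu⟩)
    exact (T.rp.integral this).mul (T.rp.integral (inv_mem this))
  · have : φ (tw (s.comp φ) x u) = tw s (φ x) (φ u) := by simp [tw]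
    rw [this, ← T.nm_tw (g := c' * φ u) x.1.2 (mul_mem hc ⟨u.1.2, hu⟩), tw_comm (b2 u hu)]
    exact congrArg (fun z => T.nm (z * _)) (b1 x).symm
  · have := a1 c' hc ho (Q.map φ) (by rintro _ ⟨x, -, rfl⟩; exact x.1.2) (hQ.map φ) (by
      rintro _ ⟨x, -, rfl⟩; exact b1 x)
    rw [Subgroup.card_map_of_injective b0] at this
    convert this using 1
    refine Finset.sum_bij (fun u _ => φ u) (fun u hu => ?_) (fun u _ v _ h => b0 h)
      (fun g hg => ?_) fun _ _ => rfl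
    · rw [mem_fs] at hu ⊢
      exact ⟨⟨u, hu.1, rfl⟩, hu.2⟩
    · obtain ⟨⟨u, h2, rfl⟩, h3⟩ := mem_fs.1 hg
      exact ⟨u, mem_fs.2 ⟨h2, h3⟩, rfl⟩

end CF.FSo
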