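/-
Twisted symplectic modules: Clifford theory.
-/
import Cfsg.Agent.FSo.A2

set_option autoImplicit false

namespace CF.FSo

open Module

variable {Γ : Type*} [Group Γ]

section Rep

variable {W : Type*} [AddCommGroup W] [Module ℂ W] {ρ : Γ → End ℂ W} {H N : Subgroup Γ}

/-- Weight spaces. -/
def wt (ρ : Γ → End ℂ W) (N : Subgroup Γ) (μ : Γ → ℂ) : Submodule ℂ W where
  carrier := {v | ∀ n ∈ N, ρ n v = μ n • v}
  add_mem' ha hb n hn := by rw [map_add, ha n hn, hb n hn, smul_add]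
  zero_mem' n _ := by simp
  smul_mem' c v hv n hn := by rw [map_smul, hv n hn, smul_comm]

variable {μ : Γ → ℂ} {v₀ : W}

theorem wt_mul (h : Rp ρ N) (h0 : v₀ ≠ 0) (hμ : v₀ ∈ wt ρ N μ) {n m : Γ} (hn : n ∈ N)
    (hm : m ∈ N) : μ (n * m) = μ n * μ m :=
  smul_left_injective ℂ h0 (by
    simp only
    rw [← hμ _ (mul_mem hn hm), ← h.app hn hm, hμ m hm, map_smul, hμ n hn, smul_smul, mul_comm])

theorem wt_inv (h : Rp ρ N) (h0 : v₀ ≠ 0) (hμ : v₀ ∈ wt ρ N μ) {n : Γ} (hn : n ∈ N) :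
    μ n⁻¹ * μ n = 1 :=
  smul_left_injective ℂ h0 (by
    simp only
    rw [← wt_mul h h0 hμ (inv_mem hn) hn, inv_mul_cancel, ← hμ 1 (one_mem _), h.one, one_smul]; rfl)

theorem wt_conj (h : Rp ρ H) (hN : N ≤ H) {g n : Γ} (hg : g ∈ H) (hn : n ∈ N)
    (h1 : g⁻¹ * n * g ∈ N) {x : W} (hx : x ∈ wt ρ N μ) :
    ρ n (ρ g x) = μ (g⁻¹ * n * g) • ρ g x := by
  rw [← map_smul, ← hx _ h1, h.app hg (hN h1), h.app (hN hn) hg]; simp [mul_assoc]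

theorem wt_le [Finite Γ] (h : Rp ρ H) (hN : N ≤ H) (hn : ∀ g ∈ H, ∀ n ∈ N, g⁻¹ * n * g ∈ N)
    (h0 : v₀ ≠ 0) (hμ : v₀ ∈ wt ρ N μ) {Y : Submodule ℂ W} (hY : Y ≤ wt ρ N μ)
    (h1 : Submodule.span ℂ {v | ∃ g ∈ H, ∃ x ∈ Y, ρ g x = v} = ⊤)
    (h2 : ∀ g ∈ H, (∀ n ∈ N, μ (g⁻¹ * n * g) = μ n) → ∀ x ∈ Y, ρ g x ∈ Y) : wt ρ N μ ≤ Y := by
  have a1 := fun {n m} => wt_mul (h.mono hN) h0 hμ (n := n) (m := m)
  have a2 := fun {n} => wt_inv (h.mono hN) h0 hμ (n := n)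
  intro x hx
  have a3 : (∑ n ∈ fs N, μ n⁻¹ • ρ n) x = ((fs N).card : ℂ) • x := by
    rw [LinearMap.sum_apply, Finset.sum_congr rfl (g := fun _ => x) fun n hn => by
      rw [LinearMap.smul_apply, hx n (mem_fs.1 hn), smul_smul, a2 (mem_fs.1 hn), one_smul],
      Finset.sum_const, Nat.cast_smul_eq_nsmul]
  rw [← Y.smul_mem_iff (card_fs_ne N), ← a3]
  refine Submodule.mem_comap.1 (Submodule.span_le.2 ?_ (h1.ge (Submodule.mem_top (x := x))))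
  rintro _ ⟨g, hg, y, hy, rfl⟩
  have a4 : (∑ n ∈ fs N, μ n⁻¹ • ρ n) (ρ g y) =
      (∑ n ∈ fs N, μ n⁻¹ * μ (g⁻¹ * n * g)) • ρ g y := by
    rw [LinearMap.sum_apply, Finset.sum_smul]
    exact Finset.sum_congr rfl fun n h3 => by
      rw [LinearMap.smul_apply, wt_conj h hN hg (mem_fs.1 h3) (hn g hg n (mem_fs.1 h3)) (hY hy),
        smul_smul]
  rw [SetLike.mem_coe, Submodule.mem_comap, a4]
  by_cases h3 : ∀ n ∈ N, μ (g⁻¹ * n * g) = μ n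
  · exact Y.smul_mem _ (h2 g hg h3 y hy)
  push Not at h3
  obtain ⟨m, hm, h3⟩ := h3
  have a5 := sum_fs_left hm fun n => μ n⁻¹ * μ (g⁻¹ * n * g)
  rw [Finset.sum_congr rfl (g := fun n => μ m⁻¹ * μ (g⁻¹ * m * g) * (μ n⁻¹ * μ (g⁻¹ * n * g)))
    fun n h4 => by
      have h4 := mem_fs.1 h4
      rw [mul_inv_rev, a1 (inv_mem h4) (inv_mem hm), show g⁻¹ * (m * n) * g =
        g⁻¹ * m * g * (g⁻¹ * n * g) by group, a1 (hn g hg m hm) (hn g hg n h4)]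
      ring, ← Finset.mul_sum, mul_left_eq_self₀] at a5
  rw [a5.resolve_left fun h4 => h3 (by linear_combination μ m * h4 - μ (g⁻¹ * m * g) * a2 hm)]
  simp

end Rep

variable {s : Γ →* ℤˣ} {Δ Δ' : Subgroup Γ} {x y g : Γ}
  {W : Type} [AddCommGroup W] [Module ℂ W] [FiniteDimensional ℂ W]

theorem NS.of_central (h : NS s Δ') (hle : Δ' ≤ Δ) (h1 : ∀ g ∈ Ev s Δ, ∃ n ∈ Ev s Δ,
    ∃ l ∈ Ev s Δ', g = n * l ∧ ∀ k ∈ Ev s Δ, Commute n k) : NS s Δ := by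
  intro W _ _ _ _ T hT
  refine h W (T.mono hle) fun Y _ hY => hT Y le_top fun g hg v hv => ?_
  obtain ⟨n, hn, l, hl, rfl, h2⟩ := h1 g hg
  obtain ⟨z, hz⟩ := schur hT (A := T.ρ n) (fun _ _ => trivial) (fun g hg v _ => by
    rw [T.rp.app hn hg, T.rp.app hg hn, (h2 g hg).eq]) fun _ _ _ _ => trivial
  rw [← T.rp.app hn (Ev.mono hle hl), hz _ trivial]
  exact Y.smul_mem _ (hY l hl v hv)

theorem TS.exists_ne (T : TS s Δ W) (hy : Od s Δ y) {S : Set W} (hS : Submodule.span ℂ S = ⊤)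
    {v : W} (hv : v ≠ 0) : ∃ w ∈ S, T.b y v w ≠ 0 := by
  by_contra! h
  exact hv (T.nd hy v (LinearMap.congr_fun (LinearMap.ext_on hS (g := 0) h)))

/-- Clifford theory for a weight of a normal subgroup. -/
theorem TS.clifford [Finite Γ] (T : TS s Δ W) (hT : IrrOn T.ρ (Ev s Δ) ⊤) (hy : Od s Δ y)
    {N L : Subgroup Γ} (hN : N ≤ Ev s Δ) (hn : ∀ x ∈ Δ, ∀ n ∈ N, x * n * x⁻¹ ∈ N) (hL : L ≤ Δ)
    (hd : ∀ x ∈ Δ, ∃ n ∈ N, ∃ l ∈ L, x = n * l) {μ : Γ → ℂ} {v₀ : W} (h0 : v₀ ≠ 0)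
    (hμ : v₀ ∈ wt T.ρ N μ) (h1 : Δ' ≤ L) (h2 : ∀ l ∈ L, l ∈ Δ' ↔ ∀ n ∈ N, μ (tw s l n) = μ n)
    (h3 : Good s Δ') : False := by
  have a1 := fun {n m} => wt_mul (T.rp.mono hN) h0 hμ (n := n) (m := m)
  have a2 := fun {n} => wt_inv (T.rp.mono hN) h0 hμ (n := n)
  have a3 : ∀ x ∈ Δ, ∀ n ∈ N, x⁻¹ * n * x ∈ N := fun x hx n h => by
    simpa using hn _ (inv_mem hx) n h
  have a4 : ∀ x ∈ Δ, ∀ n ∈ N, tw s x n ∈ N := fun x hx n h => hn x hx _ (zpow_mem h _)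
  have a5 : ∀ x ∈ Δ, (∀ n ∈ N, μ (tw s x⁻¹ n) = μ n) →
      ∃ n ∈ N, ∃ l ∈ Δ', x = n * l ∧ s l = s x := fun x hx h => by
    obtain ⟨n, h4, l, h5, rfl⟩ := hd x hx
    refine ⟨n, h4, l, (h2 l h5).2 fun m hm => ?_, rfl, by rw [map_mul, (hN h4).2, one_mul]⟩
    have h6 := a4 l (hL h5) m hm
    have h7 := h _ (a4 _ hx m hm)
    rw [tw_inv_tw, tw_mul, tw_ev (hN h4).2, a1 (mul_mem h4 h6) (inv_mem h4), a1 h4 h6] at h7
    linear_combination -h7 - μ (tw s l m) * a2 h4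
  have a6 : wt T.ρ N μ ≠ ⊥ := (Submodule.ne_bot_iff _).2 ⟨v₀, hμ, h0⟩
  obtain ⟨_, ⟨g, hg, w, hw, rfl⟩, a7⟩ := T.exists_ne hy (span_eq_top T.rp hT a6) h0
  rw [← T.right hg hy] at a7
  have a8 := hy.rmul hg
  obtain ⟨n, b1, l, b2, b3, b4⟩ := a5 _ a8.1 fun n hn => by
    have := T.adj (hN hn) a8 v₀ w
    rw [hμ n hn, hw _ (a3 _ a8.1 _ (inv_mem hn)), LinearMap.map_smul₂, map_smul] at this
    rw [tw_od a8.inv.2, inv_inv, smul_left_injective ℂ a7 this]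
  have b5 : Od s Δ' l := ⟨b2, b4.trans a8.2⟩
  refine a7 ?_
  rw [b3, ← T.rp.app_inv (hN b1) v₀, T.left (hN b1) (b5.mono (h1.trans hL))]
  refine (h3 ⟨l, b5⟩).1.iso (T.mono (h1.trans hL)) b5 (X := wt T.ρ N μ) (fun k hk v hv m hm => ?_)
    (fun Y hY b6 => or_iff_not_imp_left.2 fun b7 => le_antisymm hY ?_) _ ?_ w hw
  · have b6 := Ev.mono (h1.trans hL) hk
    refine (wt_conj T.rp hN b6 hm (a3 _ b6.1 _ hm) hv).trans ?_
    have := (h2 _ (h1 (inv_mem hk.1))).1 (inv_mem hk.1) m hm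
    rw [tw_ev (inv_mem hk).2, inv_inv] at this
    rw [this]; rfl
  · refine wt_le T.rp hN (fun g hg => a3 g hg.1) h0 hμ hY (span_eq_top T.rp hT b7)
      fun k hk b8 v hv => ?_
    obtain ⟨n, c1, l, c2, rfl, c4⟩ := a5 k hk.1 fun n hn => by
      rw [tw_ev (inv_mem hk).2, inv_inv, b8 n hn]
    have c5 : l ∈ Ev s Δ' := ⟨c2, c4.trans hk.2⟩
    have c6 : T.ρ l v ∈ Y := b6 l c5 v hv
    rw [← T.rp.app (hN c1) (Ev.mono (h1.trans hL) c5), hY c6 n c1]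
    exact Y.smul_mem _ c6
  · rw [hμ _ (inv_mem b1)]; exact Submodule.smul_mem _ _ hμ

theorem sum_modEq {α : Type*} [DecidableEq α] {p : ℕ} [Fact p.Prime] {X : Finset α} {β : α → α}
    (h1 : ∀ x ∈ X, β x ∈ X) (h2 : ∀ x ∈ X, β^[p] x = x) {f : α → ℤ} (h3 : ∀ x ∈ X, f (β x) = f x) :
    ∑ x ∈ X, f x ≡ ∑ x ∈ X with β x = x, f x [ZMOD p] := by
  rw [← Finset.sum_fiberwise_of_maps_to (fun x hx => Finset.mem_image_of_mem f hx),
    ← Finset.sum_fiberwise_of_maps_to (s := X.filter _) (t := X.image f) (g := f)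
      fun x hx => Finset.mem_image_of_mem f (Finset.mem_filter.1 hx).1]
  refine Int.ModEq.sum fun c _ => ?_
  rw [Finset.sum_congr rfl (g := fun _ => c) fun x hx => (Finset.mem_filter.1 hx).2,
    Finset.sum_congr rfl (g := fun _ => c) fun x hx => (Finset.mem_filter.1 hx).2,
    Finset.sum_const, Finset.sum_const, nsmul_eq_mul, nsmul_eq_mul]
  refine Int.ModEq.mul_right c (Int.natCast_modEq_iff.2 ?_)
  let γ : Function.End (X.filter (f · = c)) := fun x => ⟨β x, by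
    obtain ⟨h4, h5⟩ := Finset.mem_filter.1 x.2
    exact Finset.mem_filter.2 ⟨h1 _ h4, (h3 _ h4).trans h5⟩⟩
  have h4 : ∀ (k : ℕ) x, ((γ ^ k) x : α) = β^[k] x := fun k => by
    induction k with
    | zero => intro; rfl
    | succ k ih => intro x; rw [pow_succ]; exact ih (γ x)
  have := Equiv.Perm.card_fixedPoints_modEq (f := γ) (p := p) (n := 1) (funext fun x =>
    Subtype.ext (by rw [pow_one, h4, h2 _ (Finset.mem_filter.1 x.2).1]; rfl))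
  rw [Fintype.card_coe] at this
  convert this
  rw [← Fintype.card_coe]
  refine Fintype.card_congr ⟨fun x => ⟨⟨x, ?_⟩, ?_⟩, fun x => ⟨x.1, ?_⟩, fun _ => rfl, fun _ => rfl⟩
  · have := x.2
    simp only [Finset.mem_filter] at this ⊢
    exact ⟨this.1.1, this.2⟩
  · exact Subtype.ext (Finset.mem_filter.1 (Finset.mem_filter.1 x.2).1).2
  · have := x.1.2
    simp only [Finset.mem_filter] at this ⊢
    exact ⟨⟨this.1, congrArg Subtype.val x.2⟩, this.2⟩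

theorem exists_root {p : ℕ} (hp : p.Prime) {a : ℤ} (ha : ¬ (p : ℤ) ∣ 2 * a ^ 3) :
    ∃ r : ℤ → ℂ, (∀ k, r k ^ 2 = k) ∧ ∀ k₁ k₂ k₃ G : ℤ, k₁ ≡ a ^ 2 [ZMOD p] → k₂ ≡ a ^ 2 [ZMOD p] →
      k₃ ≡ a ^ 2 [ZMOD p] → G ≡ a ^ 3 [ZMOD p] → G ^ 2 = k₁ * k₂ * k₃ →
      G = r k₁ * r k₂ * r k₃ := by
  haveI : (Ideal.span {(p : ℤ)}).IsPrime :=
    (Ideal.span_singleton_prime (by exact_mod_cast hp.ne_zero)).2 (Nat.prime_iff_prime_int.1 hp)
  obtain ⟨M, hM, h1⟩ := Ideal.exists_ideal_over_prime_of_isIntegral_of_isDomain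
    (S := integralClosure ℤ ℂ) (Ideal.span {(p : ℤ)}) (by
      rw [(RingHom.injective_iff_ker_eq_bot _).1
        (RingHom.injective_int (algebraMap ℤ (integralClosure ℤ ℂ)))]; exact bot_le)
  have h2 : ∀ k : ℤ, (k : integralClosure ℤ ℂ) ∈ M ↔ (p : ℤ) ∣ k := fun k => by
    rw [← Ideal.mem_span_singleton, ← h1]; rfl
  have h3 : ∀ k : ℤ, ∃ x : integralClosure ℤ ℂ, x ^ 2 = k ∧ (k ≡ a ^ 2 [ZMOD p] → x - a ∈ M) := by
    intro k
    obtain ⟨z, hz⟩ := IsAlgClosed.exists_pow_nat_eq (k : ℂ) two_pos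
    obtain ⟨x, hx⟩ : ∃ x : integralClosure ℤ ℂ, x ^ 2 = k :=
      ⟨⟨z, IsIntegral.of_pow two_pos (hz ▸ isIntegral_algebraMap (R := ℤ) (x := k))⟩, Subtype.ext hz⟩
    by_cases h : x - a ∈ M
    · exact ⟨x, hx, fun _ => h⟩
    refine ⟨-x, by rw [neg_sq, hx], fun hk => (hM.mem_or_mem (x := x - a) ?_).resolve_left h⟩
    convert (h2 _).2 hk.dvd using 1
    push_cast; linear_combination -hx
  choose r r1 r2 using h3
  refine ⟨fun k => r k, fun k => congrArg Subtype.val (r1 k), fun k₁ k₂ k₃ G a1 a2 a3 a4 a5 => ?_⟩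
  have : ((G : integralClosure ℤ ℂ) - r k₁ * r k₂ * r k₃) * (G + r k₁ * r k₂ * r k₃) = 0 := by
    have := congrArg (Int.cast : ℤ → integralClosure ℤ ℂ) a5
    push_cast at this
    rw [← r1 k₁, ← r1 k₂, ← r1 k₃] at this
    linear_combination this
  rcases mul_eq_zero.1 this with h | h
  · exact congrArg Subtype.val (sub_eq_zero.1 h)
  refine (ha ((h2 _).1 ?_)).elim
  convert M.sub_mem ((h2 _).2 a4.dvd) (M.add_mem (M.add_mem (M.mul_mem_right (r k₂ * r k₃)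
    (r2 _ a1)) (M.mul_mem_right (a * r k₃) (r2 _ a2))) 
    (M.mul_mem_right ((a : integralClosure ℤ ℂ) ^ 2) (r2 _ a3))) using 1
  push_cast; linear_combination h

end CF.FSo
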