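/-
Twisted symplectic modules: Heisenberg normal subgroups.
-/
import Cfsg.Agent.FSo.A3

set_option autoImplicit false

namespace CF.FSo

open Module

variable {Γ : Type*} [Group Γ]

/-- Commutators. -/
def cm (g m : Γ) : Γ := g * m * g⁻¹ * m⁻¹

section Rep

variable {W : Type*} [AddCommGroup W] [Module ℂ W]

theorem smul_one_inj [Nontrivial W] {c c' : ℂ} (h : c • (1 : End ℂ W) = c' • 1) : c = c' :=
  smul_left_injective ℂ one_ne_zero h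

theorem eq_of_mul_mul [Nontrivial W] {A B : End ℂ W} {c c' : ℂ} (h : A * B = c • 1)
    (h' : B * A = c' • 1) : c = c' := by
  by_cases h0 : A = 0
  · rw [h0, zero_mul] at h
    rw [h0, mul_zero] at h'
    exact smul_one_inj (h.symm.trans h')
  · refine smul_left_injective ℂ h0 ?_
    simp only
    rw [← smul_one_mul, ← h, mul_assoc, h', mul_smul_one]

/-- Heisenberg data. -/
structure Hs (ρ : Γ → End ℂ W) (H U Z : Subgroup Γ) : Prop where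
  rp : Rp ρ H
  hU : U ≤ H
  hn : ∀ x ∈ H, ∀ n ∈ U, x * n * x⁻¹ ∈ U
  hZ : Z ≤ U
  z1 : ∀ z ∈ Z, ρ z = 1 ∨ ρ z = -1
  z2 : ∀ z ∈ Z, z⁻¹ = z
  z3 : ∀ m ∈ U, ∀ n ∈ U, cm m n ∈ Z
  z4 : ∀ n ∈ U, n ∉ Z → ∃ m ∈ U, ρ (cm m n) ≠ 1

open scoped Classical in
/-- The normalised trace. -/
noncomputable def tau (ρ : Γ → End ℂ W) (Z : Subgroup Γ) (n : Γ) : ℤ :=
  if n ∈ Z then if ρ n = 1 then 1 else -1 else 0

variable [Finite Γ]

/-- The intertwiners. -/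
noncomputable def sS (ρ : Γ → End ℂ W) (U : Subgroup Γ) (g : Γ) : End ℂ W := ∑ m ∈ fs U, ρ (cm g m)

/-- The structure constants. -/
noncomputable def gG (ρ : Γ → End ℂ W) (U Z : Subgroup Γ) (g h k : Γ) : ℤ :=
  ∑ m ∈ fs U ×ˢ fs U ×ˢ fs U, tau ρ Z (cm g m.1 * cm h m.2.1 * cm k m.2.2)

variable {ρ : Γ → End ℂ W} {H U Z : Subgroup Γ} (d : Hs ρ H U Z) {g h k n : Γ}
include d

omit [Finite Γ] in
theorem Hs.cm_mem (hg : g ∈ H) (hn : n ∈ U) : cm g n ∈ U := mul_mem (d.hn g hg n hn) (inv_mem hn)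

omit [Finite Γ] in
theorem Hs.tau_inv (n : Γ) : tau ρ Z n⁻¹ = tau ρ Z n := by
  by_cases h : n ∈ Z
  · rw [d.z2 n h]
  · simp [tau, h]

omit [Finite Γ] in
theorem Hs.rho_z (h : n ∈ Z) : ρ n = (tau ρ Z n : ℂ) • 1 := by
  rw [tau, if_pos h]
  split_ifs with h1
  · simp [h1]
  · simp [(d.z1 n h).resolve_left h1]

theorem Hs.avg (hn : n ∈ U) : ∑ m ∈ fs U, ρ m * ρ n * ρ m⁻¹ =
    ((fs U).card * tau ρ Z n : ℂ) • 1 := by
  have h0 := fun {m} (hm : m ∈ fs U) => d.hU (mem_fs.1 hm)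
  by_cases h : n ∈ Z
  · rw [Finset.sum_congr rfl (g := fun _ => (tau ρ Z n : ℂ) • 1) fun m hm => by
      rw [d.rho_z h, mul_smul_one, smul_mul_assoc, ← d.rp.mul (h0 hm) (inv_mem (h0 hm)),
        mul_inv_cancel, d.rp.one], Finset.sum_const, mul_smul, Nat.cast_smul_eq_nsmul]
  obtain ⟨x, hx, h1⟩ := d.z4 n hn h
  have h2 := sum_fs_right hx fun m => ρ m * ρ n * ρ m⁻¹
  have h3 : ρ x * ρ n * ρ x⁻¹ = -ρ n := by
    rw [← d.rp.mul (d.hU hx) (d.hU hn), ← d.rp.mul (d.hU (mul_mem hx hn)) (d.hU (inv_mem hx)),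
      ← neg_one_mul, ← (d.z1 _ (d.z3 x hx n hn)).resolve_left h1,
      ← d.rp.mul (d.hU (d.cm_mem (d.hU hx) hn)) (d.hU hn), cm, inv_mul_cancel_right]
  rw [Finset.sum_congr rfl (g := fun m => -(ρ m * ρ n * ρ m⁻¹)) fun m hm => by
    rw [mul_inv_rev, d.rp.mul (h0 hm) (d.hU hx), d.rp.mul (d.hU (inv_mem hx)) (inv_mem (h0 hm)),
      ← neg_mul, ← mul_neg, ← h3]
    simp only [mul_assoc], Finset.sum_neg_distrib, neg_eq_iff_add_eq_zero, ← two_smul ℂ,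
    smul_eq_zero] at h2
  rw [h2.resolve_left two_ne_zero, tau, if_neg h]; simp

theorem Hs.scalar {ι : Type*} {I : Finset ι} {w : ι → Γ} (hw : ∀ i ∈ I, w i ∈ U)
    (h : ∀ m ∈ U, (∑ i ∈ I, ρ (w i)) * ρ m = ρ m * ∑ i ∈ I, ρ (w i)) :
    ∑ i ∈ I, ρ (w i) = ((∑ i ∈ I, tau ρ Z (w i) : ℤ) : ℂ) • 1 := by
  refine smul_right_injective _ (card_fs_ne U) ?_
  have : ∑ m ∈ fs U, ρ m * (∑ i ∈ I, ρ (w i)) * ρ m⁻¹ = ((fs U).card : ℂ) • ∑ i ∈ I, ρ (w i) := by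
    rw [Finset.sum_congr rfl (g := fun _ => ∑ i ∈ I, ρ (w i)) fun m hm => by
      have hm := mem_fs.1 hm
      rw [← h m hm, mul_assoc, ← d.rp.mul (d.hU hm) (d.hU (inv_mem hm)), mul_inv_cancel, d.rp.one,
        mul_one], Finset.sum_const, Nat.cast_smul_eq_nsmul]
  simp only
  rw [← this]
  simp only [Finset.mul_sum, Finset.sum_mul]
  rw [Finset.sum_comm, Finset.sum_congr rfl fun i hi => d.avg (hw i hi), ← Finset.sum_smul,
    smul_smul, ← Finset.mul_sum, Int.cast_sum]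

theorem Hs.sS_mul (hg : g ∈ H) (hn : n ∈ U) : sS ρ U g * ρ n = ρ (g * n * g⁻¹) * sS ρ U g := by
  rw [sS, Finset.sum_mul, Finset.mul_sum, ← sum_fs_left hn]
  refine Finset.sum_congr rfl fun m hm => ?_
  rw [← d.rp.mul (d.hU (d.cm_mem hg (mul_mem hn (mem_fs.1 hm)))) (d.hU hn),
    ← d.rp.mul (d.hU (d.hn g hg n hn)) (d.hU (d.cm_mem hg (mem_fs.1 hm)))]
  simp [cm, mul_assoc]

theorem Hs.sS_one : sS ρ U 1 = ((fs U).card : ℂ) • 1 := by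
  simp [sS, cm, d.rp.one, Nat.cast_smul_eq_nsmul]

theorem Hs.sS_three (hg : g ∈ H) (hh : h ∈ H) (hk : k ∈ H) (e : g * h * k = 1) :
    sS ρ U g * sS ρ U h * sS ρ U k = (gG ρ U Z g h k : ℂ) • 1 := by
  have h1 : sS ρ U g * sS ρ U h * sS ρ U k = ∑ m ∈ fs U ×ˢ fs U ×ˢ fs U,
      ρ (cm g m.1 * cm h m.2.1 * cm k m.2.2) := by
    rw [sS, sS, sS, Finset.sum_mul_sum, Finset.sum_mul, Finset.sum_product]
    refine Finset.sum_congr rfl fun a ha => ?_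
    rw [Finset.sum_mul_sum, Finset.sum_product]
    refine Finset.sum_congr rfl fun b hb => Finset.sum_congr rfl fun c hc => ?_
    have ha := d.hU (d.cm_mem hg (mem_fs.1 ha))
    have hb := d.hU (d.cm_mem hh (mem_fs.1 hb))
    rw [d.rp.mul (mul_mem ha hb) (d.hU (d.cm_mem hk (mem_fs.1 hc))), d.rp.mul ha hb]
  rw [h1]
  refine d.scalar (fun m hm => ?_) fun m hm => ?_
  · simp only [Finset.mem_product, mem_fs] at hm
    exact mul_mem (mul_mem (d.cm_mem hg hm.1) (d.cm_mem hh hm.2.1)) (d.cm_mem hk hm.2.2)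
  · have h2 := d.hn k hk m hm
    rw [← h1, mul_assoc, d.sS_mul hk hm, mul_assoc, ← mul_assoc (sS ρ U h), d.sS_mul hh h2,
      ← mul_assoc, ← mul_assoc, d.sS_mul hg (d.hn h hh _ h2), show g * (h * (k * m * k⁻¹) * h⁻¹) * g⁻¹
        = g * h * k * m * (g * h * k)⁻¹ by group, e]
    simp only [mul_assoc, one_mul, inv_one, mul_one]

theorem Hs.gG_inv (hg : g ∈ H) (hh : h ∈ H) (hk : k ∈ H) :
    gG ρ U Z k⁻¹ h⁻¹ g⁻¹ = gG ρ U Z g h k := by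
  have h1 : ∀ x ∈ H, ∀ n ∈ U, x⁻¹ * n * x ∈ U := fun x hx n hn => by
    simpa using d.hn _ (inv_mem hx) n hn
  refine Finset.sum_nbij' (fun m => (g⁻¹ * m.2.2 * g, h⁻¹ * m.2.1 * h, k⁻¹ * m.1 * k))
    (fun m => (k * m.2.2 * k⁻¹, h * m.2.1 * h⁻¹, g * m.1 * g⁻¹)) (fun m hm => ?_) (fun m hm => ?_)
    (fun m _ => by simp [mul_assoc]) (fun m _ => by simp [mul_assoc]) fun m _ => ?_
  · simp only [Finset.mem_product, mem_fs] at hm ⊢
    exact ⟨h1 _ hg _ hm.2.2, h1 _ hh _ hm.2.1, h1 _ hk _ hm.1⟩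
  · simp only [Finset.mem_product, mem_fs] at hm ⊢
    exact ⟨d.hn _ hk _ hm.2.2, d.hn _ hh _ hm.2.1, d.hn _ hg _ hm.1⟩
  · rw [← d.tau_inv]; simp [cm, mul_assoc]

theorem Hs.gG_modEq [Nontrivial W] {t : Γ} {p : ℕ} [Fact p.Prime]
    (t1 : ∀ n ∈ U, t * n * t⁻¹ ∈ U) (t3 : ∀ n ∈ U, t * n * t⁻¹ = n ↔ n ∈ Z) (t4 : t ^ p = 1)
    (hg : g ∈ H ∧ Commute t g ∧ ∀ z ∈ Z, Commute z g)
    (hh : h ∈ H ∧ Commute t h ∧ ∀ z ∈ Z, Commute z h)
    (hk : k ∈ H ∧ Commute t k ∧ ∀ z ∈ Z, Commute z k) :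
    gG ρ U Z g h k ≡ (fs Z).card ^ 3 [ZMOD p] := by
  classical
  have h1 : ∀ (j : ℕ) (m : Γ × Γ × Γ), (fun m : Γ × Γ × Γ =>
      (t * m.1 * t⁻¹, t * m.2.1 * t⁻¹, t * m.2.2 * t⁻¹))^[j] m = (t ^ j * m.1 * (t ^ j)⁻¹,
        t ^ j * m.2.1 * (t ^ j)⁻¹, t ^ j * m.2.2 * (t ^ j)⁻¹) := fun j => by
    induction j with
    | zero => simp
    | succ j ih => intro m; rw [Function.iterate_succ_apply, ih]; simp [pow_succ, mul_assoc]
  have h2 : ∀ {g m : Γ}, Commute t g → cm g (t * m * t⁻¹) = t * cm g m * t⁻¹ := fun {g m} h => by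
    simp only [cm, mul_inv_rev, inv_inv, ← mul_assoc, ← h.eq, mul_left_inj]
    rw [mul_assoc _ t⁻¹, mul_assoc, h.inv_inv.eq, inv_mul_cancel_right]
  have h3 : ∀ {g m : Γ}, Commute m g → cm g m = 1 := fun h => by simp [cm, ← h.eq]
  have h4 : ∀ n ∈ U, tau ρ Z (t * n * t⁻¹) = tau ρ Z n := fun n hn => by
    by_cases h : n ∈ Z
    · rw [(t3 n hn).2 h]
    · rw [tau, tau, if_neg h, if_neg fun h' => h ?_]
      have := (t3 _ (t1 n hn)).2 h'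
      exact (t3 n hn).1 (mul_left_cancel (mul_right_cancel this))
  have h6 := sum_modEq (p := p) (X := fs U ×ˢ fs U ×ˢ fs U)
    (β := fun m => (t * m.1 * t⁻¹, t * m.2.1 * t⁻¹, t * m.2.2 * t⁻¹))
    (f := fun m => tau ρ Z (cm g m.1 * cm h m.2.1 * cm k m.2.2)) (fun m hm => ?_)
    (fun m _ => by simp [h1, t4]) fun m hm => ?_
  · have h7 : (fs U ×ˢ fs U ×ˢ fs U).filter (fun m => (t * m.1 * t⁻¹, t * m.2.1 * t⁻¹,
        t * m.2.2 * t⁻¹) = m) = fs Z ×ˢ fs Z ×ˢ fs Z := by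
      ext m
      simp only [Finset.mem_filter, Finset.mem_product, mem_fs, Prod.ext_iff]
      exact ⟨fun ⟨a, b⟩ => ⟨(t3 _ a.1).1 b.1, (t3 _ a.2.1).1 b.2.1, (t3 _ a.2.2).1 b.2.2⟩,
        fun ⟨a, b, c⟩ => ⟨⟨d.hZ a, d.hZ b, d.hZ c⟩, (t3 _ (d.hZ a)).2 a, (t3 _ (d.hZ b)).2 b,
          (t3 _ (d.hZ c)).2 c⟩⟩
    rw [h7, Finset.sum_congr (s₁ := fs Z ×ˢ fs Z ×ˢ fs Z) rfl (g := fun _ => 1) fun m hm => ?_] at h6
    · simpa [pow_succ, mul_assoc, gG] using h6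
    simp only [Finset.mem_product, mem_fs] at hm
    simp [h3 (hg.2.2 _ hm.1), h3 (hh.2.2 _ hm.2.1), h3 (hk.2.2 _ hm.2.2), tau, d.rp.one]
  · simp only [Finset.mem_product, mem_fs] at hm ⊢
    exact ⟨t1 _ hm.1, t1 _ hm.2.1, t1 _ hm.2.2⟩
  · simp only [Finset.mem_product, mem_fs] at hm
    rw [← h4 _ (mul_mem (mul_mem (d.cm_mem hg.1 hm.1) (d.cm_mem hh.1 hm.2.1))
      (d.cm_mem hk.1 hm.2.2)), h2 hg.2.1, h2 hh.2.1, h2 hk.2.1]
    simp [mul_assoc]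

/-- Normalisation of the intertwiners. -/
theorem Hs.exists_weil [Nontrivial W] {L : Subgroup Γ} (hL : L ≤ H) {t : Γ} {p : ℕ} (hp : p.Prime)
    (hp' : p ≠ 2) (t1 : ∀ n ∈ U, t * n * t⁻¹ ∈ U) (t2 : ∀ l ∈ L, Commute t l)
    (t3 : ∀ n ∈ U, t * n * t⁻¹ = n ↔ n ∈ Z) (t4 : t ^ p = 1) (hc : ∀ l ∈ L, ∀ z ∈ Z, Commute z l) :
    ∃ r : ℤ → ℂ, Rp (fun g => r (gG ρ U Z g g⁻¹ 1) • sS ρ U g) L := by
  classical
  haveI := Fact.mk hp
  have a1 : ∀ g ∈ L, ∀ h ∈ L, ∀ k ∈ L, gG ρ U Z g h k ≡ (fs Z).card ^ 3 [ZMOD p] :=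
    fun g hg h hh k hk => d.gG_modEq t1 t3 t4 ⟨hL hg, t2 g hg, hc g hg⟩ ⟨hL hh, t2 h hh, hc h hh⟩
      ⟨hL hk, t2 k hk, hc k hk⟩
  have a2 : ((fs U).card : ℤ) ≡ (fs Z).card [ZMOD p] := by
    have h1 : ∀ (j : ℕ) (m : Γ), (fun m : Γ => t * m * t⁻¹)^[j] m = t ^ j * m * (t ^ j)⁻¹ :=
      fun j => by
        induction j with
        | zero => simp
        | succ j ih => intro m; rw [Function.iterate_succ_apply, ih]; simp [pow_succ, mul_assoc]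
    have := sum_modEq (p := p) (X := fs U) (β := fun m => t * m * t⁻¹) (f := fun _ => 1)
      (fun m hm => mem_fs.2 (t1 m (mem_fs.1 hm))) (fun m _ => by simp [h1, t4]) fun _ _ => rfl
    rw [show (fs U).filter _ = fs Z from Finset.ext fun m => by
      rw [Finset.mem_filter, mem_fs, mem_fs]
      exact ⟨fun h => (t3 m h.1).1 h.2, fun h => ⟨d.hZ h, (t3 m (d.hZ h)).2 h⟩⟩] at this
    simpa using this
  have a3 : ¬ (p : ℤ) ∣ 2 * (((fs Z).card : ℤ) ^ 2) ^ 3 := by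
    obtain ⟨j, hj⟩ := IsPGroup.exists_card_eq (p := 2) (G := Z) fun z => ⟨1, Subtype.ext (by
      rw [pow_one, sq, Subgroup.coe_mul, Subgroup.coe_one, mul_eq_one_iff_eq_inv, d.z2 z z.2])⟩
    rw [card_fs, hj]
    norm_cast
    rw [← pow_mul, ← pow_mul, ← pow_succ']
    exact fun h => hp' ((Nat.prime_dvd_prime_iff_eq hp Nat.prime_two).1 (hp.dvd_of_dvd_pow h))
  obtain ⟨r, r1, r2⟩ := exists_root hp a3
  set u : ℤ := ((fs U).card : ℤ)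
  have u0 : (u : ℂ) ≠ 0 := by simpa [u] using card_fs_ne U
  have a4 : ∀ g ∈ L, gG ρ U Z g g⁻¹ 1 * u ≡ ((fs Z).card ^ 2) ^ 2 [ZMOD p] := fun g hg => by
    convert (a1 g hg _ (inv_mem hg) 1 (one_mem _)).mul a2 using 1; ring
  have a5 : ∀ g ∈ L, r (gG ρ U Z g g⁻¹ 1 * u) ≠ 0 := fun g hg h => a3 (by
    have h1 := r1 (gG ρ U Z g g⁻¹ 1 * u)
    rw [h, zero_pow two_ne_zero, eq_comm, Int.cast_eq_zero] at h1
    have := (a4 g hg).dvd
    rw [h1, sub_zero] at this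
    exact this.trans ⟨2 * (fs Z).card ^ 2, by ring⟩)
  have a6 : ∀ g ∈ L, sS ρ U g * sS ρ U g⁻¹ = (gG ρ U Z g g⁻¹ 1 / u : ℂ) • 1 := fun g hg => by
    have := d.sS_three (hL hg) (hL (inv_mem hg)) (one_mem _) (by simp)
    rw [d.sS_one, mul_smul_one] at this
    rw [div_eq_inv_mul, mul_smul, ← this, eq_inv_smul_iff₀ u0]; simp [u]
  have a7 : ∀ g ∈ L, gG ρ U Z g⁻¹ g⁻¹⁻¹ 1 = gG ρ U Z g g⁻¹ 1 := fun g hg => by
    have h1 := a6 _ (inv_mem hg)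
    rw [inv_inv] at h1 ⊢
    exact_mod_cast (div_left_inj' u0).1 (eq_of_mul_mul h1 (a6 g hg))
  set σ := fun g => (u / r (gG ρ U Z g g⁻¹ 1 * u)) • sS ρ U g
  have b1 : ∀ g ∈ L, σ g * σ g⁻¹ = 1 := fun g hg => by
    have h1 := r1 (gG ρ U Z g g⁻¹ 1 * u)
    have h2 := a5 g hg
    simp only [σ]
    rw [a7 g hg, smul_mul_smul_comm, a6 g hg, smul_smul, ← one_smul ℂ (1 : End ℂ W), smul_smul]
    congr 1
    field_simp
    rw [h1]; push_cast; ring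
  have b2 : ∀ g ∈ L, ∀ h ∈ L, ∀ k ∈ L, g * h * k = 1 → σ g * σ h * σ k = 1 := by
    intro g hg h hh k hk e
    have h1 := d.sS_three (hL hg) (hL hh) (hL hk) e
    have h2 := d.sS_three (hL (inv_mem hk)) (hL (inv_mem hh)) (hL (inv_mem hg)) (by
      rw [← inv_eq_one, ← e]; simp [mul_assoc])
    rw [d.gG_inv (hL hg) (hL hh) (hL hk)] at h2
    have h3 := congrArg₂ (· * ·) h1 h2
    simp only [mul_assoc] at h3
    rw [← mul_assoc (sS ρ U k), a6 k hk, smul_one_mul, mul_smul_comm, mul_smul_comm,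
      ← mul_assoc (sS ρ U h), a6 h hh, smul_one_mul, mul_smul_comm, a6 g hg, smul_smul, smul_smul,
      smul_mul_smul_comm, mul_one] at h3
    have h4 := r2 _ _ _ (u ^ 3 * gG ρ U Z g h k) (a4 g hg) (a4 h hh) (a4 k hk) (by
      convert (a2.pow 3).mul (a1 g hg h hh k hk) using 1; ring) (by
      have := smul_one_inj h3
      field_simp at this
      have h5 : gG ρ U Z k k⁻¹ 1 * gG ρ U Z h h⁻¹ 1 * gG ρ U Z g g⁻¹ 1 =
        u ^ 3 * gG ρ U Z g h k ^ 2 := by exact_mod_cast this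
      linear_combination -u ^ 3 * h5)
    have h5 := a5 g hg
    have h6 := a5 h hh
    have h7 := a5 k hk
    simp only [σ]
    rw [smul_mul_smul_comm, smul_mul_smul_comm, h1, smul_smul, ← one_smul ℂ (1 : End ℂ W), smul_smul]
    congr 1
    field_simp
    rw [← h4]; push_cast; ring
  refine ⟨fun k => u / r (k * u), ?_, fun {g h} hg hh => ?_⟩
  · have := b2 1 (one_mem _) 1⁻¹ (inv_mem (one_mem _)) 1 (one_mem _) (by simp)
    rwa [b1 1 (one_mem _), one_mul] at this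
  · have h1 := b1 _ (inv_mem (mul_mem hg hh))
    rw [inv_inv] at h1
    change σ (g * h) = σ g * σ h
    rw [← mul_one (σ g * σ h), ← h1, ← mul_assoc, b2 g hg h hh _ (inv_mem (mul_mem hg hh)) (by simp),
      one_mul]

end Rep

variable {s : Γ →* ℤˣ} {Δ : Subgroup Γ} {y : Γ}
  {W : Type} [AddCommGroup W] [Module ℂ W] [FiniteDimensional ℂ W]

/-- Reduction modulo a Heisenberg normal subgroup. -/
theorem TS.weil [Finite Γ] [Nontrivial W] (T : TS s Δ W) (hT : IrrOn T.ρ (Ev s Δ) ⊤)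
    {U Z L : Subgroup Γ} (hU : U ≤ Ev s Δ) (hn : ∀ x ∈ Δ, ∀ n ∈ U, x * n * x⁻¹ ∈ U) (hL : L ≤ Δ)
    (hd : ∀ x ∈ Ev s Δ, ∃ n ∈ U, ∃ l ∈ Ev s L, x = n * l) (hZ : Z ≤ U)
    (z1 : ∀ g ∈ Ev s Δ, ∀ z ∈ Z, Commute z g) (z2 : ∀ z ∈ Z, z⁻¹ = z)
    (z3 : ∀ m ∈ U, ∀ n ∈ U, cm m n ∈ Z) (z4 : ∀ n ∈ U, n ∉ Z → ∃ m ∈ U, T.ρ (cm m n) ≠ 1)
    {t : Γ} {p : ℕ} (hp : p.Prime) (hp' : p ≠ 2) (t1 : ∀ n ∈ U, t * n * t⁻¹ ∈ U)
    (t2 : ∀ l ∈ Ev s L, Commute t l) (t3 : ∀ n ∈ U, t * n * t⁻¹ = n ↔ n ∈ Z) (t4 : t ^ p = 1)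
    (hy : Od s L y) (hy' : y * y = 1) (y1 : ∀ z ∈ Z, y * z * y⁻¹ ∈ Z)
    (y2 : ∀ n ∈ U, y * n * y⁻¹ * n ∈ Z → y * n * y⁻¹ * n = 1) : ¬ NS s L := by
  intro hNS
  have y0 : y⁻¹ = y := inv_eq_of_mul_eq_one_left hy'
  have hy1 := hy.mono hL
  have d : Hs T.ρ (Ev s Δ) U Z := ⟨T.rp, hU, fun x hx => hn x hx.1, hZ, fun z hz => by
    have h1 := hU (hZ hz)
    obtain ⟨c, hc⟩ := schur hT (A := T.ρ z) (fun _ _ => trivial) (fun g hg v _ => by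
      rw [T.rp.app h1 hg, T.rp.app hg h1, (z1 g hg z hz).eq]) fun _ _ _ _ => trivial
    have h2 : T.ρ z = c • 1 := LinearMap.ext fun v => hc v trivial
    have h3 := T.rp.mul h1 (inv_mem h1)
    rw [mul_inv_cancel, T.rp.one, z2 z hz, h2, smul_mul_smul_comm, mul_one,
      ← one_smul ℂ (1 : End ℂ W), smul_smul, mul_one] at h3
    rcases mul_self_eq_one_iff.1 (smul_one_inj h3).symm with rfl | rfl <;> simp [h2], z2, z3, z4⟩
  have hL' := Ev.mono (s := s) hL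
  obtain ⟨r, hr⟩ := d.exists_weil hL' hp hp' t1 t2 t3 t4 fun l hl => z1 l (hL' hl)
  set σ := fun g => r (gG T.ρ U Z g g⁻¹ 1) • sS T.ρ U g
  have a0 : ∀ g ∈ Ev s L, y * g⁻¹ * y ∈ Ev s L := fun g hg => by
    simpa [y0] using Ev.conj (inv_mem hg) hy.1
  have a1 : ∀ g ∈ Ev s Δ, ∀ v w, T.b y (sS T.ρ U g v) w =
      T.b y v (sS T.ρ U (y * g⁻¹ * y) w) := fun g hg v w => by
    simp only [sS, LinearMap.sum_apply, map_sum]
    refine Finset.sum_nbij' (fun m => y * g * m * (y * g)⁻¹) (fun m => (y * g)⁻¹ * m * (y * g)⁻¹⁻¹)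
      (fun m hm => mem_fs.2 (hn _ (mul_mem hy1.1 hg.1) _ (mem_fs.1 hm)))
      (fun m hm => mem_fs.2 (hn _ (inv_mem (mul_mem hy1.1 hg.1)) _ (mem_fs.1 hm)))
      (fun m _ => by group) (fun m _ => by group) fun m hm => ?_
    rw [T.adj (hU (d.cm_mem hg (mem_fs.1 hm))) hy1]
    simp only [cm, mul_inv_rev, inv_inv, y0, mul_assoc, ← mul_assoc y y, hy', one_mul,
      inv_mul_cancel_left]
  have a2 : ∀ g ∈ Ev s L, ∀ v w, T.b y (σ g v) w = T.b y v (σ (y * g⁻¹ * y) w) := by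
    intro g hg v w
    have h1 := d.sS_three (hL' hg) (hL' (inv_mem hg)) (one_mem _) (by simp)
    have h2 := d.sS_three (hL' (a0 g hg)) (hL' (inv_mem (a0 g hg))) (one_mem _) (by simp)
    rw [d.sS_one, mul_smul_one, ← mul_smul_comm] at h1
    rw [d.sS_one, mul_smul_one, ← smul_mul_assoc] at h2
    have h3 : (y * g⁻¹ * y)⁻¹ = y * g⁻¹⁻¹ * y := by simp [y0, mul_assoc]
    have h4 := eq_of_mul_mul h2 (c' := gG T.ρ U Z g g⁻¹ 1) (LinearMap.ext fun w => sub_eq_zero.1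
      ((T.nondeg hy1).2 _ fun v => by
        rw [map_sub, End.mul_apply, h3, ← a1 _ (hL' (inv_mem hg)), LinearMap.smul_apply, map_smul,
          ← a1 _ (hL' hg), ← LinearMap.map_smul₂, ← map_smul, ← LinearMap.smul_apply,
          ← End.mul_apply, h1]
        simp))
    simp only [σ, LinearMap.smul_apply, map_smul, a1 _ (hL' hg), Int.cast_injective h4]
  have a3 : ∀ g ∈ Ev s L, ∀ n ∈ U, T.ρ g * σ g⁻¹ * T.ρ n = T.ρ n * (T.ρ g * σ g⁻¹) := by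
    intro g hg n h
    simp only [σ, mul_smul_comm, smul_mul_assoc]
    rw [mul_assoc, d.sS_mul (hL' (inv_mem hg)) h, ← mul_assoc, ← mul_assoc, ← T.rp.mul (hU h) (hL' hg),
      ← T.rp.mul (hL' hg) (hU (hn _ (hL (inv_mem hg.1)) n h))]
    simp [mul_assoc]
  have a4 : ∀ g ∈ Ev s L, ∀ k ∈ Ev s L, T.ρ g * σ g⁻¹ * σ k = σ k * (T.ρ g * σ g⁻¹) := by
    intro g hg k hk
    generalize T.ρ g * σ g⁻¹ = A, a3 g hg = h
    simp only [σ, mul_smul_comm, smul_mul_assoc, sS, Finset.mul_sum, Finset.sum_mul]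
    exact congrArg _ (Finset.sum_congr rfl fun m hm => h _ (d.cm_mem (hL' hk) (mem_fs.1 hm)))
  have a5 : ∀ g ∈ Ev s L, σ g⁻¹ * σ g = 1 := fun g hg => by
    rw [← hr.mul (inv_mem hg) hg, inv_mul_cancel]; exact hr.one
  have a6 : Rp (fun g => T.ρ g * σ g⁻¹) (Ev s L) := ⟨by
    rw [inv_one, T.rp.one, one_mul]; exact hr.one, fun {g k} hg hk => by
    rw [mul_assoc, ← a4 k hk _ (inv_mem hg), T.rp.mul (hL' hg) (hL' hk), mul_inv_rev,
      show σ (k⁻¹ * g⁻¹) = _ from hr.mul (inv_mem hk) (inv_mem hg)]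
    simp only [mul_assoc]⟩
  let T' := TS.ofInv hy hy' a6 (T.b y) (fun v w => by rw [← T.skew hy1, y0]) (T.nd hy1)
    fun g hg v w => by
      have h1 := a0 g hg
      simp only [End.mul_apply]
      rw [T.adj (hL' hg) hy1, a2 _ (inv_mem hg), y0, show y * g⁻¹⁻¹ * y = (y * g⁻¹ * y)⁻¹ by
        simp [y0, mul_assoc]]
      congr 1
      generalize y * g⁻¹ * y = k at h1
      have h3 := congrArg (σ k⁻¹ * ·) (a4 _ h1 _ h1)
      simp only [mul_assoc, a5 _ h1, mul_one] at h3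
      rw [← mul_assoc, a5 _ h1, one_mul] at h3
      exact LinearMap.congr_fun h3 w
  have b0 : ∀ m ∈ U, ∀ z ∈ Z, m * z * m⁻¹ = z := fun m hm z hz => by
    rw [← (z1 m (hU hm) z hz).eq, mul_inv_cancel_right]
  let N : Subgroup Γ :=
    { carrier := {n | n ∈ U ∧ y * n * y⁻¹ * n = 1}
      one_mem' := ⟨one_mem _, by simp⟩
      inv_mem' := fun {n} h => ⟨inv_mem h.1, by
        have := eq_inv_of_mul_eq_one_left h.2
        rw [show y * n⁻¹ * y⁻¹ = (y * n * y⁻¹)⁻¹ by group, this]; simp⟩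
      mul_mem' := fun {m n} h h' => ⟨mul_mem h.1 h'.1, y2 _ (mul_mem h.1 h'.1) (by
        rw [show y * (m * n) * y⁻¹ = y * m * y⁻¹ * (y * n * y⁻¹) by group,
          eq_inv_of_mul_eq_one_left h.2, eq_inv_of_mul_eq_one_left h'.2]
        simpa [cm, mul_assoc] using z3 _ (inv_mem h.1) _ (inv_mem h'.1))⟩ }
  have b1 : N ≤ U := fun n h => h.1
  have b2 : Z ≤ N := fun z hz => ⟨hZ hz, y2 z (hZ hz) (mul_mem (y1 z hz) hz)⟩
  have b3 : ∀ n ∈ N, y * n⁻¹ * y = n := fun n h => by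
    have := (inv_mem h).2
    rw [y0] at this
    simpa using eq_inv_of_mul_eq_one_left this
  have b4 : ∀ g ∈ U, ∀ n ∈ N, g⁻¹ * n * g ∈ N := fun g hg n h => by
    simpa [cm, mul_assoc] using mul_mem (b2 (z3 _ (inv_mem hg) _ h.1)) h
  obtain ⟨v₀, -, h0, μ, hμ⟩ := exists_weight (ρ := T.ρ) (H := N) (X := ⊤) (fun _ _ _ _ => trivial)
    top_ne_bot fun m hm n hn => by
      rw [← T.rp.mul (hU hm.1) (hU hn.1), ← T.rp.mul (hU hn.1) (hU hm.1), ← b3 _ (mul_mem hm hn),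
        ← b3 m hm, ← b3 n hn, b3 m hm, b3 n hn]
      conv_rhs => rw [← b3 m hm, ← b3 n hn]
      simp [mul_assoc, ← mul_assoc y y, hy']
  replace hμ : v₀ ∈ wt T.ρ N μ := hμ
  have b5 : ∀ g ∈ U, (∀ n ∈ N, μ (g⁻¹ * n * g) = μ n) → g ∈ N := fun g hg h => by
    have h1 : ∀ n ∈ N, T.ρ (cm g⁻¹ n) = 1 := fun n hn => by
      have h2 := z3 _ (inv_mem hg) _ hn.1
      have h3 := wt_mul (T.rp.mono (b1.trans hU)) h0 hμ (b2 h2) hn
      have h4 := wt_inv (T.rp.mono (b1.trans hU)) h0 hμ hn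
      rw [show cm g⁻¹ n * n = g⁻¹ * n * g by simp [cm], h n hn] at h3
      have h5 := hμ _ (b2 h2)
      refine (d.z1 _ h2).resolve_right fun h6 => h0 ?_
      rw [h6, show μ (cm g⁻¹ n) = 1 by
        linear_combination -μ n⁻¹ * h3 - (μ (cm g⁻¹ n) - 1) * h4, one_smul,
        LinearMap.neg_apply, End.one_apply, neg_eq_iff_add_eq_zero, ← two_smul ℂ] at h5
      simpa using h5
    refine ⟨hg, y2 g hg (by_contra fun h2 => ?_)⟩
    have h3 := hn y hy1.1 g hg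
    obtain ⟨m, hm, h4⟩ := z4 _ (mul_mem h3 hg) h2
    have h5 := hn y hy1.1 m hm
    have h6 : m * (y * m * y⁻¹)⁻¹ ∈ N := ⟨mul_mem hm (inv_mem h5), by
      simp [y0, mul_assoc, ← mul_assoc y y, hy']⟩
    have h7 : cm m (y * g * y⁻¹) = cm (y * m * y⁻¹) g := by
      rw [← b3 _ (b2 (z3 _ h5 _ hg)), z2 _ (z3 _ h5 _ hg)]
      simp [cm, y0, mul_assoc, ← mul_assoc y y, hy']
    refine h4 ?_
    generalize y * m * y⁻¹ = m', y * g * y⁻¹ = g' at *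
    have h8 : cm m g = m * m'⁻¹ * cm m' g * (m * m'⁻¹)⁻¹ * (g * cm g⁻¹ (m * m'⁻¹) * g⁻¹) := by
      simp [cm, mul_assoc]
    rw [b0 _ h6.1 _ (z3 _ h5 _ hg), b0 _ hg _ (z3 _ (inv_mem hg) _ h6.1)] at h8
    rw [← h1 _ h6, show cm m (g' * g) = cm m g' * (g' * cm m g * g'⁻¹) by simp [cm, mul_assoc],
      b0 _ h3 _ (z3 _ hm _ hg), h7, h8, ← z2 _ (z3 _ h5 _ hg), ← mul_assoc]
    nth_rw 2 [z2 _ (z3 _ h5 _ hg)]
    rw [inv_mul_cancel, one_mul]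
  have b6 : ∀ Y : Submodule ℂ W, Y ≠ ⊥ → Inv T'.ρ (Ev s L) Y →
      Submodule.span ℂ {v | ∃ g ∈ U, ∃ x ∈ Y, T.ρ g x = v} = ⊤ := fun Y h1 h2 => by
    set Y' := Submodule.span ℂ {v | ∃ g ∈ U, ∃ x ∈ Y, T.ρ g x = v}
    have h3 : ∀ n ∈ U, ∀ v ∈ Y', T.ρ n v ∈ Y' := fun n h v hv => by
      refine Submodule.mem_comap.1 (Submodule.span_le.2 ?_ hv)
      rintro _ ⟨g, hg, x, hx, rfl⟩
      exact Submodule.subset_span ⟨_, mul_mem h hg, x, hx, (T.rp.app (hU h) (hU hg) x).symm⟩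
    refine (hT _ le_top fun g hg v hv => ?_).resolve_left fun h => h1 (eq_bot_iff.2 fun x hx =>
      h.le (Submodule.subset_span ⟨1, one_mem _, x, hx, by rw [T.rp.one]; rfl⟩))
    obtain ⟨n, h4, l, h5, rfl⟩ := hd g hg
    have h6 : σ l v ∈ Y' := by
      simp only [σ, sS, LinearMap.smul_apply, LinearMap.sum_apply]
      exact Y'.smul_mem _ (Y'.sum_mem fun m hm => h3 _ (d.cm_mem (hL' h5) (mem_fs.1 hm)) v hv)
    rw [← T.rp.app (hU h4) (hL' h5), ← mul_one (T.ρ l), ← a5 l h5, ← mul_assoc, End.mul_apply]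
    refine h3 n h4 _ (Submodule.mem_comap.1 (Submodule.span_le.2 ?_ h6))
    rintro _ ⟨g, hg, x, hx, rfl⟩
    exact Submodule.subset_span ⟨g, hg, _, h2 l h5 x hx, (LinearMap.congr_fun (a3 l h5 g hg) x).symm⟩
  have b7 : Inv T'.ρ (Ev s L) (wt T.ρ N μ) := fun g hg v hv n h =>
    (LinearMap.congr_fun (a3 g hg n h.1) v).symm.trans (by
      rw [End.mul_apply, hv n h, map_smul]; rfl)
  obtain ⟨_, ⟨g, hg, w, hw, rfl⟩, b8⟩ := T.exists_ne hy1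
    (b6 _ ((Submodule.ne_bot_iff _).2 ⟨v₀, hμ, h0⟩) b7) h0
  have b9 := b5 g hg fun n h => by
    have := T.adj (hU h.1) hy1 v₀ (T.ρ g w)
    rw [hμ n h, y0, b3 n h, wt_conj T.rp (b1.trans hU) (hU hg) h (b4 g hg n h) hw,
      LinearMap.map_smul₂, map_smul] at this
    exact (smul_left_injective ℂ b8 this).symm
  have := hNS.iso T' hy b7 (fun Y hY h1 => or_iff_not_imp_left.2 fun h2 => le_antisymm hY
    (wt_le (T.rp.mono hU) b1 b4 h0 hμ hY (b6 Y h2 h1) fun g hg h3 x hx => by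
      rw [hY hx g (b5 g hg h3)]; exact Y.smul_mem _ hx)) v₀ hμ w hw
  refine b8 ?_
  rw [hw g b9, map_smul, ← smul_zero (μ g), ← this]
  simp [T', TS.ofInv, T.rp.one, show σ 1 = 1 from hr.one]

end CF.FSo
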