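/-
Orthogonal groups in characteristic two: stabilisers of semisimple data and vectors.
-/
import Cfsg.Agent.FSo.A4
import Cfsg.Agent.Geom.OGen

set_option autoImplicit false

namespace CF.FSo

open Module CF.Geom QuadraticMap

theorem exists_fix_mod {G V : Type*} [Group G] [AddCommGroup V] [Finite V] [DistribMulAction G V]
    (hG : IsPGroup 2 G) (h2 : ∀ v : V, v + v = 0) (M D : AddSubgroup V)
    (hM : ∀ g : G, ∀ v ∈ M, g • v ∈ M) (hD : ∀ g : G, ∀ v ∈ D, g • v ∈ D) {v : V} (hv : v ∈ M)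
    (hv' : v ∉ D) : ∃ z ∈ M, z ∉ D ∧ ∀ g : G, g • z - z ∈ D := by
  letI : MulAction G (M.map (QuotientAddGroup.mk' D)) :=
    { smul g x := ⟨QuotientAddGroup.map D D (DistribSMul.toAddMonoidHom V g) (hD g) x, by
        obtain ⟨_, z, hz, rfl⟩ := x; exact ⟨_, hM g z hz, rfl⟩⟩
      one_smul x := by
        obtain ⟨_, z, hz, rfl⟩ := x
        exact Subtype.ext (congrArg (QuotientAddGroup.mk' D) (one_smul G z))
      mul_smul g k x := by
        obtain ⟨_, z, hz, rfl⟩ := x
        exact Subtype.ext (congrArg (QuotientAddGroup.mk' D) (mul_smul g k z)) }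
  have h1 : addOrderOf (⟨_, v, hv, rfl⟩ : M.map (QuotientAddGroup.mk' D)) = 2 :=
    addOrderOf_eq_prime (Subtype.ext (by
      change QuotientAddGroup.mk' D (2 • v) = 0
      rw [two_smul, h2, map_zero])) fun h => hv' ((QuotientAddGroup.eq_zero_iff v).1
        (congrArg Subtype.val h))
  obtain ⟨⟨_, z, hz, rfl⟩, h3, h4⟩ := hG.exists_fixed_point_of_prime_dvd_card_of_fixed_point
    (M.map (QuotientAddGroup.mk' D)) (h1 ▸ addOrderOf_dvd_natCard _) (a := 0)
    fun g => Subtype.ext (map_zero _)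
  exact ⟨z, hz, fun h => h4 (Subtype.ext ((QuotientAddGroup.eq_zero_iff z).2 h).symm), fun g =>
    QuotientAddGroup.eq_iff_sub_mem.1 (congrArg Subtype.val (h3 g))⟩

variable {F V : Type*} [Field F] [AddCommGroup V] [Module F V]

/-- The orthogonal group extended by a sign. -/
def G0 (Q : QuadraticForm F V) : Type _ := OG Q × ℤˣ

variable {Q : QuadraticForm F V}

instance : Group (G0 Q) := inferInstanceAs (Group (OG Q × ℤˣ))

instance [Finite V] : Finite (G0 Q) :=
  haveI : Finite (V ≃ₗ[F] V) := .of_injective _ DFunLike.coe_injective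
  inferInstanceAs (Finite (OG Q × ℤˣ))

/-- The sign. -/
def sg (Q : QuadraticForm F V) : G0 Q →* ℤˣ := MonoidHom.snd _ _

instance : DistribMulAction (G0 Q) V :=
  DistribMulAction.compHom V ((OG Q).subtype.comp (MonoidHom.fst (OG Q) ℤˣ))

theorem g_smul (g : G0 Q) (c : F) (v : V) : g • c • v = c • g • v := map_smul g.1.1 c v

theorem g_Q (g : G0 Q) (v : V) : Q (g • v) = Q v := OG_map g.1 v

theorem g_polar (g : G0 Q) (v w : V) : polar Q (g • v) (g • w) = polar Q v w := OG_polar g.1 v w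

theorem G0.ext {g k : G0 Q} (h : sg Q g = sg Q k) (h' : ∀ v : V, g • v = k • v) : g = k :=
  Prod.ext (Subtype.ext (LinearEquiv.ext h')) h

theorem exists_g0 [FiniteDimensional F V] (hQ : (polarBilin Q).Nondegenerate) (f : V →ₗ[F] V)
    (hf : ∀ v, Q (f v) = Q v) : ∃ g : G0 Q, sg Q g = 1 ∧ ∀ v, g • v = f v := by
  obtain ⟨e, he⟩ := (isWittPair_quad Q hQ).exists_equiv f fun u v => by
    simp only [polarBilin_apply_apply, polar, ← map_add f, hf]
  exact ⟨(⟨e, mem_OG.2 fun v => by rw [he, hf]⟩, 1), rfl, he⟩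

variable {R : Type*} [CommRing R] [StarRing R]

/-- The twist attached to a sign. -/
def tst (ε : ℤˣ) (r : R) : R := if ε = 1 then r else star r

@[simp] theorem tst_one (r : R) : tst 1 r = r := if_pos rfl

@[simp] theorem tst_neg (r : R) : tst (-1) r = star r := if_neg (by decide)

theorem tst_tst (ε δ : ℤˣ) (r : R) : tst (ε * δ) r = tst ε (tst δ r) := by
  rcases Int.units_eq_one_or ε with rfl | rfl <;> rcases Int.units_eq_one_or δ with rfl | rfl <;> simp

theorem tst_self (ε : ℤˣ) (r : R) : tst ε (tst ε r) = r := by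
  rw [← tst_tst, Int.units_mul_self, tst_one]

theorem tst_mul (ε : ℤˣ) (r r' : R) : tst ε (r * r') = tst ε r * tst ε r' := by
  rcases Int.units_eq_one_or ε with rfl | rfl <;> simp [mul_comm]

theorem tst_sa (ε : ℤˣ) {r : R} (h : star r = r) : tst ε r = r := by
  rcases Int.units_eq_one_or ε with rfl | rfl <;> simp [h]

variable [Module R V]

variable (R) in
/-- The stabilisers. -/
def Gam (Q : QuadraticForm F V) (S : Set V) : Subgroup (G0 Q) where
  carrier := {g | (∀ (r : R) (v : V), g • r • v = tst (sg Q g) r • g • v) ∧ ∀ u ∈ S, g • u = u}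
  one_mem' := by simp
  mul_mem' {g k} hg hk := ⟨fun r v => by
    rw [mul_smul, hk.1, hg.1, map_mul, tst_tst, mul_smul], fun u hu => by
      rw [mul_smul, hk.2 u hu, hg.2 u hu]⟩
  inv_mem' {g} hg := ⟨fun r v => by
    rw [inv_smul_eq_iff, hg.1, smul_inv_smul, map_inv, Int.units_inv_eq_self, tst_self],
    fun u hu => by rw [inv_smul_eq_iff, hg.2 u hu]⟩

variable {S S' : Set V} {g : G0 Q} {z u v w : V} {r a e : R}

theorem mem_Gam_insert : g ∈ Gam R Q (insert z S) ↔ g ∈ Gam R Q S ∧ g • z = z := by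
  refine ⟨fun h => ⟨⟨h.1, fun u hu => h.2 u (Or.inr hu)⟩, h.2 z (Or.inl rfl)⟩, fun h => ⟨h.1.1, ?_⟩⟩
  rintro u (rfl | hu)
  exacts [h.2, h.1.2 u hu]

theorem Gam_insert_le : Gam R Q (insert z S) ≤ Gam R Q S := fun _ h => (mem_Gam_insert.1 h).1

theorem Gam.ev (h : g ∈ Ev (sg Q) (Gam R Q S)) (r : R) (v : V) : g • r • v = r • g • v := by
  rw [h.1.1, (mem_Ev.1 h).2, tst_one]

theorem Gam.od (h : Od (sg Q) (Gam R Q S) g) (r : R) (v : V) : g • r • v = star r • g • v := by
  rw [h.1.1, h.2, tst_neg]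

theorem Gam.span (h : g ∈ Gam R Q S) (hv : v ∈ Submodule.span R S) : g • v ∈ Submodule.span R S := by
  induction hv using Submodule.span_induction with
  | mem x hx => rw [h.2 x hx]; exact Submodule.subset_span hx
  | zero => simp
  | add x y _ _ hx hy => rw [smul_add]; exact add_mem hx hy
  | smul r x _ hx => rw [h.1]; exact Submodule.smul_mem _ _ hx

theorem Gam.fix (h : g ∈ Ev (sg Q) (Gam R Q S)) (hv : v ∈ Submodule.span R S) : g • v = v := by
  induction hv using Submodule.span_induction with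
  | mem x hx => exact h.1.2 x hx
  | zero => simp
  | add x y _ _ hx hy => rw [smul_add, hx, hy]
  | smul r x _ hx => rw [Gam.ev h, hx]

variable (R) in
/-- The orthogonal complement of the span. -/
def Pp (Q : QuadraticForm F V) (S : Set V) (v : V) : Prop :=
  ∀ y ∈ Submodule.span R S, polar Q y v = 0

variable (R) in
/-- The radical of the span is anisotropic. -/
def Red (Q : QuadraticForm F V) (S : Set V) : Prop :=
  ∀ v ∈ Submodule.span R S, Pp R Q S v → Q v = 0 → v = 0

/-- The generators. -/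
structure Gn (Q : QuadraticForm F V) (a : R) : Prop where
  inv : a * star a = 1
  iso : ∀ v : V, Q (a • v) = Q v
  odd : ∃ m, Odd m ∧ a ^ m = 1

/-- Minimal self-adjoint idempotents. -/
structure Mn (e : R) : Prop where
  sa : star e = e
  idem : e * e = e
  min : ∀ t, star t = t → t * e = 0 ∨ ∃ r, r * t = e

theorem Pp.gam (hv : Pp R Q S v) (h : g ∈ Gam R Q S) : Pp R Q S (g • v) := fun y hy => by
  rw [← hv _ (Gam.span (inv_mem h) hy), ← g_polar g (g⁻¹ • y), smul_inv_smul]

theorem Pp.add (hv : Pp R Q S v) (hw : Pp R Q S w) : Pp R Q S (v + w) := fun y hy => by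
  rw [polar_add_right, hv y hy, hw y hy, add_zero]

theorem Pp.fsmul (hv : Pp R Q S v) (c : F) : Pp R Q S (c • v) := fun y hy => by
  rw [polar_smul_right, hv y hy, smul_zero]

theorem Gn.star (h : Gn Q a) : Gn Q (star a) :=
  ⟨by rw [star_star, mul_comm, h.inv], fun v => by rw [← h.iso, smul_smul, h.inv, one_smul],
    h.odd.imp fun m hm => ⟨hm.1, by rw [← star_pow, hm.2, star_one]⟩⟩

theorem Gn.pow (h : Gn Q a) (k : ℕ) : Gn Q (a ^ k) :=
  ⟨by rw [star_pow, ← mul_pow, h.inv, one_pow], fun v => by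
    induction k with
    | zero => simp
    | succ k ih => rw [pow_succ', mul_smul, h.iso, ih],
    h.odd.imp fun m hm => ⟨hm.1, by rw [← pow_mul, mul_comm, pow_mul, hm.2, one_pow]⟩⟩

theorem Gn.tst (h : Gn Q a) (ε : ℤˣ) : Gn Q (tst ε a) := by
  rcases Int.units_eq_one_or ε with rfl | rfl
  exacts [h, h.star]

variable [Algebra F R] [IsScalarTower F R V]

variable (R) in
/-- Semisimple data. -/
structure RD (Q : QuadraticForm F V) : Prop where
  nd : (polarBilin Q).Nondegenerate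
  adj : ∀ (r : R) (v w : V), polar Q (r • v) w = polar Q v (star r • w)
  faith : ∀ r : R, (∀ v : V, r • v = 0) → r = 0
  gen : Submodule.span F {a : R | Gn Q a} = ⊤

theorem RD.star_smul (d : RD R Q) (c : F) (r : R) : star (c • r) = c • star r :=
  sub_eq_zero.1 (d.faith _ fun v => d.nd.2 _ fun w => by
    simp only [polarBilin_apply_apply, sub_smul, polar_sub_right, polar_smul_right, ← d.adj,
      smul_assoc, polar_smul_left, sub_self])

theorem fix_scalar {M : Type*} [AddCommGroup M] [Module F M] [Module R M] [IsScalarTower F R M]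
    (d : RD R Q) {v : M} (h : ∀ a : R, Gn Q a → a • v = v) (r : R) :
    ∃ c : F, r • v = c • v ∧ star r • v = c • v := by
  induction d.gen.ge (Submodule.mem_top (x := r)) using Submodule.span_induction with
  | mem a ha => exact ⟨1, by simp [h a ha, h _ ha.star]⟩
  | zero => exact ⟨0, by simp⟩
  | add x y _ _ hx hy =>
    obtain ⟨c, h1, h2⟩ := hx
    obtain ⟨c', h3, h4⟩ := hy
    exact ⟨c + c', by simp [add_smul, *]⟩
  | smul c' x _ hx =>
    obtain ⟨c, h1, h2⟩ := hx
    exact ⟨c' * c, by rw [d.star_smul, smul_assoc, smul_assoc, h1, h2, mul_smul]; simp⟩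

theorem Pp.smul (d : RD R Q) (hv : Pp R Q S v) (r : R) : Pp R Q S (r • v) := fun y hy => by
  rw [← star_star r, ← d.adj, hv _ (Submodule.smul_mem _ _ hy)]

theorem Pp_iff (d : RD R Q) : Pp R Q S v ↔ ∀ r : R, ∀ u ∈ S, polar Q u (r • v) = 0 := by
  refine ⟨fun h r u hu => h.smul d r u (Submodule.subset_span hu), fun h y hy => ?_⟩
  rw [← one_smul R v]
  generalize (1 : R) = r
  induction hy using Submodule.span_induction generalizing r with
  | mem x hx => exact h r x hx
  | zero => simp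
  | add x y _ _ hx hy => rw [polar_add_left, hx, hy, add_zero]
  | smul r x _ hx => rw [d.adj, smul_smul, hx]

theorem Pp_insert (d : RD R Q) :
    Pp R Q (insert z S) v ↔ (∀ r : R, polar Q z (r • v) = 0) ∧ Pp R Q S v := by
  simp [Pp_iff d, forall_and]

theorem exists_dual [FiniteDimensional F V] (d : RD R Q) {X : Submodule F V} (h : v ∉ X) :
    ∃ y, polar Q v y = 1 ∧ ∀ x ∈ X, polar Q x y = 0 :=
  (isWittPair_quad Q d.nd).exists_dual_vec h

variable [CharP F 2]

theorem vv (F : Type*) [Field F] [CharP F 2] [Module F V] (v : V) : v + v = 0 := by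
  rw [← two_smul F, CharTwo.two_eq_zero, zero_smul]

theorem rr (F : Type*) [Field F] [CharP F 2] [Algebra F R] : (2 : R) = 0 := by
  rw [← map_ofNat (algebraMap F R), CharTwo.two_eq_zero, map_zero]

theorem Red.eq (h : Red R Q S) (hz : Pp R Q S z) (h1 : v - z ∈ Submodule.span R S)
    (h2 : Pp R Q S v) (h3 : Q v = Q z) : v = z := by
  have h4 : Pp R Q S (v - z) := fun y hy => by rw [polar_sub_right, h2 y hy, hz y hy, sub_zero]
  refine sub_eq_zero.1 (h _ h1 h4 ?_)
  have := quad_add Q (v - z) z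
  rw [sub_add_cancel, hz _ h1, h3] at this
  linear_combination -this

theorem Red.gam (h : Red R Q S) (hu : u ∈ Submodule.span R S) (hu' : Pp R Q S u)
    (hg : g ∈ Gam R Q S) : g • u = u :=
  h.eq hu' (sub_mem (Gam.span hg hu) hu) (hu'.gam hg) (g_Q g u)

theorem Red.gn (d : RD R Q) (h : Red R Q S) (hu : u ∈ Submodule.span R S) (hu' : Pp R Q S u)
    (a : R) (ha : Gn Q a) : a • u = u :=
  h.eq hu' (sub_mem (Submodule.smul_mem _ _ hu) hu) (hu'.smul d a) (ha.iso u)

variable [Finite F]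

theorem pow_two_pow_mul {A : Type*} [Monoid A] {x : A} {j : ℕ} (h : x ^ 2 ^ j = x) (k : ℕ) :
    x ^ 2 ^ (j * k) = x := by
  induction k with
  | zero => simp
  | succ k ih => rw [mul_add_one, pow_add, pow_mul x, ih, h]

theorem RD.reg (d : RD R Q) (r : R) : ∃ n, r ^ (n + 2) = r := by
  have h2 : ∀ (x y : R) (j : ℕ), (x + y) ^ 2 ^ j = x ^ 2 ^ j + y ^ 2 ^ j := fun x y j => by
    induction j with
    | zero => simp
    | succ j ih =>
      rw [pow_succ, pow_mul, pow_mul, pow_mul, ih]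
      linear_combination x ^ 2 ^ j * y ^ 2 ^ j * rr (R := R) F
  suffices ∃ j, 0 < j ∧ r ^ 2 ^ j = r by
    obtain ⟨j, h3, h4⟩ := this
    exact ⟨2 ^ j - 2, by rw [Nat.sub_add_cancel (Nat.le_self_pow h3.ne' 2), h4]⟩
  induction d.gen.ge (Submodule.mem_top (x := r)) using Submodule.span_induction with
  | mem a ha =>
    obtain ⟨m, h3, h4⟩ := ha.odd
    refine ⟨m.totient, Nat.totient_pos.2 h3.pos, ?_⟩
    obtain ⟨k, hk⟩ := (Nat.modEq_iff_dvd' (Nat.one_le_two_pow)).1
      (Nat.ModEq.pow_totient (Nat.coprime_two_left.2 h3)).symm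
    rw [← Nat.sub_add_cancel (Nat.one_le_two_pow (n := m.totient)), hk, pow_succ, pow_mul, h4]
    simp
  | zero => exact ⟨1, by simp⟩
  | add x y _ _ hx hy =>
    obtain ⟨j, h3, h4⟩ := hx
    obtain ⟨k, h5, h6⟩ := hy
    exact ⟨j * k, by positivity, by rw [h2, pow_two_pow_mul h4, mul_comm, pow_two_pow_mul h6]⟩
  | smul c x _ hx =>
    obtain ⟨j, h3, h4⟩ := hx
    haveI := Fintype.ofFinite F
    obtain ⟨k, -, h5⟩ := FiniteField.card F 2
    exact ⟨j * k, by positivity, by
      rw [smul_pow, pow_two_pow_mul h4, mul_comm,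
        pow_two_pow_mul (h5 ▸ FiniteField.pow_card c)]⟩

theorem RD.sq_smul (d : RD R Q) (h : (r * r) • v = 0) : r • v = 0 := by
  obtain ⟨n, hn⟩ := d.reg r
  rw [← hn, pow_add, pow_two, mul_smul, h, smul_zero]

theorem RD.gn_fix (d : RD R Q) (ha : Gn Q a) (h : (a + star a) • v = 0) : a • v = v := by
  have : ((a + 1) * (a + 1)) • v = 0 := by
    rw [show (a + 1) * (a + 1) = a * (a + star a) by
      linear_combination -ha.inv + a * rr (R := R) F, mul_smul, h, smul_zero]
  have h1 := d.sq_smul this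
  rw [add_smul, one_smul] at h1
  rw [← add_zero (a • v), ← vv F v, ← add_assoc, h1, zero_add]

omit [CharP F 2] [Finite F] in
theorem RD.finite [Finite V] (d : RD R Q) : Finite R :=
  .of_injective (fun r : R => fun v : V => r • v) fun r r' h =>
    sub_eq_zero.1 (d.faith _ fun v => by rw [sub_smul, sub_eq_zero]; exact congrFun h v)

theorem RD.exists_mn [Finite V] (d : RD R Q) {p : R → Prop} (h1 : p 1)
    (h2 : ∀ e f, p (e + f) → p e ∨ p f) : ∃ e, Mn e ∧ p e := by
  haveI := d.finite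
  obtain ⟨_, ⟨e, ⟨e1, e2, e3⟩, rfl⟩, h3⟩ := exists_minimal_of_wellFoundedLT (fun I : Ideal R =>
    ∃ e, (star e = e ∧ e * e = e ∧ p e) ∧ I = Ideal.span {e}) ⟨_, 1, by simpa using h1, rfl⟩
  have h4 : ∀ f, star f = f → f * f = f → p (e * f) → f * e = e := fun f f1 f2 f3 => by
    obtain ⟨x, hx⟩ := Ideal.mem_span_singleton'.1 (h3 ⟨e * f, ⟨by rw [star_mul', e1, f1], by
      rw [mul_mul_mul_comm, e2, f2], f3⟩, rfl⟩ (Ideal.span_singleton_le_span_singleton.2 ⟨f, rfl⟩)
      (Ideal.mem_span_singleton_self e))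
    linear_combination (1 - f) * hx + x * e * f2
  refine ⟨e, ⟨e1, e2, fun t ht => ?_⟩, e3⟩
  obtain ⟨n, hn⟩ := d.reg t
  have h5 : t ^ (n + 1) * t ^ (n + 1) = t ^ (n + 1) := by linear_combination t ^ n * hn
  rcases h2 (e * t ^ (n + 1)) (e * (1 - t ^ (n + 1))) (by simpa [mul_sub] using e3) with h | h
  · exact Or.inr ⟨e * t ^ n, by
      linear_combination h4 _ (by rw [star_pow, ht]) h5 h⟩
  · exact Or.inl (by
      linear_combination -t * h4 _ (by simp [ht]) (by linear_combination h5) h - e * hn)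

theorem Mn.fix (d : RD R Q) (he : Mn e) (h0 : e • u ≠ 0) (hu : ∀ a : R, Gn Q a → a • u = u)
    (hz : e • z = z) (a : R) (ha : Gn Q a) : a • z = z := by
  refine d.gn_fix ha ?_
  rcases he.min (a + star a) (by simp [add_comm]) with h | ⟨r, h⟩
  · rw [← hz, smul_smul, h, zero_smul]
  · exact (h0 (by rw [← h, mul_smul, add_smul, hu a ha, hu _ ha.star, vv F, smul_zero])).elim

theorem Red.dim (h : Red R Q S) (hu : u ∈ Submodule.span R S) (hu' : Pp R Q S u) (h0 : u ≠ 0)
    (hv : v ∈ Submodule.span R S) (hv' : Pp R Q S v) : ∃ c : F, v = c • u := by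
  obtain ⟨c, hc⟩ := (frobeniusEquiv F 2).surjective (Q v / Q u)
  exact ⟨c, h.eq (hu'.fsmul c) (sub_mem hv (Submodule.smul_of_tower_mem _ c hu)) hv' (by
    rw [quad_smul, show c ^ 2 = _ from hc, div_mul_cancel₀ _ fun e => h0 (h u hu hu' e)])⟩

variable [Finite V]

/-- Adding a vector which is not orthogonal to the radical. -/
theorem good_of_refl (d : RD R Q) (h : Red R Q S) (hu : u ∈ Submodule.span R S) (hu' : Pp R Q S u)
    (h0 : polar Q u z ≠ 0) (hz : ∀ a : R, Gn Q a → a • z = z) {Δ : Subgroup (G0 Q)}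
    (hΔ : ∀ g, g ∈ Δ ↔ g ∈ Gam R Q S ∧ g • z - z ∈ Submodule.span R S)
    (ih : ∀ S', Submodule.span R S < Submodule.span R S' → Red R Q S' → Good (sg Q) (Gam R Q S')) :
    Good (sg Q) Δ := by
  have a0 : u ≠ 0 := by rintro rfl; simp at h0
  have a1 := ih (insert z S) (lt_of_le_of_ne (Submodule.span_mono (Set.subset_insert _ _)) fun e =>
    h0 (by rw [polar_comm]; exact hu' z (e.ge (Submodule.subset_span (Or.inl rfl))))) (by
      intro v hv hv' h1
      obtain ⟨r, y, hy, rfl⟩ := Submodule.mem_span_insert.1 hv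
      obtain ⟨c, hc, -⟩ := fix_scalar d hz r
      have h2 := hv' u (Submodule.span_mono (Set.subset_insert _ _) hu)
      rw [hc, polar_add_right, polar_smul_right, polar_comm _ u y, hu' y hy, add_zero, smul_eq_mul,
        mul_eq_zero_iff_right h0] at h2
      rw [hc, h2, zero_smul, zero_add] at hv' h1 ⊢
      exact h y hy ((Pp_insert d).1 hv').2 h1)
  set t : G0 Q := (oRefl Q u, 1)
  have t1 : ∀ v, t • v = v - ((Q u)⁻¹ * polar Q u v) • u := oRefl_apply u
  have t2 : t ∈ Ev (sg Q) Δ := ⟨(hΔ t).2 ⟨⟨fun r v => by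
    obtain ⟨c, h1, h2⟩ := fix_scalar d (h.gn d hu hu') r
    rw [show sg Q t = 1 from rfl, tst_one, t1, t1, polar_comm, d.adj, h2, smul_sub, smul_comm r, h1,
      polar_smul_right, smul_smul, polar_comm _ v, smul_eq_mul, mul_left_comm, mul_comm c],
    fun x hx => by rw [t1, polar_comm, hu' x (Submodule.subset_span hx)]; simp⟩, by
      rw [t1, sub_sub_cancel_left]; exact neg_mem (Submodule.smul_of_tower_mem _ _ hu)⟩, rfl⟩
  have t3 : ∀ g ∈ Δ, Commute t g := fun g hg => G0.ext (by simp [mul_comm]) fun v => by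
    have := h.gam hu hu' ((hΔ g).1 hg).1
    rw [mul_smul, mul_smul, t1, t1, smul_sub, g_smul, this, ← g_polar g u v, this]
  have a2 : Gam R Q (insert z S) ≤ Δ := fun g hg => by
    rw [mem_Gam_insert] at hg
    exact (hΔ g).2 ⟨hg.1, by simp [hg.2]⟩
  have a3 : ∀ g ∈ Δ, ∃ n ∈ Ev (sg Q) Δ, ∃ l ∈ Gam R Q (insert z S), g = n * l ∧ sg Q l = sg Q g ∧
      ∀ k ∈ Δ, Commute n k := fun g hg => by
    obtain ⟨h1, h2⟩ := (hΔ g).1 hg
    obtain ⟨c, hc⟩ := h.dim hu hu' a0 h2 ((Pp_iff d).2 fun r x hx => by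
      obtain ⟨c, h3, -⟩ := fix_scalar d (v := g • z - z) (fun a ha => by
        rw [smul_sub, hz a ha, ← tst_self (sg Q g) a, ← h1.1, hz _ (ha.tst _)]) r
      rw [h3, polar_smul_right, polar_sub_right, ← g_polar g x z, h1.2 x hx, sub_self, smul_zero])
    rw [sub_eq_iff_eq_add] at hc
    by_cases h3 : c = 0
    · exact ⟨1, one_mem _, g, mem_Gam_insert.2 ⟨h1, by simpa [h3] using hc⟩, by simp, rfl, by simp⟩
    refine ⟨t, t2, t⁻¹ * g, mem_Gam_insert.2 ⟨mul_mem (inv_mem ((hΔ t).1 t2.1).1) h1, ?_⟩, by simp,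
      by rw [map_mul, map_inv, (mem_Ev.1 t2).2]; simp, t3⟩
    have h4 := g_Q g z
    have h5 : Q u ≠ 0 := fun e => a0 (h u hu hu' e)
    rw [hc, quad_add, quad_smul, polar_smul_left, smul_eq_mul] at h4
    rw [mul_smul, inv_smul_eq_iff, t1, hc, add_comm, sub_eq_add_neg, ← neg_smul]
    congr 2
    field_simp
    exact mul_left_cancel₀ h3 (by linear_combination h4)
  rintro ⟨x, hx⟩
  obtain ⟨n, -, l, h1, -, h2, -⟩ := a3 x hx.1
  obtain ⟨h3, y, h4, h5⟩ := a1 ⟨l, h1, h2.trans hx.2⟩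
  refine ⟨h3.of_central a2 fun g hg => ?_, y, h4.mono a2, h5⟩
  obtain ⟨n, h6, l, h7, h8, h9, h10⟩ := a3 g hg.1
  exact ⟨n, h6, l, ⟨h7, h9.trans hg.2⟩, h8, fun k hk => h10 k hk.1⟩

omit [Finite V] in
theorem red_or_sing (d : RD R Q) (h : Red R Q S) (hz : Pp R Q S z) (hz' : z ∉ Submodule.span R S)
    (he : Mn e) (hez : e • z = z) : Red R Q (insert z S) ∨ ∃ w, Pp R Q S w ∧
      w ∉ Submodule.span R S ∧ e • w = w ∧ (∀ r : R, Q (r • w) = 0) ∧
      Gam R Q (insert z S) = Gam R Q (insert w S) := by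
  refine or_iff_not_imp_left.2 fun h1 => ?_
  simp only [Red, not_forall] at h1
  obtain ⟨v, hv, hv', h1, h2⟩ := h1
  obtain ⟨r, y, hy, rfl⟩ := Submodule.mem_span_insert.1 hv
  obtain ⟨h3, h4⟩ := (Pp_insert d).1 hv'
  have h5 : Pp R Q S y := by
    simpa [← add_assoc, vv F] using (hz.smul d r).add h4
  have h6 : r • z ≠ 0 := fun e => h2 (by
    rw [e, zero_add] at h1 ⊢; exact h y hy h5 h1)
  by_cases h7 : ∀ a : R, Gn Q a → a • z = z
  · obtain ⟨c, hc, -⟩ := fix_scalar d h7 r
    rw [hc] at h1 h4 h6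
    have h8 : c ≠ 0 := by rintro rfl; simp at h6
    have h9 : ∀ k : F, k • (c • z + y) ∈ Submodule.span R S → k = 0 := fun k hk => by
      by_contra h9
      have := sub_mem (Submodule.smul_of_tower_mem _ (k * c)⁻¹ hk)
        (Submodule.smul_of_tower_mem _ c⁻¹ hy)
      refine hz' (by convert this using 1; match_scalars <;> field_simp <;> ring)
    have h10 := fix_scalar d (v := c • z + y) fun a ha => by
      rw [smul_add, smul_comm, h7 a ha, h.gn d hy h5 a ha]
    refine ⟨_, h4, fun h11 => one_ne_zero (h9 1 (by simpa using h11)), ?_, fun r => ?_, ?_⟩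
    · obtain ⟨k, hk, -⟩ := h10 e
      rw [hk, sub_eq_zero.1 (h9 (k - 1) ?_), one_smul]
      rw [sub_smul, ← hk, one_smul, smul_add, smul_comm, hez, add_sub_add_left_eq_sub]
      exact sub_mem (Submodule.smul_mem _ _ hy) hy
    · obtain ⟨k, hk, -⟩ := h10 r
      rw [hk, quad_smul, h1, mul_zero]
    · ext g
      simp only [mem_Gam_insert]
      refine and_congr_right fun hg => ?_
      rw [smul_add, h.gam hy h5 hg, add_left_inj, g_smul, smul_right_inj h8]
  refine ⟨z, hz, hz', hez, fun x => ?_, rfl⟩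
  have h8 : ∀ x : R, polar Q z (x • r • z) = 0 := fun x => by
    have := h3 x
    rwa [smul_add, polar_add_right, polar_comm _ z (x • y), hz _ (Submodule.smul_mem _ _ hy),
      add_zero] at this
  have h9 : ∀ x : R, polar Q z (x • z) = 0 := fun x => by
    rcases he.min (r * star r) (by simp [mul_comm]) with h9 | ⟨k, h9⟩
    · rcases he.min (r + star r) (by simp [add_comm]) with h10 | ⟨k, h10⟩
      · refine (h6 (d.sq_smul ?_)).elim
        rw [← hez, smul_smul, show r * r * e = 0 by linear_combination r * h10 - h9, zero_smul]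
      · have h11 := h8 (star (x * k))
        rw [smul_smul, ← star_star (_ * r), ← d.adj, polar_comm] at h11
        have h12 : x • z = (x * k) • r • z + star (star (x * k) * r) • z := by
          rw [smul_smul, ← add_smul, show x * k * r + star (star (x * k) * r) = x * e by
            simp [← h10]; ring, mul_smul, hez]
        rw [h12, polar_add_right, h11, h8, add_zero]
    · rw [← h8 (x * k * star r), smul_smul, show x * k * star r * r = x * e by rw [← h9]; ring,
        mul_smul, hez]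
  push Not at h7
  obtain ⟨a, ha, h7⟩ := h7
  obtain ⟨k, hk⟩ := (he.min (a + star a) (by simp [add_comm])).resolve_left fun h10 =>
    h7 (d.gn_fix ha (by rw [← hez, smul_smul, h10, zero_smul]))
  rw [← hez, ← hk, smul_smul, show x * (k * (a + star a)) = (a + star a) * (x * k) by ring,
    mul_smul, add_smul, quad_add, ha.iso, ha.star.iso, CharTwo.add_self_eq_zero, zero_add,
    smul_smul, smul_smul, d.adj, smul_smul, h9]

theorem exists_fix (d : RD R Q) (h : Red R Q S) (hv : Pp R Q S v) (hv' : v ∉ Submodule.span R S)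
    {P : Subgroup (G0 Q)} (hP : IsPGroup 2 P) (hP' : P ≤ Gam R Q S) : ∃ (z : V) (e : R),
      Pp R Q S z ∧ z ∉ Submodule.span R S ∧ Mn e ∧ e • z = z ∧ P ≤ Gam R Q (insert z S) := by
  obtain ⟨e, he, v, h1, h2⟩ := d.exists_mn (p := fun e => ∃ v, Pp R Q S v ∧
    e • v ∉ Submodule.span R S) ⟨v, hv, by simpa using hv'⟩ fun e f ⟨v, h1, h2⟩ => by
      by_contra! h3
      exact h2 (by rw [add_smul]; exact add_mem (h3.1 v h1) (h3.2 v h1))
  obtain ⟨z, h3, h4, h5⟩ := exists_fix_mod hP (vv F)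
    { carrier := {v | Pp R Q S v ∧ e • v = v}
      add_mem' ha hb := ⟨ha.1.add hb.1, by rw [smul_add, ha.2, hb.2]⟩
      zero_mem' := ⟨fun _ _ => by simp, by simp⟩
      neg_mem' hx := ⟨by simpa using hx.1.fsmul (-1), by rw [smul_neg, hx.2]⟩ }
    (Submodule.span R S).toAddSubgroup (fun g v hv => ⟨hv.1.gam (hP' g.2), by
      change e • g.1 • v = g.1 • v
      rw [← tst_sa (sg Q g) he.sa, ← (hP' g.2).1, hv.2]⟩) (fun g v hv => Gam.span (hP' g.2) hv)
    (v := e • v) ⟨h1.smul d e, by rw [smul_smul, he.idem]⟩ h2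
  exact ⟨z, e, h3.1, h4, he, h3.2, fun g hg => mem_Gam_insert.2
    ⟨hP' hg, h.eq h3.1 (h5 ⟨g, hg⟩) (h3.1.gam (hP' hg)) (g_Q g z)⟩⟩

end CF.FSo
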