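/-
Strong reality of isometries of quadratic forms in characteristic two.
-/
import Cfsg.Agent.FSo.G1
import Cfsg.Agent.Cls.KE9

set_option autoImplicit false

namespace CF.FSo

open Module CF.Geom CF.Cls QuadraticMap Polynomial

universe u

variable {F : Type u} [Field F] {T T' A S : QT F}

/-- There is an inverting involution of maximal rank. -/
def RI (T : QT F) : Prop := ∃ x : End F T.V, (∀ v, T.Q (x v) = T.Q v) ∧
  (∀ v, T.f (x (T.f v)) = x v) ∧ (∀ v, x (x v) = v) ∧ ∀ v, x v = v → ∃ u, x u - u = v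

theorem RI.iso (h : RI T') (e : T.Iso T') : RI T := by
  obtain ⟨Z, z1, z2⟩ := e
  obtain ⟨x, h1, h2, h3, h4⟩ := h
  refine ⟨Z.symm.conj x, fun v => by simp [← z1, h1], fun v => Z.injective (by simp [z2, h2]),
    fun v => by simp [h3], fun v hv => ?_⟩
  obtain ⟨u, hu⟩ := h4 (Z v) (by simpa [Z.symm_apply_eq] using hv)
  exact ⟨Z.symm u, Z.injective (by simpa using hu)⟩

theorem RI.add (h : RI T) (h' : RI S) : RI (T.add S) := by
  obtain ⟨x, h1, h2, h3, h4⟩ := h
  obtain ⟨y, k1, k2, k3, k4⟩ := h'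
  refine ⟨x.prodMap y, fun v => congrArg₂ (· + ·) (h1 _) (k1 _), fun v => Prod.ext (h2 _) (k2 _),
    fun v => Prod.ext (h3 _) (k3 _), fun v hv => ?_⟩
  obtain ⟨u, hu⟩ := h4 _ (congrArg Prod.fst hv)
  obtain ⟨w, hw⟩ := k4 _ (congrArg Prod.snd hv)
  exact ⟨(u, w), Prod.ext hu hw⟩

/-- Generators. -/
def Gen (T : QT F) {ι : Type*} (e : ι → T.V) : Prop :=
  ∀ X : Submodule F T.V, (∀ v ∈ X, T.f v ∈ X) → (∀ a, e a ∈ X) → X = ⊤

theorem exists_isom {κ : Type*} {u u' : κ → T.V} (h : Submodule.span F (Set.range u) = ⊤)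
    (h1 : ∀ i, T.Q (u' i) = T.Q (u i)) (h2 : ∀ i j, T.B (u' i) (u' j) = T.B (u i) (u j)) :
    ∃ x : End F T.V, (∀ v, T.Q (x v) = T.Q v) ∧ ∀ i, x (u i) = u' i := by
  set L := Finsupp.linearCombination F u
  set L' := Finsupp.linearCombination F u'
  let D := T.Q.comp L' - T.Q.comp L
  have d1 : ∀ x, D x = T.Q (L' x) - T.Q (L x) := fun _ => rfl
  have d2 : ∀ x y, polar D x y = T.B (L' x) (L' y) - T.B (L x) (L y) := fun x y => by
    simp only [polar, d1, map_add, QT.Q_add]; ring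
  have d3 := quad_eq_zero_of_span (D := D) Finsupp.basisSingleOne.span_eq
    (by rintro _ ⟨i, rfl⟩; simp [d1, L, L', h1]) (by
      rintro _ ⟨i, rfl⟩ _ ⟨j, rfl⟩; simp [d2, L, L', h2])
  obtain ⟨σ, hσ⟩ := L.exists_rightInverse_of_surjective (by rwa [Finsupp.range_linearCombination])
  have d4 : ∀ v, L (σ v) = v := LinearMap.congr_fun hσ
  have d5 : ∀ v, T.Q ((L' ∘ₗ σ) v) = T.Q v := fun v => by simpa [d1, d4, sub_eq_zero] using d3 (σ v)
  refine ⟨L' ∘ₗ σ, d5, fun i => ?_⟩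
  obtain ⟨g, -, hg⟩ := exists_g0 T.nondeg _ d5
  refine sub_eq_zero.1 (T.eh.nondeg _ fun w => ?_)
  have d6 : polar D (σ (u i) - Finsupp.single i 1) (σ (g⁻¹ • w)) = 0 := by simp [polar, d3]
  rw [d2, show L' (σ (g⁻¹ • w)) = w by simpa using (hg (g⁻¹ • w)).symm] at d6
  simpa [L, L', d4] using d6

variable [Finite F]

theorem inv_gen {ι : Type*} {e : ι → T.V} (h : Gen T e) (τ : ι → ι) (h1 : ∀ a, τ (τ a) = a)
    (h2 : ∀ a, T.Q (e (τ a)) = T.Q (e a)) (h3 : ∀ a b (i j : ℕ), T.B ((T.f ^ j) (e (τ a)))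
      ((T.f ^ i) (e (τ b))) = T.B ((T.f ^ i) (e a)) ((T.f ^ j) (e b))) :
    ∃ x : End F T.V, (∀ v, T.Q (x v) = T.Q v) ∧ (∀ v, T.f (x (T.f v)) = x v) ∧
      (∀ v, x (x v) = v) ∧ ∀ a, x (e a) = e (τ a) := by
  obtain ⟨g, -, hg⟩ := exists_g0 T.nondeg _ T.inv
  have a1 : ∀ (k : ℕ) v, g ^ k • v = (T.f ^ k) v := fun k v => by
    induction k with
    | zero => simp
    | succ k ih => rw [pow_succ', mul_smul, ih, hg, pow_succ', End.mul_apply]
  have a2 := h (Submodule.span F (Set.range fun p : ι × ℕ => g ^ p.2 • e p.1)) (fun v hv =>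
    Submodule.mem_comap.1 (Submodule.span_le.2 (by
      rintro _ ⟨⟨a, k⟩, rfl⟩
      exact Submodule.subset_span ⟨(a, k + 1), by simp [pow_succ', mul_smul, hg]⟩) hv))
    fun a => Submodule.subset_span ⟨(a, 0), by simp⟩
  obtain ⟨x, x1, x2⟩ := exists_isom (u' := fun p : ι × ℕ => g⁻¹ ^ p.2 • e (τ p.1)) a2
    (fun p => by rw [g_Q, g_Q, h2]) fun p q => by
      rw [a1, a1, ← h3, ← a1, ← a1, ← T.pol, ← T.pol, ← g_polar (g ^ (p.2 + q.2)), smul_smul,
        smul_smul]
      congr 2 <;> group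
  have x3 : T.f * x * T.f = x := LinearMap.ext_on_range a2 fun p => by
    have := x2 (p.1, p.2 + 1)
    simp only [pow_succ', mul_smul] at this
    rw [End.mul_apply, End.mul_apply, ← hg (_ • _), this, ← hg, x2, smul_inv_smul]
  have x4 : ∀ v, T.f (x (T.f v)) = x v := LinearMap.congr_fun x3
  have x5 : ∀ a, x (e a) = e (τ a) := fun a => by simpa using x2 (a, 0)
  refine ⟨x, x1, x4, fun v => (h (LinearMap.eqLocus (x * x) 1) (fun v hv => ?_) fun a => ?_).ge
    Submodule.mem_top, x5⟩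
  · have hv : x (x v) = v := hv
    change x (x (T.f v)) = T.f v
    rw [← x4 (x (T.f v)), x4 v, hv]
  · change x (x (e a)) = e a
    rw [x5, x5, h1]

variable [CharP F 2]

theorem ri_of_rank {x : End F T.V} (h1 : ∀ v, T.Q (x v) = T.Q v) (h2 : ∀ v, T.f (x (T.f v)) = x v)
    (h3 : ∀ v, x (x v) = v) (h4 : finrank F T.V ≤ 2 * finrank F (LinearMap.range (x - 1))) :
    RI T := by
  have h5 : LinearMap.range (x - 1) = LinearMap.ker (x - 1) := Submodule.eq_of_le_of_finrank_le (by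
    rintro _ ⟨v, rfl⟩
    simp only [LinearMap.mem_ker, LinearMap.sub_apply, End.one_apply, map_sub, h3]
    linear_combination (norm := module) vv F v - vv F (x v)) (by
      have := (x - 1).finrank_range_add_finrank_ker; omega)
  exact ⟨x, h1, h2, h3, fun v hv => h5.ge (by simp [hv])⟩

theorem ri_cyc {v : T.V} (h : Gen T fun _ : Unit => v) : RI T := by
  obtain ⟨x, x1, x2, x3, -⟩ := inv_gen h id (fun _ => rfl) (fun _ => rfl) fun _ _ _ _ => QT.B_comm ..
  have a1 := h ((F ∙ v) ⊔ LinearMap.range (T.f - 1)) (fun u hu => by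
    simpa using add_mem hu (Submodule.mem_sup_right (LinearMap.mem_range_self (T.f - 1) u)))
    fun _ => Submodule.mem_sup_left (Submodule.mem_span_singleton_self v)
  have a2 : (F ∙ x v) ⊔ (LinearMap.range (x - 1) ⊔ LinearMap.range (x * T.f - 1)) = ⊤ :=
    eq_top_iff.2 fun u _ => by
      obtain ⟨_, h1, _, ⟨y, rfl⟩, h2⟩ := Submodule.mem_sup.1 (a1.ge (Submodule.mem_top (x := x u)))
      obtain ⟨c, rfl⟩ := Submodule.mem_span_singleton.1 h1
      refine Submodule.mem_sup.2 ⟨_, Submodule.mem_span_singleton.2 ⟨c, rfl⟩, _,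
        Submodule.add_mem_sup ⟨-y, rfl⟩ ⟨y, rfl⟩, ?_⟩
      rw [← x3 u, ← h2]
      simp
      abel
  have a3 := Submodule.finrank_add_le_finrank_add_finrank (F ∙ x v)
    (LinearMap.range (x - 1) ⊔ LinearMap.range (x * T.f - 1))
  have a4 := Submodule.finrank_add_le_finrank_add_finrank (LinearMap.range (x - 1))
    (LinearMap.range (x * T.f - 1))
  have a5 : finrank F (F ∙ x v) ≤ 1 := by simpa using finrank_span_le_card (R := F) {x v}
  have a6 := QT.even_finrank T
  rw [a2, finrank_top] at a3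
  by_cases h1 : finrank F T.V ≤ 2 * finrank F (LinearMap.range (x - 1))
  · exact ri_of_rank x1 x2 x3 h1
  · refine ri_of_rank (x := x * T.f) (fun v => by simp [x1, T.inv]) (fun v => x2 _)
      (fun v => ?_) (by obtain ⟨r, hr⟩ := a6; omega)
    rw [End.mul_apply, End.mul_apply, x2, x3]

omit [Finite F] [CharP F 2] in
theorem N_mem {X : Submodule F T.V} (h : ∀ v ∈ X, T.f v ∈ X) {v : T.V} (hv : v ∈ X) (k : ℕ) :
    T.N k v ∈ X := by
  induction k with
  | zero => exact hv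
  | succ k ih => rw [nn_succ]; exact sub_mem (h _ ih) ih

omit [Finite F] [CharP F 2] in
theorem exists_pre {X : Submodule F T.V} (h : ∀ v ∈ X, T.f v ∈ X) {v : T.V} (hv : v ∈ X) :
    ∃ u ∈ X, T.f u = v := by
  obtain ⟨c, hc⟩ := (LinearMap.injective_iff_surjective (f := T.f.restrict h)).1 (fun p q e =>
    Subtype.ext (((End.isUnit_iff _).1 T.unit).1 (congrArg Subtype.val e))) ⟨v, hv⟩
  exact ⟨c, c.2, congrArg Subtype.val hc⟩

omit [Finite F] in
theorem gen_of {m r : ℕ} {e : Fin r → T.V} (hN : ∀ a, T.N (m + 1) (e a) = 0)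
    (hd : (gram (T.tf m) e).det ≠ 0) (hr : finrank F T.V = (m + 1) * r) : Gen T e := by
  obtain ⟨φ, h1, h2⟩ := T.exists_equiv_gen hN hd hr
  refine fun X h3 h4 => eq_top_iff.2 fun v _ => ?_
  obtain ⟨x, rfl⟩ := φ.surjective v
  refine (Submodule.span_le (p := X.comap φ.toLinearMap)).2 ?_ ((span_FM m r).ge Submodule.mem_top)
  rintro _ ⟨⟨a, k⟩, rfl⟩
  exact (congrArg (· ∈ X) (sub_one_pow_intertwine φ.toLinearMap h1 k _)).mpr
    (N_mem h3 ((congrArg (· ∈ X) (h2 a)).mpr (h4 a)) k)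

omit [Finite F] in
theorem B_pow_eq_zero {z : T.V} (h : ∀ i, T.Q (T.N i z) = 0) (i j : ℕ) :
    T.B ((T.f ^ i) z) ((T.f ^ j) z) = 0 := by
  have h1 : ∀ i, (T.f ^ i) z ∈ Submodule.span F (Set.range fun k => T.N k z) := fun i => by
    induction i with
    | zero => exact Submodule.subset_span ⟨0, rfl⟩
    | succ i ih =>
      rw [pow_succ', End.mul_apply]
      refine Submodule.mem_comap.1 (Submodule.span_le.2 ?_ ih)
      rintro _ ⟨k, rfl⟩
      simpa [nn_succ] using add_mem (Submodule.subset_span (R := F) (Set.mem_range_self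
        (f := fun k => T.N k z) (k + 1))) (Submodule.subset_span (Set.mem_range_self k))
  refine (Submodule.span_le (p := LinearMap.ker (T.B.flip _))).2 ?_ (h1 i)
  rintro _ ⟨a, rfl⟩
  refine (Submodule.span_le (p := LinearMap.ker (T.B _))).2 ?_ (h1 j)
  rintro _ ⟨b, rfl⟩
  exact (T.pol _ _).symm.trans (polar_pow_self T.inv h a b)

theorem ri_swap {k : ℕ} {v w : T.V} (h : Gen T ![v, w]) (hw : T.N (k + 1) w = 0)
    (hr : finrank F T.V = 2 * (k + 1)) (h1 : ∀ i, T.Q (T.N i v) = T.Q (T.N i w)) : RI T := by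
  have a1 : ∀ i j : ℕ, T.B ((T.f ^ j) w) ((T.f ^ i) w) = T.B ((T.f ^ i) v) ((T.f ^ j) v) :=
    fun i j => by
      have := B_pow_eq_zero (T := T.add T) (z := (v, w)) (fun i => by
        rw [QT.add_N, QT.add_Q, h1, CharTwo.add_self_eq_zero]) i j
      have h2 : ∀ i : ℕ, ((T.add T).f ^ i) (v, w) = ((T.f ^ i) v, (T.f ^ i) w) := fun i => by
        induction i with
        | zero => rfl
        | succ i ih => simp only [pow_succ', End.mul_apply, ih]; rfl
      rw [h2, h2, QT.add_B, CharTwo.add_eq_zero] at this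
      rw [this, QT.B_comm]
  obtain ⟨x, x1, x2, x3, x4⟩ := inv_gen h Fin.rev Fin.rev_rev (fun a => by
    fin_cases a; exacts [(h1 0).symm, h1 0]) fun a b i j => by
      fin_cases a <;> fin_cases b
      exacts [a1 i j, QT.B_comm .., QT.B_comm .., (a1 j i).symm]
  set W := Submodule.span F (Set.range fun i : Fin (k + 1) => T.N i w)
  have a2 : ∀ u ∈ W, T.f u ∈ W := fun u hu => Submodule.mem_comap.1 (Submodule.span_le.2 (by
    rintro _ ⟨i, rfl⟩
    have : T.N (i + 1) w ∈ W := by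
      rcases (Nat.succ_le_of_lt i.2).eq_or_lt with h2 | h2
      · exact (nn_of_le hw h2.ge).symm ▸ zero_mem _
      · exact Submodule.subset_span ⟨⟨_, h2⟩, rfl⟩
    simpa [nn_succ] using add_mem this (Submodule.subset_span (Set.mem_range_self i))) hu)
  have a3 : w ∈ W := Submodule.subset_span ⟨0, rfl⟩
  have a4 := h (W ⊔ W.map x) (fun u hu => by
    obtain ⟨a, ha, _, ⟨b, hb, rfl⟩, rfl⟩ := Submodule.mem_sup.1 hu
    obtain ⟨c, hc, rfl⟩ := exists_pre a2 hb
    rw [map_add, x2]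
    exact Submodule.add_mem_sup (a2 a ha) ⟨c, hc, rfl⟩) fun a => by
      fin_cases a
      exacts [Submodule.mem_sup_right ⟨w, a3, x4 1⟩, Submodule.mem_sup_left a3]
  have a5 : W ⊔ LinearMap.range (x - 1) = ⊤ := eq_top_iff.2 (a4.ge.trans (sup_le le_sup_left (by
    rintro _ ⟨b, hb, rfl⟩
    exact Submodule.mem_sup.2 ⟨b, hb, _, ⟨b, rfl⟩, by simp⟩)))
  have a6 := Submodule.finrank_add_le_finrank_add_finrank W (LinearMap.range (x - 1))
  have a7 : finrank F W ≤ k + 1 := (finrank_range_le_card _).trans (Fintype.card_fin _).le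
  rw [a5, finrank_top] at a6
  exact ri_of_rank x1 x2 x3 (by omega)

theorem ri_blk {b : Blk} (h : QT.IsBlk b T) : RI T := by
  obtain ⟨_ | _, k, c⟩ := b
  swap
  · obtain ⟨v, h1⟩ := h.vd
    exact ri_cyc fun X h2 h3 => gen_of (m := 2 * k + 1) (e := ![v]) (by simpa using h1.1) h1.det
      (h.1.trans (by simp; ring)) X h2 (by simpa using h3 ())
  obtain ⟨v, w, h1⟩ := h.wd
  have a1 := gen_of h1.nil h1.det (h.1.trans (mul_comm _ _))
  have a2 : T.B v (T.N k w) = 1 := (h1.b k k.zero_le).trans (if_pos rfl)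
  have a3 := QT.tau_self (Nat.zero_le _) h1.nw h1.qw
  suffices ∀ d, ∃ x, Gen T ![x, w] ∧ T.B x (T.N k w) = 1 ∧
      ∀ i, k ≤ 2 * i + d → T.Q (T.N i x) = T.Q (T.N i w) by
    obtain ⟨x, h2, -, h3⟩ := this k
    exact ri_swap h2 h1.nw h.1 fun i => h3 i (by omega)
  have a4 : ∀ x j (t : F), Gen T ![x, w] → Gen T ![x + t • T.N j w, w] := fun x j t h2 X h3 h4 =>
    h2 X h3 fun a => by
      fin_cases a
      exacts [by simpa using sub_mem (h4 0) (X.smul_mem t (N_mem h3 (h4 1) j)), h4 1]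
  intro d
  induction d with
  | zero =>
    refine ⟨_, a4 v 0 1 a1, by simp [a2, a3], fun i hi => ?_⟩
    rw [QT.Q_mod h1.nw (by omega), h1.qv i (by omega), h1.b _ (by omega)]
    simp [CharTwo.add_self_eq_zero]
  | succ d ih =>
    obtain ⟨x, h2, h3, h4⟩ := ih
    refine ⟨_, a4 x (d + 1) (T.Q (T.N ((k - d - 1) / 2) x)) h2, ?_, fun i hi => ?_⟩
    · simp [h3, QT.B_zero h1.nw (a := d + 1) (b := k) (by omega)]
    rw [QT.Q_mod h1.nw (by omega), h1.qw (i + _) (by omega), if_neg (by omega)]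
    rcases hi.eq_or_lt with h5 | h5
    · rw [← h5, h3, h1.qw i (by omega), if_neg (by omega), show (k - d - 1) / 2 = i by omega]
      simp [CharTwo.add_self_eq_zero]
    · simp [nn_of_le h1.nw h5, h4 i (by omega)]

omit [Finite F] in
theorem exists_cyc [Nontrivial T.V] (h : ∀ v, T.f v = v → v = 0) :
    ∃ (Z : Submodule F T.V) (v : T.V), v ≠ 0 ∧ v ∈ Z ∧ (∀ z ∈ Z, T.f z ∈ Z) ∧
      (∀ z ∈ Z, (∀ y ∈ Z, T.B z y = 0) → z = 0) ∧
      ∀ X : Submodule F T.V, (∀ z ∈ X, T.f z ∈ X) → v ∈ X → Z ≤ X := by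
  obtain ⟨u, hu⟩ := T.unit
  have a1 : ∀ v, T.f (u⁻¹.1 v) = v := fun v => by rw [← hu, ← End.mul_apply, u.mul_inv]; rfl
  have a2 : ∀ v, u⁻¹.1 (T.f v) = v := fun v => by rw [← hu, ← End.mul_apply, u.inv_mul]; rfl
  have a3 : ∀ v w, T.B (u⁻¹.1 v) w = T.B v (T.f w) := fun v w => by rw [← T.pres, a1]
  obtain ⟨s, hs⟩ : ∃ s, s = T.f + u⁻¹.1 := ⟨_, rfl⟩
  have s1 : ∀ v w, T.B (s v) w = T.B v (s w) := fun v w => by
    simp [hs, a3, QT.B_comm v (u⁻¹.1 w), QT.B_comm w, add_comm]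
  have s2 : ∀ v, T.B (s v) v = 0 := fun v => by
    simp [hs, a3, QT.B_comm v, CharTwo.add_self_eq_zero]
  have s3 : Function.Surjective s := LinearMap.injective_iff_surjective.1
    ((injective_iff_map_eq_zero s).2 fun v hv => h v (sub_eq_zero.1 (h _ (by
      have := congrArg T.f hv
      simp only [hs, LinearMap.add_apply, map_add, a1, map_zero, map_sub] at this ⊢
      linear_combination (norm := module) this - vv F (T.f v)))))
  have s4 : ∀ (p : F[X]) v, T.f (aeval s p v) = aeval s p (T.f v) := fun p =>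
    LinearMap.congr_fun (Algebra.commute_of_mem_adjoin_singleton_of_commute
      (aeval_mem_adjoin_singleton F s) (LinearMap.ext fun v => by simp [hs, a1, a2]) :
      Commute T.f (aeval s p))
  have s8 : ∀ (k : ℕ) v w, T.B ((s ^ k) v) w = T.B v ((s ^ k) w) := fun k => by
    induction k with
    | zero => simp
    | succ k ih => intro v w; rw [pow_succ, End.mul_apply, ih, s1, ← pow_succ, pow_succ']; rfl
  have s5 : ∀ (p : F[X]) v w, T.B (aeval s p v) w = T.B v (aeval s p w) := fun p v w => by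
    rw [aeval_eq_sum_range]
    simp [s8]
  have s9 : ∀ v, s (T.f v) = T.f (T.f v) + v := fun v => by simp [hs, a2]
  have s6 : ∀ (k : ℕ) v, T.B ((s ^ k) v) v = 0 := fun k => by
    induction k using Nat.twoStepInduction with
    | zero => exact QT.B_self
    | one => simpa using s2
    | more k ih _ => intro v; rw [pow_succ', pow_succ, End.mul_apply, s1, End.mul_apply, ih]
  have s7 : ∀ (p q : F[X]) v, T.B (aeval s p v) (aeval s q v) = 0 := fun p q v => by
    rw [← s5, ← End.mul_apply, ← map_mul, aeval_eq_sum_range]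
    simp [s6]
  have m0 := minpoly.ne_zero (Algebra.IsIntegral.isIntegral (R := F) s)
  obtain ⟨π, p1, p2⟩ := WfDvdMonoid.exists_irreducible_factor (minpoly.not_isUnit F s) m0
  obtain ⟨_ | k, m, m1, m2⟩ := WfDvdMonoid.max_power_factor m0 p1
  · exact (m1 (by simpa [m2] using p2)).elim
  obtain ⟨v, hv⟩ : ∃ v, T.B (aeval s (m * (π ^ k * m)) v) (T.f v) ≠ 0 := by
    by_contra! h1
    have h2 := minpoly.dvd F s (p := m * (π ^ k * m)) (LinearMap.ext fun v => T.eh.nondeg _ fun w => by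
      obtain ⟨w, rfl⟩ := s3 w
      have := h1 (v + w)
      simp only [map_add, LinearMap.add_apply, h1, zero_add, add_zero] at this
      rw [s5 _ w, ← s4, ← a3, QT.B_comm (u⁻¹.1 w)] at this
      simpa [hs, add_comm] using this)
    rw [m2] at h2 m0
    rw [pow_succ, mul_comm m, mul_dvd_mul_iff_right (right_ne_zero_of_mul m0),
      mul_dvd_mul_iff_left (pow_ne_zero _ p1.ne_zero)] at h2
    exact m1 h2
  rw [map_mul, End.mul_apply, s5, ← s4, map_mul, End.mul_apply] at hv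
  have b1 : aeval s (π ^ (k + 1)) (aeval s m v) = 0 := by
    rw [← End.mul_apply, ← map_mul, ← m2, minpoly.aeval]; rfl
  generalize aeval s m v = v at hv b1
  have b2 : ∀ q : F[X], (∀ r, T.B (aeval s (r * q) v) (T.f v) = 0) → aeval s q v = 0 :=
    fun q hq => by
      obtain ⟨a, b, h1⟩ := IsBezout.gcd_eq_sum q (π ^ (k + 1))
      obtain ⟨i, h2, h3⟩ := (dvd_prime_pow p1.prime _).1 (IsBezout.gcd_dvd_right q (π ^ (k + 1)))
      rcases h2.eq_or_lt with rfl | h2
      · obtain ⟨t, rfl⟩ := h3.symm.dvd.trans (IsBezout.gcd_dvd_left ..)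
        rw [mul_comm, map_mul, End.mul_apply, b1, map_zero]
      obtain ⟨t, ht⟩ := h3.dvd.trans (pow_dvd_pow π (Nat.le_of_lt_succ h2))
      refine (hv ?_).elim
      rw [ht, ← h1, show (a * q + b * π ^ (k + 1)) * t = t * a * q + t * b * π ^ (k + 1) by ring,
        map_add, LinearMap.add_apply, map_add, LinearMap.add_apply, hq, map_mul, End.mul_apply, b1]
      simp
  refine ⟨{ carrier := {z | ∃ p q : F[X], aeval s p v + aeval s q (T.f v) = z}
            add_mem' := ?_, zero_mem' := ⟨0, 0, by simp⟩, smul_mem' := ?_ }, v,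
    fun e => by simp [e] at hv, ⟨1, 0, by simp⟩, ?_, ?_, fun X h1 h2 => ?_⟩
  · rintro _ _ ⟨p, q, rfl⟩ ⟨p', q', rfl⟩
    exact ⟨p + p', q + q', by simp; abel⟩
  · rintro c _ ⟨p, q, rfl⟩
    exact ⟨c • p, c • q, by simp⟩
  · rintro _ ⟨p, q, rfl⟩
    exact ⟨-q, p + q * X, by simp [s4, s9]; abel⟩
  · rintro _ ⟨p, q, rfl⟩ h1
    rw [b2 p fun r => ?_, ← s4, b2 q fun r => ?_, map_zero, add_zero]
    · have := h1 _ ⟨r, 0, rfl⟩
      simp only [map_zero, LinearMap.zero_apply, add_zero, map_add, LinearMap.add_apply, s7] at this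
      rwa [zero_add, s5, QT.B_comm, ← End.mul_apply, ← map_mul, mul_comm] at this
    · have := h1 _ ⟨0, r, rfl⟩
      simp only [map_zero, LinearMap.zero_apply, zero_add, map_add, LinearMap.add_apply, s7] at this
      rwa [add_zero, ← s5, ← End.mul_apply, ← map_mul] at this
  · have h3 : ∀ (k : ℕ), ∀ z ∈ X, (s ^ k) z ∈ X := fun k z hz => by
      induction k with
      | zero => exact hz
      | succ k ih =>
        obtain ⟨y, h3, h4⟩ := exists_pre h1 ih
        rw [pow_succ', End.mul_apply, ← h4, s9]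
        exact add_mem (h1 _ (h1 y h3)) h3
    have h4 : ∀ (p : F[X]), ∀ z ∈ X, aeval s p z ∈ X := fun p z hz => by
      rw [aeval_eq_sum_range, LinearMap.sum_apply]
      exact X.sum_mem fun k _ => X.smul_mem _ (h3 k z hz)
    rintro _ ⟨p, q, rfl⟩
    exact add_mem (h4 p v h2) (h4 q _ (h1 v h2))

theorem ri_fpf (h : ∀ v, T.f v = v → v = 0) : RI T := by
  induction hn : finrank F T.V using Nat.strong_induction_on generalizing T with
  | _ n ih =>
  rcases subsingleton_or_nontrivial T.V with h0 | h0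
  · exact ⟨1, fun _ => rfl, fun _ => Subsingleton.elim .., fun _ => rfl,
      fun v _ => ⟨v, Subsingleton.elim ..⟩⟩
  obtain ⟨Z, v, h1, h2, h3, h4, h5⟩ := exists_cyc h
  obtain ⟨S, e⟩ := T.exists_split Z.subtype (g := T.f.restrict h3) (fun _ => rfl)
    fun x hx => Subtype.ext (h4 x x.2 fun y hy => hx ⟨y, hy⟩)
  refine (RI.add ?_ ?_).iso e
  · refine ri_cyc (v := (⟨v, h2⟩ : Z)) fun X h6 h7 => eq_top_iff.2 fun z _ => ?_
    obtain ⟨y, h8, h9⟩ := h5 (X.map Z.subtype) (by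
      rintro _ ⟨y, hy, rfl⟩; exact ⟨_, h6 y hy, rfl⟩) ⟨_, h7 (), rfl⟩ z.2
    exact Subtype.ext h9 ▸ h8
  obtain ⟨E, -, e2⟩ := e.symm
  refine ih _ ?_ (fun y hy => ?_) rfl
  · have : 0 < finrank F Z :=
      finrank_pos_iff_exists_ne_zero.2 ⟨⟨v, h2⟩, fun e => h1 (congrArg Subtype.val e)⟩
    rw [← hn, ← E.finrank_eq, finrank_prod]
    exact Nat.lt_add_of_pos_left this
  · exact congrArg Prod.snd (E.map_eq_zero_iff.1 (h _ ((e2 (0, y)).symm.trans
      (congrArg E (Prod.ext (map_zero (T.f.restrict h3)) hy)))))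

theorem ri (T : QT F) : RI T := by
  obtain ⟨l, h⟩ := T.exists_MF
  induction h with
  | nil h => exact ri_fpf h
  | cons h _ e ih => exact ((ri_blk h).add ih).iso e

/-- Every isometry is inverted by an involution of maximal rank. -/
theorem exists_inv {V : Type u} [AddCommGroup V] [Module F V] [FiniteDimensional F V]
    {Q : QuadraticForm F V} (hQ : (polarBilin Q).Nondegenerate) (g : OG Q) :
    ∃ x : OG Q, x * g * x⁻¹ = g⁻¹ ∧ 2 * finrank F (RU x.1) = finrank F V := by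
  obtain ⟨x, h1, h2, h3, h4⟩ := ri (oQT hQ g)
  refine ⟨⟨.ofInvolutive x h3, mem_OG.2 h1⟩, ?_, ?_⟩
  · rw [mul_inv_eq_iff_eq_mul, eq_inv_mul_iff_mul_eq]
    exact Subtype.ext (LinearEquiv.ext h2)
  · have h5 : LinearMap.range (x - 1) = LinearMap.ker (x - 1) := le_antisymm (by
      rintro _ ⟨v, rfl⟩
      simp only [LinearMap.mem_ker, LinearMap.sub_apply, End.one_apply, map_sub, h3]
      linear_combination (norm := module) vv F v - vv F (x v)) fun v hv => h4 v (sub_eq_zero.1 hv)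
    have := (x - 1).finrank_range_add_finrank_ker
    rw [← h5, ← two_mul] at this
    exact this

end CF.FSo
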