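/-
Orthogonal groups in characteristic two: the Hermitian form attached to a minimal idempotent.
-/
import Cfsg.Agent.FSo.G1

set_option autoImplicit false

namespace CF.FSo

open Module CF.Geom QuadraticMap

variable {F V : Type*} [Field F] [AddCommGroup V] [Module F V] {Q : QuadraticForm F V}
  {R : Type*} [CommRing R] [StarRing R] [Module R V] [Algebra F R]

/-- The Hermitian form with values in `e R`. -/
structure HF (Q : QuadraticForm F V) (e : R) where
  T : R →ₗ[F] F
  h : V → V → R
  T_star : ∀ r, T (star r) = T r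
  nd : ∀ r, (∀ r', T (r' * r) = 0) → e * r = 0
  eh : ∀ v x, e * h v x = h v x
  spec : ∀ r v x, T (r * h v x) = polar Q (r • e • v) x

variable [IsScalarTower F R V] {S : Set V} {g : G0 Q} {z u v w x : V} {r a e : R}

namespace HF

variable (H : HF Q e)

omit [IsScalarTower F R V] in
theorem ext {a b : R} (ha : e * a = a) (hb : e * b = b) (h : ∀ r, H.T (r * a) = H.T (r * b)) :
    a = b := by
  have := H.nd (a - b) fun r => by rw [mul_sub, map_sub, h, sub_self]
  rwa [mul_sub, ha, hb, sub_eq_zero] at this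

omit [IsScalarTower F R V] in
theorem add₁ (v v' x : V) : H.h (v + v') x = H.h v x + H.h v' x :=
  H.ext (H.eh _ _) (by rw [mul_add, H.eh, H.eh]) fun r => by
    simp only [mul_add, map_add, H.spec, smul_add, polar_add_left]

omit [IsScalarTower F R V] in
theorem add₂ (v x x' : V) : H.h v (x + x') = H.h v x + H.h v x' :=
  H.ext (H.eh _ _) (by rw [mul_add, H.eh, H.eh]) fun r => by
    simp only [mul_add, map_add, H.spec, polar_add_right]

omit [IsScalarTower F R V] in
theorem smul₁ (r : R) (v x : V) : H.h (r • v) x = r * H.h v x :=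
  H.ext (H.eh _ _) (by rw [mul_left_comm, H.eh]) fun r' => by
    rw [← mul_assoc, H.spec, H.spec, smul_comm e r, mul_smul]

theorem fsmul₁ (c : F) (v x : V) : H.h (c • v) x = c • H.h v x := by
  rw [← algebraMap_smul R, H.smul₁, Algebra.smul_def]

omit [IsScalarTower F R V] in
theorem zero₁ (x : V) : H.h 0 x = 0 := by simpa using H.smul₁ 0 0 x

omit [IsScalarTower F R V] in
theorem zero₂ (x : V) : H.h x 0 = 0 := by simpa using H.add₂ x 0 0

omit [IsScalarTower F R V] in
theorem pol (hv : e • v = v) (x : V) : polar Q v x = H.T (H.h v x) := by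
  simpa [hv] using (H.spec 1 v x).symm

variable (d : RD R Q) (he : Mn e)
include d he

theorem symm (v x : V) : star (H.h v x) = H.h x v :=
  H.ext (by simpa [he.sa, mul_comm] using congrArg star (H.eh v x)) (H.eh _ _) fun r => by
    rw [← H.T_star, star_mul', star_star, H.spec, H.spec, smul_smul, d.adj, star_mul', star_star,
      he.sa, polar_comm, mul_smul]

theorem smul₂ (r : R) (v x : V) : H.h v (r • x) = star r * H.h v x := by
  rw [← H.symm d he, H.smul₁, star_mul', H.symm d he]

theorem pol' (v : V) (hx : e • x = x) : polar Q v x = H.T (H.h v x) := by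
  rw [polar_comm, H.pol hx, ← H.T_star, H.symm d he]

omit d in
theorem gam (hg : g ∈ Gam R Q S) (v x : V) : H.h (g • v) (g • x) = tst (sg Q g) (H.h v x) := by
  have h1 : ∀ r, H.T (tst (sg Q g) r) = H.T r := fun r => by
    rcases Int.units_eq_one_or (sg Q g) with h | h <;> simp [h, H.T_star]
  refine H.ext (H.eh _ _) (by
    simpa only [tst_mul, tst_sa _ he.sa] using congrArg (tst (sg Q g)) (H.eh v x)) fun r => ?_
  rw [← tst_self (sg Q g) r, ← tst_mul, h1, H.spec, H.spec, ← g_polar g (_ • e • v), hg.1, hg.1,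
    tst_sa _ he.sa]

omit d in
theorem ev (hg : g ∈ Ev (sg Q) (Gam R Q S)) (v x : V) : H.h (g • v) (g • x) = H.h v x := by
  rw [H.gam he hg.1, (mem_Ev.1 hg).2, tst_one]

theorem eq_zero_iff (hx : e • x = x) : H.h v x = 0 ↔ ∀ r : R, polar Q x (r • v) = 0 := by
  refine ⟨fun h r => by rw [polar_comm, H.pol' d he _ hx, H.smul₁, h, mul_zero, map_zero],
    fun h => H.ext (H.eh _ _) (mul_zero e) fun r => ?_⟩
  rw [H.spec, polar_comm, smul_smul, h, mul_zero, map_zero]

theorem pp (hx : Pp R Q S x) (hv : v ∈ Submodule.span R S) : H.h v x = 0 :=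
  H.ext (H.eh _ _) (mul_zero e) fun r => by
    rw [H.spec, hx _ (Submodule.smul_mem _ _ (Submodule.smul_mem _ _ hv)), mul_zero, map_zero]

variable [CharP F 2] [Finite F]

omit he in
theorem T_ne (h1 : ∀ a : R, Gn Q a → a * e = e) (h2 : H.T e = 0) (he : Mn e) : e = 0 := by
  rw [← he.idem]
  refine H.nd e fun r => ?_
  obtain ⟨c, hc, -⟩ := fix_scalar d (v := e) h1 r
  rw [← smul_eq_mul, hc, map_smul, h2, smul_zero]

omit [CharP F 2] [Finite F] H in
theorem _root_.CF.FSo.Mn.unit [CharP F 2] [Finite F] (ha : Gn Q a) (h : a * e ≠ e) :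
    ∃ j, j * (a + star a) = e :=
  (he.min _ (by simp [add_comm])).resolve_left fun h1 => h (sub_eq_zero.1 (d.faith _ fun v => by
    rw [sub_smul, mul_smul, d.gn_fix ha (by rw [smul_smul, h1, zero_smul]), sub_self]))

theorem exists_qr (hx : e • x = x) :
    ∃ ρ, e * ρ = ρ ∧ ∀ r : R, Q (r • x) = H.T (r * star r * ρ) := by
  by_cases h1 : ∀ a : R, Gn Q a → a * e = e
  · by_cases h2 : H.T e = 0
    · exact ⟨0, by simp, fun r => by
        have := H.T_ne d h1 h2 he
        rw [← hx, smul_smul, mul_eq_zero_of_right r this]; simp⟩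
    refine ⟨(Q x / H.T e) • e, by rw [mul_smul_comm, he.idem], fun r => ?_⟩
    obtain ⟨c, h3, h4⟩ := fix_scalar d (v := e) h1 r
    rw [smul_eq_mul] at h3 h4
    rw [← hx, smul_smul, h3, smul_assoc, quad_smul, hx, mul_smul_comm, mul_assoc, h4,
      mul_smul_comm, h3]
    simp only [map_smul, smul_eq_mul]
    field_simp
  push Not at h1
  obtain ⟨a, ha, h1⟩ := h1
  obtain ⟨j, hj⟩ := he.unit d ha h1
  obtain ⟨i, hi⟩ : ∃ i, (1 + a) * i = e := ⟨j * (1 + a) * star a, by
    linear_combination hj + j * (a + 2) * ha.inv + j * rr (R := R) F⟩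
  refine ⟨i * star (a * i) * H.h x x, by linear_combination i * star (a * i) * H.eh x x, fun r => ?_⟩
  have h2 : r • x = (i * r) • x + a • (i * r) • x := by
    rw [smul_smul, ← add_smul, show i * r + a * (i * r) = r * e by rw [← hi]; ring, mul_smul, hx]
  rw [h2, quad_add, ha.iso, CharTwo.add_self_eq_zero, zero_add,
    H.pol (by rw [smul_comm, hx]), H.smul₁, H.smul₂ d he, H.smul₂ d he]
  simp only [star_mul']
  congr 1; ring

end HF

/-- A hyperbolic partner. -/
structure SD (H : HF Q e) (S : Set V) (w w' : V) : Prop where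
  ew : e • w = w
  ew' : e • w' = w'
  pw : Pp R Q S w
  pw' : Pp R Q S w'
  qw : ∀ r : R, Q (r • w) = 0
  qw' : ∀ r : R, Q (r • w') = 0
  ww : H.h w w = 0
  w'w' : H.h w' w' = 0
  ww' : H.h w w' = e
  w'w : H.h w' w = e

theorem polar_of_sing (d : RD R Q) (h : ∀ r : R, Q (r • w) = 0) (r : R) :
    polar Q w (r • w) = 0 := by
  have := quad_add Q ((1 : R) • w) (r • w)
  rwa [← add_smul, h, h, h, zero_add, zero_add, one_smul, eq_comm] at this

variable [CharP F 2] [Finite F] [Finite V]

theorem exists_sd (d : RD R Q) (h : Red R Q S) (he : Mn e) (hw : Pp R Q S w)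
    (hw' : w ∉ Submodule.span R S) (ew : e • w = w) (qw : ∀ r : R, Q (r • w) = 0) {y : G0 Q}
    (hy : Od (sg Q) (Gam R Q (insert w S)) y) : ∃ (H : HF Q e) (w' : V), SD H S w w' := by
  haveI := d.finite
  let φ : R →ₗ[F] V :=
    { toFun r := (r + star r) • w
      map_add' a b := by rw [star_add, ← add_smul]; congr 1; ring
      map_smul' c a := by rw [d.star_smul, ← smul_add, smul_assoc]; rfl }
  obtain ⟨r₀, h1⟩ : ∃ r : R, r • w ∉ (Submodule.span R S).restrictScalars F ⊔ LinearMap.range φ := by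
    by_contra! h1
    have h2 : ∀ r : R, ∃ k : R, r • w = (k + star k) • w := fun r => by
      obtain ⟨x, hx, _, ⟨k, rfl⟩, h2⟩ := Submodule.mem_sup.1 (h1 r)
      have h3 : x = (r - (k + star k)) • w := by rw [sub_smul, ← h2]; exact (add_sub_cancel_right _ _).symm
      refine ⟨k, ?_⟩
      rw [← h2, h x hx (h3 ▸ hw.smul d _) (h3 ▸ qw _), zero_add]; rfl
    obtain ⟨k, h3⟩ := h2 1
    obtain ⟨k', h4⟩ := h2 k
    have h5 := congrArg (y • ·) h4
    simp only [Gam.od hy, (mem_Gam_insert.1 hy.1).2, star_add, star_star, add_comm (star k')] at h5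
    rw [one_smul, add_smul, h4, h5, vv F] at h3
    exact hw' (h3 ▸ zero_mem _)
  obtain ⟨w₀, h2, h3⟩ := exists_dual d h1
  let T : R →ₗ[F] F := polarBilin Q w₀ ∘ₗ (LinearMap.toSpanSingleton R V w).restrictScalars F
  have t0 : ∀ r, T r = polar Q (r • w) w₀ := fun r => polar_comm _ _ _
  have t1 : ∀ r, T (star r) = T r := fun r => by
    have := h3 _ (Submodule.mem_sup_right ⟨r, rfl⟩)
    rw [show φ r = (r + star r) • w from rfl, ← t0, map_add] at this
    linear_combination this - T r * CharTwo.two_eq_zero (R := F)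
  have t2 : ∀ r, (∀ r', T (r' * r) = 0) → e * r = 0 := fun r h4 => by
    have h5 : ∀ t, star t = t → (∀ r', T (r' * t) = 0) → t * e = 0 := fun t ht h5 =>
      (he.min t ht).resolve_right fun ⟨k, hk⟩ => by
        have := h5 (r₀ * k)
        rw [mul_assoc, hk, t0, mul_smul, ew, h2] at this
        exact one_ne_zero this
    have h6 := h5 (r * star r) (by simp [mul_comm]) fun r' => by
      rw [mul_comm r, ← mul_assoc, h4]
    have h7 := h5 (r + star r) (by simp [add_comm]) fun r' => by
      rw [mul_add, map_add, h4, ← t1, star_mul', star_star, h4, add_zero]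
    exact d.faith _ fun v => d.sq_smul (by
      rw [show e * r * (e * r) = 0 by linear_combination e * r * h7 - e * h6, zero_smul])
  have t3 : ∀ v x, ∃ a, e * a = a ∧ ∀ r, T (r * a) = polar Q (r • e • v) x := fun v x => by
    let I : Submodule F R := LinearMap.range (LinearMap.mulLeft F e)
    have i1 : ∀ a : I, e * a = a := by
      rintro ⟨_, a, rfl⟩
      exact (mul_assoc _ _ _).symm.trans (congrArg (· * a) he.idem)
    let B : LinearMap.BilinForm F I := LinearMap.BilinForm.restrict ((LinearMap.mul F R).compr₂ T) I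
    have i2 : ∀ a b : I, B a b = T (a * b) := fun _ _ => rfl
    have i3 : ∀ a : I, (∀ b, B a b = 0) → a = 0 := fun a ha => Subtype.ext (by
      rw [← i1 a]
      refine t2 _ fun r => ?_
      rw [← i1 a, ← ha ⟨e * r, r, rfl⟩, i2]; congr 1; ring)
    have hB : B.Nondegenerate := ⟨i3, fun a ha => i3 a fun b => by rw [i2, mul_comm]; exact ha b⟩
    let ψ : Dual F I :=
      polarBilin Q x ∘ₗ (LinearMap.toSpanSingleton R V v).restrictScalars F ∘ₗ I.subtype
    refine ⟨(B.toDual hB).symm ψ, i1 _, fun r => ?_⟩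
    have := LinearMap.BilinForm.apply_toDual_symm_apply (hB := hB) ψ ⟨e * r, r, rfl⟩
    rw [i2] at this
    rw [← i1, smul_smul, polar_comm, mul_comm r e, ← mul_assoc, mul_comm r e, mul_comm]
    exact this
  choose hh t4 t5 using t3
  let H : HF Q e := ⟨T, hh, t1, t2, t4, fun r v x => t5 v x r⟩
  have a1 : H.h w w = 0 := (H.eq_zero_iff d he ew).2 (polar_of_sing d qw)
  have a2 : H.h w (e • w₀) = e := H.ext (H.eh _ _) he.idem fun r => by
    rw [H.spec, polar_comm, d.adj, he.sa, smul_comm e, smul_smul e, he.idem, smul_smul, polar_comm]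
    exact (t0 _).symm
  have a3 : e • e • w₀ = e • w₀ := by rw [smul_smul, he.idem]
  have a4 : Pp R Q S (e • w₀) :=
    Pp.smul d (fun y hy => h3 y (Submodule.mem_sup_left hy)) e
  obtain ⟨ρ, a5, a6⟩ := H.exists_qr d he a3
  have a7 : ∀ r : R, Q (r • (e • w₀ + ρ • w)) = 0 := fun r => by
    rw [smul_add, quad_add, a6, smul_smul r ρ, qw, polar_comm, H.pol (by rw [smul_comm, ew]),
      H.smul₁, H.smul₂ d he, a2, show r * ρ * (star r * e) = r * star r * (e * ρ) by ring, a5,
      add_zero, CharTwo.add_self_eq_zero]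
  have a8 : e • (e • w₀ + ρ • w) = e • w₀ + ρ • w := by rw [smul_add, a3, smul_comm e ρ, ew]
  have a9 : H.h w (e • w₀ + ρ • w) = e := by rw [H.add₂, a2, H.smul₂ d he, a1]; simp
  exact ⟨H, _, ew, a8, hw, a4.add (hw.smul d ρ), qw, a7, a1,
    (H.eq_zero_iff d he a8).2 (polar_of_sing d a7), a9, by rw [← H.symm d he, a9, he.sa]⟩

end CF.FSo
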