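/-
Orthogonal groups in characteristic two: the unipotent radical of a singular vector stabiliser.
-/
import Cfsg.Agent.FSo.G2

set_option autoImplicit false

namespace CF.FSo

open Module CF.Geom QuadraticMap

variable {F V : Type*} [Field F] [AddCommGroup V] [Module F V] {Q : QuadraticForm F V}
  {R : Type*} [CommRing R] [StarRing R] [Module R V] [Algebra F R] [IsScalarTower F R V]
  {S : Set V} {g n m : G0 Q} {z u v w w' x : V} {r a e : R} {H : HF Q e}

theorem HF.sub₁ (H : HF Q e) (v v' x : V) : H.h (v - v') x = H.h v x - H.h v' x := by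
  rw [eq_sub_iff_add_eq, ← H.add₁, sub_add_cancel]

theorem HF.sub₂ (H : HF Q e) (v x x' : V) : H.h v (x - x') = H.h v x - H.h v x' := by
  rw [eq_sub_iff_add_eq, ← H.add₂, sub_add_cancel]

theorem HF.perp (he : Mn e) (hg : g ∈ Gam R Q S) {c : R} (hc : g⁻¹ • w = c • w) (d : RD R Q)
    (hv : H.h v w = 0) : H.h (g • v) w = 0 := by
  rw [← smul_inv_smul g w, H.gam he hg, hc, H.smul₂ d he, hv, mul_zero]
  simpa using tst_mul (sg Q g) (0 : R) 0 |>.trans (by rw [tst_sa _ (star_zero R), mul_zero])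

variable (H) in
/-- The unipotent radical. -/
def Ug (d : RD R Q) (he : Mn e) (S : Set V) (w : V) : Subgroup (G0 Q) where
  carrier := {n | n ∈ Ev (sg Q) (Gam R Q (insert w S)) ∧ ∀ v, H.h v w = 0 → ∃ r : R, n • v = v + r • w}
  one_mem' := ⟨one_mem _, fun v _ => ⟨0, by simp⟩⟩
  mul_mem' {n m} hn hm := ⟨mul_mem hn.1 hm.1, fun v hv => by
    obtain ⟨r, h1⟩ := hn.2 v hv
    obtain ⟨r', h2⟩ := hm.2 v hv
    exact ⟨r + r', by rw [mul_smul, h2, smul_add, h1, Gam.ev hn.1, (mem_Gam_insert.1 hn.1.1).2,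
      add_smul, add_assoc]⟩⟩
  inv_mem' {n} hn := ⟨inv_mem hn.1, fun v hv => by
    obtain ⟨r, h1⟩ := hn.2 v hv
    exact ⟨-r, by rw [inv_smul_eq_iff, smul_add, h1, Gam.ev hn.1, (mem_Gam_insert.1 hn.1.1).2]; simp⟩⟩

variable (H) in
/-- The centre of the unipotent radical. -/
def Zg (d : RD R Q) (he : Mn e) (S : Set V) (w : V) : Subgroup (G0 Q) where
  carrier := {n | n ∈ Ug H d he S w ∧ ∀ v, H.h v w = 0 → n • v = v}
  one_mem' := ⟨one_mem _, fun v _ => by simp⟩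
  mul_mem' {n m} hn hm := ⟨mul_mem hn.1 hm.1, fun v hv => by rw [mul_smul, hm.2 v hv, hn.2 v hv]⟩
  inv_mem' {n} hn := ⟨inv_mem hn.1, fun v hv => by rw [inv_smul_eq_iff, hn.2 v hv]⟩

variable {d : RD R Q} {he : Mn e}

theorem Ug.conj (hg : g ∈ Gam R Q S) {c c' : R} (hc : g • w = c • w) (hc' : g⁻¹ • w = c' • w)
    (hn : n ∈ Ug H d he S w) : g * n * g⁻¹ ∈ Ug H d he S w := by
  refine ⟨⟨mem_Gam_insert.2 ⟨(Ev.conj (Ev.mono Gam_insert_le hn.1) hg).1, ?_⟩,
    (Ev.conj (Ev.mono Gam_insert_le hn.1) hg).2⟩, fun v hv => ?_⟩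
  · rw [mul_smul, mul_smul, hc', Gam.ev hn.1, (mem_Gam_insert.1 hn.1.1).2, ← hc', smul_inv_smul]
  · obtain ⟨r, hr⟩ := hn.2 _ (H.perp he (inv_mem hg) (by rwa [inv_inv]) d hv)
    exact ⟨_, by rw [mul_smul, mul_smul, hr, smul_add, smul_inv_smul, hg.1, hc, smul_smul]⟩

theorem Zg.conj (hg : g ∈ Gam R Q S) {c c' : R} (hc : g • w = c • w) (hc' : g⁻¹ • w = c' • w)
    (hn : n ∈ Zg H d he S w) : g * n * g⁻¹ ∈ Zg H d he S w :=
  ⟨Ug.conj hg hc hc' hn.1, fun v hv => by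
    rw [mul_smul, mul_smul, hn.2 _ (H.perp he (inv_mem hg) (by rwa [inv_inv]) d hv), smul_inv_smul]⟩

theorem Ug.conj' (hg : g ∈ Gam R Q (insert w S)) (hn : n ∈ Ug H d he S w) :
    g * n * g⁻¹ ∈ Ug H d he S w :=
  Ug.conj (c := 1) (c' := 1) (Gam_insert_le hg) (by simpa using (mem_Gam_insert.1 hg).2)
    (by simpa using (mem_Gam_insert.1 (inv_mem hg)).2) hn

theorem Zg.conj' (hg : g ∈ Gam R Q (insert w S)) (hn : n ∈ Zg H d he S w) :
    g * n * g⁻¹ ∈ Zg H d he S w :=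
  Zg.conj (c := 1) (c' := 1) (Gam_insert_le hg) (by simpa using (mem_Gam_insert.1 hg).2)
    (by simpa using (mem_Gam_insert.1 (inv_mem hg)).2) hn

/-- The displacement of the hyperbolic partner. -/
def dl (w' : V) (n : G0 Q) : V := n • w' - w'

theorem smul_eq_dl (w' : V) (n : G0 Q) : n • w' = w' + dl w' n := (add_sub_cancel _ _).symm

variable (H) in
/-- The essential part of the displacement. -/
def xp (w w' : V) (n : G0 Q) : V := dl w' n - H.h (dl w' n) w' • w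

namespace SD

variable (D : SD H S w w')
include D

theorem hw (v x : V) : (e * H.h v x) • w = H.h v x • w := by rw [H.eh]

theorem mul_e (r : R) : (r * e) • w = r • w := by rw [mul_smul, D.ew]

theorem e_dl (he : Mn e) (hg : g ∈ Gam R Q (insert w S)) : e • dl w' g = dl w' g := by
  rw [dl, smul_sub, D.ew', ← tst_sa (sg Q g) he.sa, ← hg.1, D.ew']

theorem pp_dl (hg : g ∈ Gam R Q (insert w S)) : Pp R Q S (dl w' g) := by
  simpa [dl, sub_eq_add_neg] using (D.pw'.gam (Gam_insert_le hg)).add (D.pw'.fsmul (-1))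

theorem dl_w (he : Mn e) (hg : g ∈ Gam R Q (insert w S)) : H.h (dl w' g) w = 0 := by
  have := H.gam he hg w' w
  rwa [(mem_Gam_insert.1 hg).2, smul_eq_dl, H.add₁, D.w'w, tst_sa _ he.sa, add_eq_left] at this

include d in
theorem w_dl (he : Mn e) (hg : g ∈ Gam R Q (insert w S)) : H.h w (dl w' g) = 0 := by
  rw [← H.symm d he, D.dl_w he hg, star_zero]

theorem dl_dl (he : Mn e) (hg : g ∈ Gam R Q (insert w S)) :
    H.h w' (dl w' g) + H.h (dl w' g) w' + H.h (dl w' g) (dl w' g) = 0 := by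
  have := H.gam he hg w' w'
  rw [smul_eq_dl, H.add₁, H.add₂, H.add₂, D.w'w', tst_sa _ (star_zero R)] at this
  linear_combination this

theorem split (v : V) : H.h (v - H.h v w • w') w = 0 := by
  rw [sub_eq_add_neg, ← neg_smul, H.add₁, H.smul₁, D.w'w, neg_mul, mul_comm, H.eh, add_neg_cancel]

theorem app (hn : n ∈ Ug H d he S w) (hv : H.h v w = 0) : n • v = v - H.h v (dl w' n) • w := by
  obtain ⟨r, hr⟩ := hn.2 v hv
  have := H.ev he hn.1 v w'
  rw [hr, smul_eq_dl, H.add₁, H.add₂, H.smul₁, H.add₂, D.ww', D.w_dl (d := d) he hn.1.1] at this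
  rw [hr, sub_eq_add_neg, ← neg_smul, ← D.mul_e]
  congr 2; linear_combination this

theorem ext (hn : n ∈ Ug H d he S w) (hm : m ∈ Ug H d he S w) (h : dl w' n = dl w' m) : n = m :=
  G0.ext (hn.1.2.trans hm.1.2.symm) fun v => by
    rw [← sub_add_cancel v (H.h v w • w'), smul_add, smul_add, D.app hn (D.split v),
      D.app hm (D.split v), Gam.ev hn.1, Gam.ev hm.1, smul_eq_dl, smul_eq_dl w' m, h]

theorem dl_mul (hn : n ∈ Ug H d he S w) (hm : m ∈ Gam R Q (insert w S)) :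
    dl w' (n * m) = dl w' n + dl w' m - H.h (dl w' m) (dl w' n) • w := by
  rw [dl, mul_smul, smul_eq_dl w' m, smul_add, D.app hn (D.dl_w he hm), smul_eq_dl]; abel

omit D in
theorem dl_conj (hg : g ∈ Gam R Q (insert w' S)) (n : G0 Q) : dl w' (g * n * g⁻¹) = g • dl w' n := by
  rw [dl, dl, mul_smul, mul_smul, (mem_Gam_insert.1 (inv_mem hg)).2, smul_sub,
    (mem_Gam_insert.1 hg).2]

theorem e_xp (he : Mn e) (hg : g ∈ Gam R Q (insert w S)) : e • xp H w w' g = xp H w w' g := by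
  rw [xp, smul_sub, D.e_dl he hg, smul_smul, H.eh]

theorem xp_w (he : Mn e) (hg : g ∈ Gam R Q (insert w S)) : H.h (xp H w w' g) w = 0 := by
  rw [xp, sub_eq_add_neg, ← neg_smul, H.add₁, H.smul₁, D.dl_w he hg, D.ww]; simp

theorem xp_w' (g : G0 Q) : H.h (xp H w w' g) w' = 0 := by
  rw [xp, sub_eq_add_neg, ← neg_smul, H.add₁, H.smul₁, D.ww', neg_mul, mul_comm, H.eh]; simp

include d he in
theorem pp_iff : Pp R Q (insert w' (insert w S)) x ↔
    H.h x w' = 0 ∧ H.h x w = 0 ∧ Pp R Q S x := by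
  rw [Pp_insert d, Pp_insert d, H.eq_zero_iff d he D.ew, H.eq_zero_iff d he D.ew']

include d in
theorem pp_xp (he : Mn e) (hg : g ∈ Gam R Q (insert w S)) :
    Pp R Q (insert w' (insert w S)) (xp H w w' g) :=
  (D.pp_iff (d := d) (he := he)).2 ⟨D.xp_w' g, D.xp_w he hg, by
    rw [xp, sub_eq_add_neg, ← neg_smul]; exact (D.pp_dl hg).add (D.pw.smul d _)⟩

theorem xp_mul (hn : n ∈ Ug H d he S w) (hm : m ∈ Gam R Q (insert w S)) :
    xp H w w' (n * m) = xp H w w' n + xp H w w' m := by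
  rw [xp, xp, xp, D.dl_mul hn hm, H.sub₁, H.add₁, H.smul₁, D.ww', sub_smul, add_smul, D.mul_e]
  abel

omit D in
theorem xp_one : xp H w w' 1 = 0 := by simp [xp, dl, H.zero₁]

theorem xp_inv (hn : n ∈ Ug H d he S w) : xp H w w' n⁻¹ = -xp H w w' n := by
  rw [eq_neg_iff_add_eq_zero, ← D.xp_mul (inv_mem hn) hn.1.1, inv_mul_cancel, xp_one]

omit D in
theorem xp_conj (he : Mn e) (hg : g ∈ Gam R Q (insert w' (insert w S))) (n : G0 Q) :
    xp H w w' (g * n * g⁻¹) = g • xp H w w' n := by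
  rw [xp, xp, dl_conj hg, smul_sub, hg.1, ← H.gam he hg, (mem_Gam_insert.1 hg).2,
    (mem_Gam_insert.1 (Gam_insert_le hg)).2]

theorem h_xp (hn : n ∈ Ug H d he S w) (hm : m ∈ Ug H d he S w) :
    H.h (xp H w w' n) (xp H w w' m) = H.h (dl w' n) (dl w' m) := by
  rw [xp, sub_eq_add_neg, ← neg_smul, H.add₁, H.smul₁, ← H.symm d he _ w, D.xp_w he hm.1.1, xp,
    sub_eq_add_neg, ← neg_smul, H.add₂, H.smul₂ d he, D.dl_w he hn.1.1]
  simp

theorem mem_Zg (hn : n ∈ Ug H d he S w) : n ∈ Zg H d he S w ↔ xp H w w' n = 0 := by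
  refine ⟨fun h => d.nd.2 _ fun v => ?_, fun h => ⟨hn, fun v hv => ?_⟩⟩
  · have h1 := D.app hn (D.split v)
    rw [h.2 _ (D.split v), eq_comm, sub_eq_self] at h1
    have h2 := H.smul₁ (H.h (v - H.h v w • w') (dl w' n)) w w'
    rw [h1, H.zero₁, D.ww', mul_comm, H.eh] at h2
    rw [polarBilin_apply_apply, H.pol' d he _ (D.e_xp he hn.1.1), ← sub_add_cancel v (H.h v w • w'),
      H.add₁, H.smul₁, ← H.symm d he _ w', D.xp_w', xp, sub_eq_add_neg (dl w' n), ← neg_smul, H.add₂,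
      H.smul₂ d he, D.split, ← h2]
    simp
  · rw [D.app hn hv, sub_eq_zero.1 h, H.smul₂ d he, hv]; simp

theorem dl_Zg (hn : n ∈ Zg H d he S w) : dl w' n = H.h (dl w' n) w' • w :=
  sub_eq_zero.1 ((D.mem_Zg hn.1).1 hn)

theorem cm_mem (hn : n ∈ Ug H d he S w) (hm : m ∈ Ug H d he S w) : cm n m ∈ Zg H d he S w := by
  have h1 := mul_mem hn hm
  have h2 := mul_mem h1 (inv_mem hn)
  refine (D.mem_Zg (mul_mem h2 (inv_mem hm))).2 ?_
  rw [D.xp_mul h2 (inv_mem hm).1.1, D.xp_mul h1 (inv_mem hn).1.1, D.xp_mul hn hm.1.1,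
    D.xp_inv hn, D.xp_inv hm]
  abel

theorem dl_cm (hn : n ∈ Ug H d he S w) (hm : m ∈ Ug H d he S w) : dl w' (cm n m) =
    (H.h (dl w' n) (dl w' m) - H.h (dl w' m) (dl w' n)) • w := by
  have h1 := D.dl_mul (D.cm_mem hn hm).1 (mul_mem hm hn).1.1
  rw [show cm n m * (m * n) = n * m by simp [cm, mul_assoc], D.dl_Zg (D.cm_mem hn hm),
    H.smul₂ d he, D.dl_w he (mul_mem hm hn).1.1, ← D.dl_Zg (D.cm_mem hn hm), D.dl_mul hn hm.1.1,
    D.dl_mul hm hn.1.1] at h1
  linear_combination (norm := module) -h1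

theorem comm (hg : g ∈ Ev (sg Q) (Gam R Q (insert w S))) (hn : n ∈ Zg H d he S w) :
    Commute n g := by
  refine (mul_inv_eq_iff_eq_mul.1 (D.ext (Zg.conj' hg.1 hn).1 hn.1 ?_)).symm
  rw [dl, mul_smul, mul_smul, smul_eq_dl w' g⁻¹, smul_add n, hn.2 _ (D.dl_w he (inv_mem hg.1)),
    smul_eq_dl w' n, add_right_comm, ← smul_eq_dl, smul_add, smul_inv_smul, D.dl_Zg hn, Gam.ev hg,
    (mem_Gam_insert.1 hg.1).2, add_sub_cancel_left]

theorem red (h : Red R Q S) (d : RD R Q) (he : Mn e) : Red R Q (insert w' (insert w S)) := by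
  intro v hv hv' h1
  obtain ⟨r', _, hy', rfl⟩ := Submodule.mem_span_insert.1 hv
  obtain ⟨r, y, hy, rfl⟩ := Submodule.mem_span_insert.1 hy'
  obtain ⟨h2, h3, h4⟩ := (D.pp_iff (d := d) (he := he)).1 hv'
  rw [H.add₁, H.add₁, H.smul₁, H.smul₁, D.w'w', D.ww', H.pp d he D.pw' hy] at h2
  rw [H.add₁, H.add₁, H.smul₁, H.smul₁, D.w'w, D.ww, H.pp d he D.pw hy] at h3
  rw [← D.mul_e, ← D.ew', smul_smul, show r * e = 0 by simpa using h2,
    show r' * e = 0 by simpa using h3, zero_smul, zero_smul, zero_add, zero_add] at h1 h4 ⊢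
  exact h y hy h4 h1

variable [CharP F 2] [Finite V]

theorem exists_dl {δ : V} (h1 : e • δ = δ) (h2 : Pp R Q S δ) (h3 : H.h δ w = 0)
    (h4 : ∀ r : R, Q (r • (w' + δ)) = 0) : ∃ n ∈ Ug H d he S w, dl w' n = δ := by
  let f : V →ₗ[F] V :=
    { toFun v := v + H.h v w • δ - (H.h v δ - H.h v w * H.h w' δ) • w
      map_add' a b := by simp only [H.add₁]; module
      map_smul' c a := by
        simp only [RingHom.id_apply, ← algebraMap_smul R c, H.smul₁]; module }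
  have f1 : ∀ v, f v = v + H.h v w • δ - (H.h v δ - H.h v w * H.h w' δ) • w := fun _ => rfl
  have f2 : ∀ v, H.h v w = 0 → f v = v - H.h v δ • w := fun v hv => by simp [f1, hv]
  have f3 : ∀ (r : R) v, f (r • v) = r • f v := fun r v => by simp only [f1, H.smul₁]; module
  have f4 : f w' = w' + δ := by
    rw [f1, D.w'w, h1, H.eh]; simp
  obtain ⟨n, n1, n2⟩ := exists_g0 d.nd f fun v => by
    have h5 := D.split v
    rw [← sub_add_cancel v (H.h v w • w')]
    generalize v - H.h v w • w' = x at h5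
    generalize H.h v w = a
    rw [map_add, f2 x h5, f3, f4, quad_add, quad_add, quad_sub, h4, D.qw, D.qw',
      H.pol' d he _ (by rw [smul_comm, D.ew]), H.pol' d he x (by rw [smul_comm, D.ew']),
      H.pol' d he _ (by rw [smul_comm, smul_add, D.ew', h1]), H.smul₂ d he, H.smul₂ d he,
      H.smul₂ d he, h5, sub_eq_add_neg x, ← neg_smul, H.add₁, H.smul₁, H.add₂, H.add₂, D.ww',
      ← H.symm d he δ w, h3, star_zero]
    simp [mul_comm _ e, H.eh]
  refine ⟨n, ⟨⟨⟨fun r v => by rw [n1, tst_one, n2, n2, f3], ?_⟩, n1⟩, fun v hv =>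
    ⟨_, by rw [n2, f2 v hv, sub_eq_add_neg, ← neg_smul]⟩⟩, by rw [dl, n2, f4, add_sub_cancel_left]⟩
  rintro u (rfl | hu)
  · rw [n2, f2 _ D.ww, ← H.symm d he, h3]; simp
  · rw [n2, f2 _ (H.pp d he D.pw (Submodule.subset_span hu)),
      H.pp d he h2 (Submodule.subset_span hu)]
    simp

theorem dec (hg : g ∈ Gam R Q (insert w S)) :
    ∃ n ∈ Ug H d he S w, ∃ l ∈ Gam R Q (insert w' (insert w S)), g = n * l := by
  obtain ⟨n, h1, h2⟩ := D.exists_dl (d := d) (D.e_dl he hg) (D.pp_dl hg) (D.dl_w he hg) fun r => by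
    rw [← smul_eq_dl, ← tst_self (sg Q g) r, ← hg.1, g_Q, D.qw']
  exact ⟨n, h1, n⁻¹ * g, mem_Gam_insert.2 ⟨mul_mem (inv_mem h1.1.1) hg, by
    rw [mul_smul, inv_smul_eq_iff, smul_eq_dl, smul_eq_dl w' n, h2]⟩, by simp⟩

theorem exists_xp [Finite F] (h1 : e • x = x) (h2 : Pp R Q (insert w' (insert w S)) x) :
    ∃ n ∈ Ug H d he S w, xp H w w' n = x := by
  obtain ⟨h3, h4, h5⟩ := (D.pp_iff (d := d) (he := he)).1 h2
  obtain ⟨ρ, h6, h7⟩ := H.exists_qr d he h1
  obtain ⟨n, h8, h9⟩ := D.exists_dl (d := d) (he := he) (δ := x + ρ • w)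
    (by rw [smul_add, h1, smul_smul, h6])
    (h5.add (D.pw.smul d ρ)) (by rw [H.add₁, H.smul₁, h4, D.ww]; simp) fun r => by
      rw [smul_add, smul_add, quad_add, quad_add, D.qw', smul_smul r ρ, D.qw, h7, polar_comm _ (r • w'),
        H.pol' d he _ (by rw [smul_comm, D.ew]), H.pol' d he _ (by rw [smul_comm, D.ew']),
        H.smul₂ d he, H.smul₂ d he, H.add₁, H.smul₁, H.smul₁, H.smul₁, h3, h4, D.ww']
      simp only [mul_zero, map_zero, add_zero, zero_add]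
      rw [show star r * (r * ρ * e) = r * star r * (e * ρ) by ring, h6, CharTwo.add_self_eq_zero]
  exact ⟨n, h8, by rw [xp, h9, H.add₁, h3, H.smul₁, D.ww', zero_add, D.mul_e, add_sub_cancel_right]⟩

theorem exists_torus (d : RD R Q) (he : Mn e) {b : R} (hb : Gn Q b) {p : ℕ} (hp : b ^ p * e = e) :
    ∃ t ∈ Ev (sg Q) (Gam R Q S), t • w = b • w ∧ t • w' = b • w' ∧ (∀ v, H.h v w = 0 → H.h v w' = 0 → t • v = v) ∧ t ^ p = 1 ∧
      ∀ l ∈ Ev (sg Q) (Gam R Q (insert w' (insert w S))), Commute t l := by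
  let f : V →ₗ[F] V :=
    { toFun v := H.h v w' • w + H.h v w • w'
      map_add' a b := by simp only [H.add₁]; module
      map_smul' c a := by
        simp only [RingHom.id_apply, ← algebraMap_smul R c, H.smul₁]; module }
  have f1 : ∀ v, f v = H.h v w' • w + H.h v w • w' := fun _ => rfl
  have f2 : ∀ v, H.h (f v) w = H.h v w ∧ H.h (f v) w' = H.h v w' := fun v => by
    simp [f1, H.add₁, H.smul₁, D.ww, D.ww', D.w'w, D.w'w', mul_comm _ e, H.eh]
  have f3 : ∀ (r : R) v, f (r • v) = r • f v := fun r v => by simp only [f1, H.smul₁]; module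
  have f4 : ∀ v, f (f v) = f v := fun v => by rw [f1 (f v), (f2 v).1, (f2 v).2, f1]
  have f5 : ∀ v, e • f v = f v := fun v => by rw [f1, smul_add, smul_smul, smul_smul, H.eh, H.eh]
  have f6 : ∀ v x, f v = 0 → H.h v (f x) = 0 := fun v x hv => by
    rw [f1 x, H.add₂, H.smul₂ d he, H.smul₂ d he, ← (f2 v).1, ← (f2 v).2, hv]; simp [H.zero₁]
  have f7 : ∀ v (r : R), Q (v - f v + r • f v) = Q (v - f v) + Q (r • f v) := fun v r => by
    rw [quad_add, H.pol' d he _ (by rw [smul_comm, f5]), H.smul₂ d he, f6 _ _ (by simp [f4])]; simp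
  obtain ⟨t, t1, t2⟩ := exists_g0 d.nd (1 - f + (LinearMap.lsmul R V b).restrictScalars F ∘ₗ f)
    fun v => (f7 v b).trans (by simpa [hb.iso] using (f7 v 1).symm)
  replace t2 : ∀ v, t • v = v - f v + b • f v := t2
  have t3 : ∀ (r : R) v, t • r • v = r • t • v := fun r v => by rw [t2, t2, f3]; module
  have t4 : ∀ v, H.h v w = 0 → H.h v w' = 0 → t • v = v := fun v h h' => by simp [t2, f1, h, h']
  have t5 : ∀ (k : ℕ) v, t ^ k • v = v - f v + b ^ k • f v := fun k v => by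
    induction k with
    | zero => simp
    | succ k ih => rw [pow_succ', mul_smul, ih, t2, map_add, map_sub, f3, f4]; module
  refine ⟨t, ⟨⟨fun r v => by rw [t1, tst_one, t3], fun u hu => t4 u
    (H.pp d he D.pw (Submodule.subset_span hu)) (H.pp d he D.pw' (Submodule.subset_span hu))⟩, t1⟩,
    by simp [t2, f1, D.ww, D.ww', D.ew], by simp [t2, f1, D.w'w', D.w'w, D.ew'], t4,
    G0.ext (by simp [t1]) fun v => by rw [t5, ← f5, smul_smul, hp]; simp,
    fun l hl => G0.ext (by simp [mul_comm]) fun v => ?_⟩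
  have h1 := (mem_Gam_insert.1 hl.1).2
  have h2 := (mem_Gam_insert.1 (Gam_insert_le hl.1)).2
  have h3 : f (l • v) = l • f v := by
    rw [f1, f1, smul_add, Gam.ev hl, Gam.ev hl, ← H.ev he hl v w, ← H.ev he hl v w', h1, h2]
  rw [mul_smul, mul_smul, t2, t2, h3, smul_add, smul_sub, Gam.ev hl]

end SD

end CF.FSo
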