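/-
Orthogonal groups in characteristic two: the inductive step for vector stabilisers.
-/
import Cfsg.Agent.FSo.G3

set_option autoImplicit false

namespace CF.FSo

open Module CF.Geom QuadraticMap

theorem exists_psi (F : Type*) [Field F] [Finite F] : ∃ ψ : F → ℂ, (∀ a b, ψ (a + b) = ψ a * ψ b) ∧
    ψ 0 = 1 ∧ ∃ a, ψ a ≠ 1 := by
  haveI := Fintype.ofFinite F
  refine ⟨AddChar.FiniteField.primitiveChar_to_Complex F, AddChar.map_add_eq_mul _,
    AddChar.map_zero_eq_one _, ?_⟩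
  have := AddChar.FiniteField.primitiveChar_to_Complex_isPrimitive F one_ne_zero
  rw [AddChar.mulShift_one] at this
  exact AddChar.ne_one_iff.1 this

variable {F V : Type*} [Field F] [AddCommGroup V] [Module F V] {Q : QuadraticForm F V}
  {R : Type*} [CommRing R] [StarRing R] [Module R V] {S : Set V} {z w w' : V} {e : R}

variable (R) in
/-- The stabiliser of a vector modulo the span. -/
def Gz (Q : QuadraticForm F V) (S : Set V) (z : V) : Subgroup (G0 Q) where
  carrier := {g | g ∈ Gam R Q S ∧ g • z - z ∈ Submodule.span R S}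
  one_mem' := ⟨one_mem _, by simp⟩
  mul_mem' {g k} hg hk := ⟨mul_mem hg.1 hk.1, by
    convert add_mem (Gam.span hg.1 hk.2) hg.2 using 1
    rw [smul_sub, mul_smul, sub_add_sub_cancel]⟩
  inv_mem' {g} hg := ⟨inv_mem hg.1, by
    simpa [smul_sub] using neg_mem (Gam.span (inv_mem hg.1) hg.2)⟩

theorem exists_prime_gn {a : R} (ha : Gn Q a) (h : a * e ≠ e) :
    ∃ (p : ℕ) (b : R), p.Prime ∧ p ≠ 2 ∧ Gn Q b ∧ b ^ p * e = e ∧ b * e ≠ e := by
  obtain ⟨m, h1, h2⟩ := ha.odd
  replace h2 : a ^ m * e = e := by rw [h2, one_mul]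
  induction m using Nat.strong_induction_on generalizing a with
  | _ m ih =>
  obtain ⟨p, hp, k, rfl⟩ := Nat.exists_prime_and_dvd (n := m) (by rintro rfl; exact h (by simpa using h2))
  by_cases h3 : a ^ p * e = e
  · exact ⟨p, a, hp, by rintro rfl; exact absurd h1 (by simp), ha, h3, h⟩
  · exact ih k (lt_mul_of_one_lt_left (Nat.pos_of_mul_pos_left h1.pos) hp.one_lt) (ha.pow p) h3
      (Nat.odd_mul.1 h1).2 (by rwa [← pow_mul])

variable [Algebra F R] [IsScalarTower F R V] [CharP F 2] [Finite F] [Finite V]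

omit [CharP F 2] [Finite F] in
theorem mem_span_of_perp (d : RD R Q) (he : Mn e) {v : V} (hv : e • v = v)
    (h : ∀ x, e • x = x → Pp R Q S x → polar Q v x = 0) : v ∈ Submodule.span R S := by
  by_contra h1
  obtain ⟨y, h2, h3⟩ := exists_dual d (X := (Submodule.span R S).restrictScalars F) h1
  have := h (e • y) (by rw [smul_smul, he.idem]) (Pp.smul d h3 e)
  rw [polar_comm, d.adj, he.sa, hv, polar_comm, h2] at this
  exact one_ne_zero this

theorem good_Gz (d : RD R Q) (h : Red R Q S) (he : Mn e) (hz : e • z = z)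
    (h0 : Good (sg Q) (Gam R Q S))
    (ih : ∀ S', Submodule.span R S < Submodule.span R S' → Red R Q S' → Good (sg Q) (Gam R Q S'))
    (ih' : ∀ z, Pp R Q S z → z ∉ Submodule.span R S → e • z = z →
      Good (sg Q) (Gam R Q (insert z S))) : Good (sg Q) (Gz R Q S z) := by
  by_cases h1 : ∃ u ∈ Submodule.span R S, Pp R Q S u ∧ polar Q u z ≠ 0
  · obtain ⟨u, hu, hu', h1⟩ := h1
    refine good_of_refl d h hu hu' h1 (he.fix d (fun h2 => h1 ?_) (h.gn d hu hu') hz)
      (fun _ => Iff.rfl) ih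
    rw [← hz, ← he.sa, ← d.adj, h2, polar_zero_left]
  have h2 : z ∈ (Submodule.span R S).restrictScalars F ⊔
      perp (polarBilin Q) ((Submodule.span R S).restrictScalars F) := by
    by_contra h2
    obtain ⟨y, h3, h4⟩ := exists_dual d h2
    refine h1 ⟨y, by_contra fun h5 => ?_, fun x hx => h4 x (Submodule.mem_sup_left hx), by
      rw [polar_comm, h3]; exact one_ne_zero⟩
    obtain ⟨x, h6, h7⟩ := exists_dual d (X := (Submodule.span R S).restrictScalars F) h5
    rw [polar_comm, h4 x (Submodule.mem_sup_right h7)] at h6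
    exact zero_ne_one h6
  obtain ⟨y, hy, p, hp, rfl⟩ := Submodule.mem_sup.1 h2
  have h3 : Pp R Q S (e • p) := Pp.smul d hp e
  have h4 : Gz R Q S (y + p) = Gam R Q (insert (e • p) S) := by
    ext g
    rw [mem_Gam_insert]
    refine and_congr_right fun hg => ?_
    have h4 := Submodule.smul_mem _ e hy
    have h5 := sub_mem (Gam.span hg h4) h4
    rw [← hz, smul_add, smul_add, add_sub_add_comm, add_mem_cancel_left h5]
    exact ⟨fun h6 => h.eq h3 h6 (h3.gam hg) (g_Q _ _), fun h6 => by simp [h6]⟩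
  rw [h4]
  by_cases h5 : e • p ∈ Submodule.span R S
  · rwa [le_antisymm Gam_insert_le fun g hg => mem_Gam_insert.2 ⟨hg, h.gam h5 h3 hg⟩]
  · exact ih' _ h3 h5 (by rw [smul_smul, he.idem])

namespace SD

variable {H : HF Q e} (D : SD H S w w') (d : RD R Q) (he : Mn e)
  {W : Type} [AddCommGroup W] [Module ℂ W] [FiniteDimensional ℂ W] [Nontrivial W]
  (T : TS (sg Q) (Gam R Q (insert w S)) W) (hT : IrrOn T.ρ (Ev (sg Q) (Gam R Q (insert w S))) ⊤)
include D hT

theorem abelian {y : G0 Q} (hy : Od (sg Q) (Gam R Q (insert w S)) y)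
    (h1 : ∀ n ∈ Zg H d he S w, T.ρ n = 1)
    (ih : ∀ z, e • z = z → Good (sg Q) (Gz R Q (insert w' (insert w S)) z)) : False := by
  classical
  haveI := Fintype.ofFinite V
  have hU : Ug H d he S w ≤ Ev (sg Q) (Gam R Q (insert w S)) := fun n h => h.1
  obtain ⟨v₀, -, h0, μ, hμ⟩ := exists_weight (ρ := T.ρ) (H := Ug H d he S w) (X := ⊤)
    (fun _ _ _ _ => trivial) top_ne_bot fun m hm n hn => by
      rw [← T.rp.mul hm.1 hn.1, ← T.rp.mul hn.1 hm.1, show m * n = cm m n * (n * m) by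
        simp [cm, mul_assoc], T.rp.mul (D.cm_mem hm hn).1.1 (mul_mem hn hm).1,
        h1 _ (D.cm_mem hm hn), one_mul]
  replace hμ : v₀ ∈ wt T.ρ (Ug H d he S w) μ := hμ
  obtain ⟨ψ, p1, p2, a, p3⟩ := exists_psi F
  have p4 : ∀ a, ψ a * ψ a = 1 := fun a => by rw [← p1, CharTwo.add_self_eq_zero, p2]
  have p5 : ∀ v : V, ∀ X : Submodule F V, (∀ x ∈ X, ψ (polar Q v x) = 1) →
      ∀ x ∈ X, polar Q v x = 0 := fun v X h x hx => by
    by_contra h2
    exact p3 (by simpa [h2] using h _ (X.smul_mem (a / polar Q v x) hx))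
  have a1 : ∀ x : V, x ≠ 0 → ∑ z, ψ (polar Q z x) = 0 := fun x hx => by
    obtain ⟨v, hv⟩ : ∃ v, ψ (polar Q x v) ≠ 1 := by
      by_contra! h
      exact hx (d.nd.1 x fun v => p5 x ⊤ (fun v _ => h v) v trivial)
    have := Fintype.sum_equiv (Equiv.addLeft v) (fun z => ψ (polar Q (v + z) x))
      (fun z => ψ (polar Q z x)) fun _ => rfl
    simp only [polar_add_left, p1, ← Finset.mul_sum, mul_left_eq_self₀] at this
    exact this.resolve_left (by rwa [polar_comm])
  obtain ⟨z, hz⟩ : ∃ z, ∑ n ∈ fs (Ug H d he S w), μ n * ψ (polar Q z (xp H w w' n)) ≠ 0 := by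
    by_contra! h
    have h2 := Finset.sum_eq_zero (s := Finset.univ) fun z _ => h z
    rw [Finset.sum_comm, ← Finset.sum_subset (s₁ := fs (Zg H d he S w)) (fun n hn =>
      mem_fs.2 (mem_fs.1 hn).1) fun n hn hn' => by
        rw [← Finset.mul_sum, a1 _ fun e => hn' (mem_fs.2 ((D.mem_Zg (mem_fs.1 hn)).2 e)), mul_zero],
      Finset.sum_congr rfl (g := fun _ => (Fintype.card V : ℂ)) fun n hn => by
        have h3 := mem_fs.1 hn
        have h4 := hμ n h3.1
        rw [h1 n h3, End.one_apply, ← sub_eq_zero, ← neg_eq_zero, neg_sub, ← one_smul ℂ v₀,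
          smul_smul, ← sub_smul, smul_eq_zero_iff_left h0, mul_one, sub_eq_zero] at h4
        simp [(D.mem_Zg h3.1).1 h3, h4, p2], Finset.sum_const, nsmul_eq_mul] at h2
    exact mul_ne_zero (card_fs_ne _) (Nat.cast_ne_zero.2 Fintype.card_ne_zero) h2
  have a2 : ∀ n ∈ Ug H d he S w, μ n = ψ (polar Q (e • z) (xp H w w' n)) := fun n hn => by
    have h2 := sum_fs_left hn fun n => μ n * ψ (polar Q z (xp H w w' n))
    rw [Finset.sum_congr rfl (g := fun m => μ n * ψ (polar Q z (xp H w w' n)) *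
      (μ m * ψ (polar Q z (xp H w w' m)))) fun m hm => by
        rw [wt_mul (T.rp.mono hU) h0 hμ hn (mem_fs.1 hm), D.xp_mul hn (mem_fs.1 hm).1.1,
          polar_add_right, p1]
        ring, ← Finset.mul_sum, mul_left_eq_self₀, or_iff_left hz] at h2
    rw [d.adj, he.sa, D.e_xp he hn.1.1]
    linear_combination ψ (polar Q z (xp H w w' n)) * h2 - μ n * p4 (polar Q z (xp H w w' n))
  have a3 : e • e • z = e • z := by rw [smul_smul, he.idem]
  refine T.clifford hT hy hU (fun x hx n hn => Ug.conj' hx hn) Gam_insert_le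
    (fun x hx => D.dec hx) h0 hμ (Δ' := Gz R Q _ (e • z)) (fun g hg => hg.1) (fun l hl => ?_) (ih _ a3)
  have a4 : ∀ n ∈ Ug H d he S w, μ (tw (sg Q) l n) =
      ψ (polar Q (l⁻¹ • e • z - e • z) (xp H w w' n)) * μ n := fun n hn => by
    have h2 : xp H w w' (n ^ (sg Q l : ℤ)) = xp H w w' n := by
      rcases Int.units_eq_one_or (sg Q l) with h | h
      · simp [h]
      · simpa [h, D.xp_inv hn] using neg_eq_of_add_eq_zero_left (vv F _)
    rw [a2 n hn, ← p1, ← polar_add_left, sub_add_cancel, tw,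
      a2 _ (Ug.conj' (Gam_insert_le hl) (zpow_mem hn _)), xp_conj he hl, h2, ← g_polar l⁻¹,
      inv_smul_smul]
  rw [← inv_mem_iff]
  refine ⟨fun h n hn => by rw [a4 n hn, D.pp_xp (d := d) he hn.1.1 _ h.2, p2, one_mul],
    fun h => ⟨inv_mem hl, mem_span_of_perp d he (by
      rw [smul_sub, a3, ← tst_sa (sg Q l⁻¹) he.sa, ← (inv_mem hl).1, tst_sa _ he.sa, a3])
        fun x h2 h3 => p5 _
      { carrier := {x | e • x = x ∧ Pp R Q (insert w' (insert w S)) x}
        add_mem' ha hb := ⟨by rw [smul_add, ha.1, hb.1], ha.2.add hb.2⟩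
        zero_mem' := ⟨by simp, fun _ _ => by simp⟩
        smul_mem' c x hx := ⟨by rw [smul_comm, hx.1], hx.2.fsmul c⟩ } (fun x hx => ?_) x ⟨h2, h3⟩⟩⟩
  obtain ⟨n, hn, rfl⟩ := D.exists_xp (d := d) (he := he) hx.1 hx.2
  have h4 := wt_inv (T.rp.mono hU) h0 hμ hn
  linear_combination μ n⁻¹ * (h n hn) - μ n⁻¹ * (a4 n hn) -
    (ψ (polar Q (l⁻¹ • e • z - e • z) (xp H w w' n)) - 1) * h4

theorem heis (h : Red R Q S) {z₀ : G0 Q} (hz : z₀ ∈ Zg H d he S w) (h1 : T.ρ z₀ ≠ 1) {y : G0 Q}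
    (hy : Od (sg Q) (Gam R Q (insert w' (insert w S))) y) (hy' : y * y = 1) :
    ¬ NS (sg Q) (Gam R Q (insert w' (insert w S))) := by
  have r2 := rr (R := R) F
  have a1 := D.dl_Zg hz
  have a2 := D.dl_dl he hz.1.1.1
  have a3 := H.eh (dl w' z₀) w'
  rw [← H.symm d he _ w'] at a2
  generalize H.h (dl w' z₀) w' = ρ at a1 a2 a3
  rw [a1, H.smul₁, H.smul₂ d he, D.ww] at a2
  obtain ⟨a, ha, a4⟩ : ∃ a : R, Gn Q a ∧ a * e ≠ e := by
    by_contra! h2
    obtain ⟨c, h3, -⟩ := fix_scalar d (v := e) h2 ρ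
    have h4 := g_Q z₀ w'
    rw [smul_eq_dl, a1, quad_add, D.qw, polar_comm, H.pol (by rw [smul_comm, D.ew]), H.smul₁, D.ww',
      ← smul_eq_mul, h3, map_smul, add_zero, add_eq_left, smul_eq_zero] at h4
    refine h1 ?_
    rw [D.ext hz.1 (one_mem _) (by
      rw [a1, ← a3, mul_comm, ← smul_eq_mul, h3, dl, one_smul, sub_self]
      rcases h4 with h4 | h4
      · simp [h4]
      · simp [show c • e = c • 0 from congrArg _ (H.T_ne d h2 h4 he)]), T.rp.one]
  obtain ⟨p, b, hp, hp', hb, b1, b2⟩ := exists_prime_gn ha a4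
  obtain ⟨j, hj⟩ := he.unit d hb b2
  have b3 : ∀ x : V, e • x = x → b • x = x → x = 0 := fun x h2 h3 => by
    have h4 : star b • x = x := by rw [← h3, smul_smul, mul_comm, hb.inv, one_smul, h3]
    rw [← h2, ← hj, mul_smul, add_smul, h3, h4, vv F, smul_zero]
  obtain ⟨t, t1, t2, t3, t4, t5, t6⟩ := D.exists_torus d he hb b1
  have t7 : ∀ v : V, t • v = b • v → t⁻¹ • v = star b • v := fun v hv => by
    rw [inv_smul_eq_iff, Gam.ev t1, hv, smul_smul, mul_comm, hb.inv, one_smul]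
  refine T.weil hT (U := Ug H d he S w) (Z := Zg H d he S w) (fun n hn => hn.1)
    (fun x hx n hn => Ug.conj' hx hn) Gam_insert_le (fun x hx => ?_) (fun n hn => hn.1)
    (fun g hg n hn => D.comm hg hn) (fun n hn => ?_) (fun m hm n hn => D.cm_mem hm hn)
    (fun n hn hn' => ?_) hp hp' (fun n hn => Ug.conj t1.1 t2 (t7 w t2) hn) t6 (fun n hn => ?_) t5
    hy hy' (fun n hn => Zg.conj' (Gam_insert_le hy.1) hn) fun n hn hn' => ?_
  · obtain ⟨n, h2, l, h3, rfl⟩ := D.dec (d := d) (he := he) hx.1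
    exact ⟨n, h2, l, ⟨h3, by simpa using (mul_mem (inv_mem h2.1) hx).2⟩, rfl⟩
  · refine inv_eq_of_mul_eq_one_left (D.ext (mul_mem hn hn).1 (one_mem _) ?_)
    rw [D.dl_mul hn.1 hn.1.1.1, vv F, ← D.h_xp hn.1 hn.1, (D.mem_Zg hn.1).1 hn, H.zero₁]
    simp [dl]
  · have h2 := D.pp_xp (d := d) he hn.1.1
    have h3 := D.e_xp he hn.1.1
    obtain ⟨x, x1, x2, x3⟩ : ∃ x, e • x = x ∧ Pp R Q (insert w' (insert w S)) x ∧
        H.h x (xp H w w' n) ≠ 0 := by
      by_contra! h4
      exact hn' ((D.mem_Zg hn).2 (b3 _ h3 ((D.red h d he).gn d (mem_span_of_perp d he h3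
        fun x x1 x2 => by rw [polar_comm, H.pol x1, h4 x x1 x2, map_zero]) h2 b hb)))
    have x4 := H.eh x (xp H w w' n)
    obtain ⟨r, k, hk⟩ : ∃ r k : R, k * (r * H.h x (xp H w w' n) +
        star (r * H.h x (xp H w w' n))) = e := by
      generalize H.h x (xp H w w' n) = s at x3 x4
      rcases he.min (s + star s) (by simp [add_comm]) with h4 | ⟨k, h4⟩
      · have h5 : e * star s = star s := by simpa [he.sa, mul_comm] using congrArg star x4
        have h6 : star s = s := by linear_combination h4 - x4 - h5 - s * r2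
        obtain ⟨k, hk⟩ := (he.min s h6).resolve_left fun h7 => x3 (by linear_combination h7 - x4)
        exact ⟨b, j * k, by
          rw [star_mul', h6]; linear_combination e * hj + j * (b + star b) * hk + he.idem⟩
      · exact ⟨1, k, by simpa using h4⟩
    obtain ⟨m, hm, h4⟩ := D.exists_xp (d := d) (he := he) (x := (ρ * e * k * r) • x)
      (by rw [smul_comm, x1]) (x2.smul d _)
    refine ⟨m, hm, ?_⟩
    rw [D.ext (D.cm_mem hm hn).1 hz.1]
    · exact h1
    rw [D.dl_cm hm hn, ← D.h_xp hm hn, ← D.h_xp hn hm, ← H.symm d he _ (xp H w w' n), h4, H.smul₁, a1]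
    have h5 := congrArg star hk
    simp only [star_mul', star_add, star_star, he.sa] at hk h5 ⊢
    have h6 : star ρ = ρ := by linear_combination a2 - ρ * r2
    have h7 : e * star k = e * k := by linear_combination k * h5 - star k * hk
    rw [h6]; congr 1
    linear_combination ρ * e * hk + ρ * he.idem + a3 -
      ρ * star r * star (H.h x (xp H w w' n)) * (h7 + e * k * r2)
  · have h2 : dl w' (t * n * t⁻¹) = dl w' n + (star b • xp H w w' n - xp H w w' n) := by
      have h3 : dl w' n = xp H w w' n + H.h (dl w' n) w' • w := (sub_add_cancel _ _).symm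
      rw [dl, mul_smul, mul_smul, t7 w' t3, Gam.ev hn.1, Gam.ev t1, smul_eq_dl w' n, smul_add t, t3,
        h3, smul_add t, t4 _ (D.xp_w he hn.1.1) (D.xp_w' n), Gam.ev t1, t2]
      linear_combination (norm := module) hb.inv • (w' + H.h (dl w' n) w' • w)
    rw [D.mem_Zg hn]
    refine ⟨fun h3 => b3 _ (D.e_xp he hn.1.1) ?_, fun h3 =>
      D.ext (Ug.conj t1.1 t2 (t7 w t2) hn) hn (by simp [h2, h3])⟩
    rw [h3, left_eq_add, sub_eq_zero] at h2
    rw [← h2, smul_smul, hb.inv, one_smul, h2]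
  · have h2 := Ug.conj' (Gam_insert_le hy.1) hn
    have h3 := (D.mem_Zg hn'.1).1 hn'
    rw [D.xp_mul h2 hn.1.1, xp, xp, dl_conj hy.1] at h3
    have h4 := H.gam he hy.1 (dl w' n) w'
    rw [(mem_Gam_insert.1 hy.1).2, hy.2, tst_neg, H.symm d he] at h4
    refine D.ext hn'.1 (one_mem _) ?_
    rw [D.dl_mul h2 hn.1.1, ← D.h_xp hn h2, xp_conj he hy.1, dl_conj hy.1]
    have h5 : y • xp H w w' n = xp H w w' n := by
      have := (D.mem_Zg hn'.1).1 hn'
      rw [D.xp_mul h2 hn.1.1, xp_conj he hy.1] at this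
      rw [← add_zero (y • _), ← vv F (xp H w w' n), ← add_assoc, this, zero_add]
    rw [h5, D.h_xp hn hn, show dl w' 1 = 0 by simp [dl]]
    rw [h4] at h3
    have h6 := D.dl_dl he hn.1.1
    generalize dl w' n = δ at h3 h6 ⊢
    generalize y • δ = δ' at h3 ⊢
    linear_combination (norm := module) h3 + h6 • w - r2 • H.h δ δ • w

end SD

theorem good_sing (d : RD R Q) (h : Red R Q S) (he : Mn e) (hw : Pp R Q S w)
    (hw' : w ∉ Submodule.span R S) (ew : e • w = w) (qw : ∀ r : R, Q (r • w) = 0)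
    (ih : ∀ S', Submodule.span R S < Submodule.span R S' → Red R Q S' → Good (sg Q) (Gam R Q S'))
    (ih' : ∀ S', Submodule.span R S < Submodule.span R S' → Red R Q S' → ∀ z, e • z = z →
      Good (sg Q) (Gz R Q S' z)) : Good (sg Q) (Gam R Q (insert w S)) := by
  rintro ⟨y, hy⟩
  obtain ⟨H, w', D⟩ := exists_sd d h he hw hw' ew qw hy
  have h1 : Submodule.span R S < Submodule.span R (insert w' (insert w S)) := lt_of_le_of_ne
    (Submodule.span_mono fun _ h => Or.inr (Or.inr h)) fun h =>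
      hw' (h.ge (Submodule.subset_span (Or.inr (Or.inl rfl))))
  obtain ⟨n, h2, l, h3, rfl⟩ := D.dec (d := d) (he := he) hy.1
  obtain ⟨h4, y, h5, h6⟩ := ih _ h1 (D.red h d he) ⟨l, h3, by simpa using (hy.lmul (inv_mem h2.1)).2⟩
  refine ⟨fun W _ _ _ _ T hT => ?_, y, h5.mono Gam_insert_le, h6⟩
  by_cases h7 : ∀ n ∈ Zg H d he S w, T.ρ n = 1
  · exact D.abelian d he T hT hy h7 (ih' _ h1 (D.red h d he))
  · push Not at h7
    obtain ⟨z, h7, h8⟩ := h7
    exact D.heis d he T hT h h7 h8 h5 h6 h4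

theorem good_insert (d : RD R Q) (he : Mn e) {Y : Submodule R V}
    (ih : ∀ S', Y < Submodule.span R S' → Red R Q S' → Good (sg Q) (Gam R Q S'))
    (hY : Y ≤ Submodule.span R S) (h : Red R Q S) (hz : Pp R Q S z) (hz' : z ∉ Submodule.span R S)
    (ez : e • z = z) : Good (sg Q) (Gam R Q (insert z S)) := by
  haveI : Finite (Submodule R V) := .of_injective _ SetLike.coe_injective
  induction hX : Submodule.span R S using WellFoundedGT.induction generalizing S z with
  | ind X IH =>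
  subst hX
  rcases red_or_sing d h hz hz' he ez with h1 | ⟨w, h1, h2, h3, h4, h5⟩
  · exact ih _ (hY.trans_lt (lt_of_le_of_ne (Submodule.span_mono (Set.subset_insert _ _)) fun h =>
      hz' (h.ge (Submodule.subset_span (Or.inl rfl))))) h1
  rw [h5]
  exact good_sing d h he h1 h2 h3 h4 (fun S' h6 => ih S' (hY.trans_lt h6)) fun S' h6 h7 z hz =>
    good_Gz d h7 he hz (ih S' (hY.trans_lt h6) h7) (fun S'' h8 => ih S'' (hY.trans_lt (h6.trans h8)))
      fun z h8 h9 h10 => IH _ h6 (hY.trans h6.le) h7 h8 h9 h10 rfl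

theorem good_base (d : RD R Q) (h : Red R Q S) (h1 : ∀ v, Pp R Q S v → v ∈ Submodule.span R S)
    (ih : ∀ S', Submodule.span R S < Submodule.span R S' → Red R Q S' → Good (sg Q) (Gam R Q S')) :
    Good (sg Q) (Gam R Q S) := by
  by_cases h2 : ∃ u, Pp R Q S u ∧ u ≠ 0
  · obtain ⟨u, hu, h2⟩ := h2
    obtain ⟨e, he, h3⟩ := d.exists_mn (p := fun e => e • u ≠ 0) (by simpa using h2) fun e f h => by
      by_contra! h3
      exact h (by rw [add_smul, h3.1, h3.2, add_zero])
    obtain ⟨v, hv⟩ : ∃ v, polar Q (e • u) v ≠ 0 := by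
      by_contra! h4
      exact h3 (d.nd.1 _ h4)
    rw [d.adj, he.sa] at hv
    refine good_of_refl d h (h1 u hu) hu hv (he.fix d h3 (h.gn d (h1 u hu) hu)
      (by rw [smul_smul, he.idem])) (fun g => ⟨fun hg => ⟨hg, by_contra fun h4 => ?_⟩, fun hg => hg.1⟩) ih
    obtain ⟨x, h5, h6⟩ := exists_dual d (X := (Submodule.span R S).restrictScalars F) h4
    rw [polar_sub_left, ← g_polar g (e • v) x, h.gam (h1 x h6) h6 hg, sub_self] at h5
    exact zero_ne_one h5
  have h3 : ∀ g ∈ Ev (sg Q) (Gam R Q S), g = 1 := fun g hg => G0.ext hg.2 fun v => by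
    rw [one_smul]
    refine Gam.fix hg (by_contra fun h4 => ?_)
    obtain ⟨x, h5, h6⟩ := exists_dual d (X := (Submodule.span R S).restrictScalars F) h4
    exact h2 ⟨x, h6, by rintro rfl; simp at h5⟩
  rintro ⟨y, hy⟩
  have h4 := h3 _ (hy.mul hy)
  refine ⟨fun W _ _ _ _ T hT => ?_, y, hy, h4⟩
  obtain ⟨v, hv⟩ := exists_ne (0 : W)
  have h5 := (hT (ℂ ∙ v) le_top fun g hg x hx => by rwa [h3 g hg, T.rp.one]).resolve_left
    (by simpa using hv)
  refine hv (T.nd hy v fun x => ?_)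
  obtain ⟨c, rfl⟩ := Submodule.mem_span_singleton.1 (h5.ge (Submodule.mem_top (x := x)))
  have := T.skew hy v v
  rw [inv_eq_of_mul_eq_one_left h4, eq_neg_iff_add_eq_zero, ← two_mul, mul_eq_zero_iff_left two_ne_zero]
    at this
  rw [map_smul, this, smul_zero]

theorem exists_good (d : RD R Q) (h : Red R Q S) {v : V} (h1 : Pp R Q S v)
    (h2 : v ∉ Submodule.span R S)
    (ih : ∀ S', Submodule.span R S < Submodule.span R S' → Red R Q S' → Good (sg Q) (Gam R Q S'))
    {P : Subgroup (G0 Q)} (hP : IsPGroup 2 P) (hP' : P ≤ Gam R Q S) :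
    ∃ Δ ≤ Gam R Q S, P ≤ Δ ∧ Good (sg Q) Δ := by
  obtain ⟨z, e, h3, h4, he, h5, h6⟩ := exists_fix d h h1 h2 hP hP'
  exact ⟨_, Gam_insert_le, h6, good_insert d he ih le_rfl h h3 h4 h5⟩

end CF.FSo
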