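/-
Orthogonal groups in characteristic two: the main induction.
-/
import Cfsg.Agent.FSo.G4

set_option autoImplicit false

namespace CF.FSo

open Module CF.Geom QuadraticMap

variable {F V : Type*} [Field F] [AddCommGroup V] [Module F V] {Q : QuadraticForm F V}

/-- The action as endomorphisms. -/
def toE (Q : QuadraticForm F V) : G0 Q →* End F V where
  toFun g := g.1.1
  map_one' := rfl
  map_mul' _ _ := rfl

/-- Abelian subgroups of odd order. -/
structure OA (Q : QuadraticForm F V) where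
  A : Subgroup (G0 Q)
  nd : (polarBilin Q).Nondegenerate
  comm : ∀ a ∈ A, ∀ b ∈ A, Commute a b
  odd : ∀ a ∈ A, Odd (orderOf a)

theorem sg_of_odd {c : G0 Q} (h : Odd (orderOf c)) : sg Q c = 1 := by
  have := congrArg (sg Q) (pow_orderOf_eq_one c)
  rw [map_pow, map_one] at this
  rcases Int.units_eq_one_or (sg Q c) with h1 | h1
  · exact h1
  · rw [h1, h.neg_one_pow] at this; exact h1.trans this

namespace OA

variable (A : OA Q)

/-- The algebra spanned by the subgroup. -/
def R : Type _ := Algebra.adjoin F (toE Q '' A.A)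

instance : CommRing A.R :=
  { (inferInstance : Ring (Algebra.adjoin F (toE Q '' A.A))) with
    mul_comm := (Algebra.isMulCommutative_adjoin F (by
      rintro _ ⟨a, ha, rfl⟩ _ ⟨b, hb, rfl⟩
      rw [← map_mul, (A.comm a ha b hb).eq, map_mul])).is_comm.comm }

instance : Algebra F A.R where
  smul c r := ⟨c • r.1, Subalgebra.smul_mem _ r.2 c⟩
  algebraMap :=
    { toFun c := ⟨algebraMap F _ c, Subalgebra.algebraMap_mem _ c⟩
      map_one' := Subtype.ext (map_one _)
      map_mul' _ _ := Subtype.ext (map_mul _ _ _)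
      map_zero' := Subtype.ext (map_zero _)
      map_add' _ _ := Subtype.ext (map_add _ _ _) }
  commutes' _ _ := mul_comm _ _
  smul_def' c r := Subtype.ext (Algebra.smul_def c r.1)

/-- The inclusion. -/
def val : A.R →+* End F V where
  toFun r := r.1
  map_one' := rfl
  map_mul' _ _ := rfl
  map_zero' := rfl
  map_add' _ _ := rfl

instance : Module A.R V := Module.compHom V A.val

instance : IsScalarTower F A.R V := ⟨fun _ _ _ => rfl⟩

/-- The generators. -/
def gn {a : G0 Q} (ha : a ∈ A.A) : A.R := ⟨toE Q a, Algebra.subset_adjoin ⟨a, ha, rfl⟩⟩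

theorem gn_smul {a : G0 Q} (ha : a ∈ A.A) (v : V) : A.gn ha • v = a • v := rfl

theorem mul_smul' (r r' : A.R) (v : V) : (r * r') • v = r • r' • v := rfl

theorem faith {r r' : A.R} (h : ∀ v : V, r • v = r' • v) : r = r' := Subtype.ext (LinearMap.ext h)

theorem span_eq : Submodule.span F {r : A.R | ∃ a, ∃ ha : a ∈ A.A, r = A.gn ha} = ⊤ := by
  refine eq_top_iff.2 fun ⟨r, hr⟩ h => ?_
  clear h
  have h1 : r ∈ Submodule.span F (A.A.toSubmonoid.map (toE Q) : Set (End F V)) := by
    rw [← Submonoid.closure_eq (A.A.toSubmonoid.map (toE Q)), ← Algebra.adjoin_eq_span]; exact hr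
  induction h1 using Submodule.span_induction with
  | mem x hx => obtain ⟨a, ha, rfl⟩ := hx; exact Submodule.subset_span ⟨a, ha, rfl⟩
  | zero => exact zero_mem _
  | add x y hx hy ihx ihy =>
    rw [← Submonoid.closure_eq (A.A.toSubmonoid.map (toE Q)), ← Algebra.adjoin_eq_span] at hx hy
    exact add_mem (ihx hx) (ihy hy)
  | smul c x hx ih =>
    rw [← Submonoid.closure_eq (A.A.toSubmonoid.map (toE Q)), ← Algebra.adjoin_eq_span] at hx
    exact Submodule.smul_mem _ c (ih hx)

theorem exists_adj (r : A.R) : ∃ r' : A.R, ∀ v w : V, polar Q (r • v) w = polar Q v (r' • w) := by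
  induction A.span_eq.ge (Submodule.mem_top (x := r)) using Submodule.span_induction with
  | mem x hx =>
    obtain ⟨a, ha, rfl⟩ := hx
    exact ⟨A.gn (inv_mem ha), fun v w => by rw [gn_smul, gn_smul, ← g_polar a⁻¹, inv_smul_smul]⟩
  | zero => exact ⟨0, by simp⟩
  | add x y _ _ hx hy =>
    obtain ⟨x', hx⟩ := hx
    obtain ⟨y', hy⟩ := hy
    exact ⟨x' + y', fun v w => by simp [add_smul, hx, hy]⟩
  | smul c x _ hx =>
    obtain ⟨x', hx⟩ := hx
    exact ⟨c • x', fun v w => by simp [hx]⟩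

theorem eq_of_polar {r r' : A.R} (h : ∀ v w : V, polar Q v (r • w) = polar Q v (r' • w)) : r = r' :=
  A.faith fun w => sub_eq_zero.1 (A.nd.2 _ fun v => by simp [h])

noncomputable instance : Star A.R := ⟨fun r => (A.exists_adj r).choose⟩

theorem adj (r : A.R) (v w : V) : polar Q (r • v) w = polar Q v (star r • w) :=
  (A.exists_adj r).choose_spec v w

noncomputable instance : StarRing A.R where
  star_involutive r := A.eq_of_polar fun v w => by rw [← adj, polar_comm, ← adj, polar_comm]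
  star_mul r r' := A.eq_of_polar fun v w => by rw [← adj, mul_smul', mul_smul', adj, adj]
  star_add r r' := A.eq_of_polar fun v w => by simp [← adj, add_smul]

theorem star_gn {a : G0 Q} (ha : a ∈ A.A) : star (A.gn ha) = A.gn (inv_mem ha) :=
  A.eq_of_polar fun v w => by rw [← adj, gn_smul, gn_smul, ← g_polar a⁻¹, inv_smul_smul]

theorem rd : RD A.R Q := ⟨A.nd, A.adj, fun r h => A.faith (by simpa using h), eq_top_iff.2
  (A.span_eq.ge.trans (Submodule.span_mono (by
    rintro _ ⟨a, ha, rfl⟩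
    exact ⟨A.faith fun v => by rw [star_gn, mul_smul', gn_smul, gn_smul]; simp, g_Q a,
      _, A.odd a ha, Subtype.ext ((map_pow (toE Q) a _).symm.trans (by
        rw [pow_orderOf_eq_one, map_one]; rfl))⟩)))⟩

variable {S : Set V} {g : G0 Q}

theorem mem_Gam : g ∈ Gam A.R Q S ↔ (∀ a ∈ A.A, tw (sg Q) g a = a) ∧ ∀ u ∈ S, g • u = u := by
  refine and_congr_left' ⟨fun h a ha => G0.ext (by simp [tw, sg_of_odd (A.odd a ha)]) fun v => ?_,
    fun h r v => ?_⟩
  · rcases Int.units_eq_one_or (sg Q g) with h1 | h1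
    · rw [tw_ev h1, mul_smul, mul_smul, ← A.gn_smul ha, h, h1, tst_one, smul_inv_smul, gn_smul]
    · rw [tw_od h1, mul_smul, mul_smul, ← A.gn_smul (inv_mem ha), h, h1, tst_neg, ← A.star_gn ha,
        star_star, smul_inv_smul, gn_smul]
  induction A.span_eq.ge (Submodule.mem_top (x := r)) using Submodule.span_induction with
  | mem x hx =>
    obtain ⟨a, ha, rfl⟩ := hx
    rcases Int.units_eq_one_or (sg Q g) with h1 | h1
    · have := congrArg (· • g • v) (h a ha)
      simpa [h1, gn_smul, tw_ev h1, mul_smul] using this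
    · have := congrArg (· • g • v) (h _ (inv_mem ha))
      simpa [h1, star_gn, gn_smul, tw_od h1, mul_smul] using this
  | zero => rcases Int.units_eq_one_or (sg Q g) with h1 | h1 <;> simp [h1]
  | add x y _ _ hx hy =>
    rcases Int.units_eq_one_or (sg Q g) with h1 | h1 <;> simp [h1, add_smul, hx, hy]
  | smul c x _ hx =>
    rcases Int.units_eq_one_or (sg Q g) with h1 | h1 <;> simp [h1, g_smul, hx, A.rd.star_smul]

theorem mem_span {v : V} : v ∈ Submodule.span A.R S ↔
    v ∈ Submodule.span F {x | ∃ a ∈ A.A, ∃ u ∈ S, a • u = x} := by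
  refine ⟨fun h => ?_, fun h => (Submodule.span_le (p := (Submodule.span A.R S).restrictScalars F)).2
    ?_ h⟩
  · rw [← one_smul A.R v]
    generalize (1 : A.R) = r
    induction h using Submodule.span_induction generalizing r with
    | mem u hu =>
      induction A.span_eq.ge (Submodule.mem_top (x := r)) using Submodule.span_induction with
      | mem x hx => obtain ⟨a, ha, rfl⟩ := hx; exact Submodule.subset_span ⟨a, ha, u, hu, rfl⟩
      | zero => simp
      | add x y _ _ hx hy => rw [add_smul]; exact add_mem hx hy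
      | smul c x _ hx => rw [smul_assoc]; exact Submodule.smul_mem _ c hx
    | zero => simp
    | add x y _ _ hx hy => rw [smul_add]; exact add_mem (hx r) (hy r)
    | smul c x _ hx => rw [smul_smul]; exact hx _
  · rintro _ ⟨a, ha, u, hu, rfl⟩
    exact Submodule.smul_mem _ (A.gn ha) (Submodule.subset_span hu)

theorem exists_ext {c : G0 Q} (hc : c ∈ Ev (sg Q) (Gam A.R Q S)) (ho : Odd (orderOf c)) :
    ∃ B : OA Q, (∀ v, v ∈ Submodule.span B.R S ↔ v ∈ Submodule.span A.R S) ∧
      ∀ g, g ∈ Gam B.R Q S ↔ g ∈ Gam A.R Q S ∧ tw (sg Q) g c = c := by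
  have h1 : ∀ a ∈ A.A, Commute c a := fun a ha => by
    have := (A.mem_Gam.1 hc.1).1 a ha
    rwa [tw_ev hc.2, mul_inv_eq_iff_eq_mul] at this
  have h2 : ∀ a ∈ Subgroup.closure (insert c (A.A : Set (G0 Q))),
      ∀ b ∈ Subgroup.closure (insert c (A.A : Set (G0 Q))), Commute a b := by
    haveI := Subgroup.isMulCommutative_closure (k := insert c (A.A : Set (G0 Q))) (by
      rintro a (rfl | ha) b (rfl | hb)
      exacts [rfl, h1 b hb, (h1 a ha).symm, A.comm a ha b hb])
    exact fun a ha b hb => setLike_mul_comm ha hb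
  refine ⟨⟨Subgroup.closure (insert c A.A), A.nd, h2, fun a ha => ?_⟩, fun v => ?_, fun g => ?_⟩
  · induction ha using Subgroup.closure_induction with
    | mem x hx => rcases hx with rfl | hx; exacts [ho, A.odd x hx]
    | one => simp
    | mul x y hx hy ihx ihy =>
      exact (ihx.mul ihy).of_dvd_nat (h2 x hx y hy).orderOf_mul_dvd_mul_orderOf
    | inv x _ ih => rwa [orderOf_inv]
  · rw [mem_span, mem_span]
    refine iff_of_eq (congrArg (v ∈ Submodule.span F ·) (Set.ext fun x => ?_))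
    refine ⟨fun ⟨a, ha, u, hu, h⟩ => ?_, fun ⟨a, ha, h⟩ => ⟨a, Subgroup.subset_closure (Or.inr ha), h⟩⟩
    suffices ∃ b ∈ A.A, b • u = a • u by
      obtain ⟨b, hb, h3⟩ := this
      exact ⟨b, hb, u, hu, h3.trans h⟩
    clear h
    induction ha using Subgroup.closure_induction with
    | mem x hx =>
      rcases hx with rfl | hx
      exacts [⟨1, one_mem _, by rw [hc.1.2 u hu, one_smul]⟩, ⟨x, hx, rfl⟩]
    | one => exact ⟨1, one_mem _, rfl⟩
    | mul x y hx hy ihx ihy =>
      obtain ⟨a, ha, h3⟩ := ihx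
      obtain ⟨b, hb, h4⟩ := ihy
      exact ⟨b * a, mul_mem hb ha, by rw [mul_smul, h3, ← mul_smul,
        (h2 b (Subgroup.subset_closure (Or.inr hb)) x hx).eq, mul_smul, h4, mul_smul]⟩
    | inv x hx ih =>
      obtain ⟨a, ha, h3⟩ := ih
      exact ⟨a⁻¹, inv_mem ha, by rw [eq_inv_smul_iff, ← mul_smul,
        (h2 x hx _ (inv_mem (Subgroup.subset_closure (Or.inr ha)))).eq, mul_smul, ← h3,
        inv_smul_smul]⟩
  · rw [mem_Gam, mem_Gam]
    refine ⟨fun h => ⟨⟨fun a ha => h.1 a (Subgroup.subset_closure (Or.inr ha)), h.2⟩,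
      h.1 c (Subgroup.subset_closure (Or.inl rfl))⟩, fun h => ⟨fun a ha => ?_, h.1.2⟩⟩
    induction ha using Subgroup.closure_induction with
    | mem x hx => rcases hx with rfl | hx; exacts [h.2, h.1.1 x hx]
    | one => simp [tw]
    | mul x y hx hy ihx ihy => rw [tw_comm (h2 x hx y hy), ihx, ihy]
    | inv x _ ih => exact Eq.trans (by simp [tw, mul_assoc]) (congrArg (·⁻¹) ih)

variable [CharP F 2] [Finite F] [Finite V]

theorem good (h : Red A.R Q S) : Good (sg Q) (Gam A.R Q S) := by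
  induction hY : (Submodule.span A.R S : Set V) using WellFoundedGT.induction generalizing A S with
  | ind Y IH =>
  induction hn : Nat.card (Gam A.R Q S) using Nat.strong_induction_on generalizing A with
  | _ n ih =>
  have h1 : ∀ S', Submodule.span A.R S < Submodule.span A.R S' → Red A.R Q S' →
      Good (sg Q) (Gam A.R Q S') := fun S' h1 h2 =>
    IH _ (hY ▸ SetLike.coe_strictMono h1) A h2 rfl
  by_cases h2 : ∀ v, Pp A.R Q S v → v ∈ Submodule.span A.R S
  · exact good_base A.rd h h2 h1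
  push Not at h2
  obtain ⟨v, h2, h3⟩ := h2
  rintro ⟨y, hy⟩
  refine ⟨.of_local hy fun c hc ho P h4 h5 h6 h7 => ?_, ?_⟩
  · by_cases h8 : ∀ g ∈ Ev (sg Q) (Gam A.R Q S), Commute c g
    · obtain ⟨Δ, h9, h10, h11⟩ := exists_good A.rd h h2 h3 h1 h5 h4
      exact ⟨Δ, h9, (h11 (h7.imp fun x hx => hx.mono h10)).1, h10, Or.inr h8⟩
    obtain ⟨B, b1, b2⟩ := A.exists_ext hc ho
    have b3 : Gam B.R Q S ≤ Gam A.R Q S := fun g hg => ((b2 g).1 hg).1
    have b4 : P ≤ Gam B.R Q S := fun g hg => (b2 g).2 ⟨h4 hg, h6 g hg⟩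
    refine ⟨_, b3, (ih _ (hn ▸ lt_of_le_of_ne (Subgroup.card_le_of_le b3) fun e => h8 fun g hg => ?_)
      B (fun x hx hx' => h x ((b1 x).1 hx) fun y hy => hx' y ((b1 y).2 hy)) (hY ▸ Set.ext b1) rfl
      (h7.imp fun x hx => hx.mono b4)).1, b4, Or.inl ((b2 c).2 ⟨hc.1, by simp [tw_ev hc.2]⟩)⟩
    have := ((b2 g).1 ((Subgroup.eq_of_le_of_card_ge b3 e.ge).ge hg.1)).2
    rw [tw_ev hg.2, mul_inv_eq_iff_eq_mul] at this
    exact this.symm
  · obtain ⟨e, e1, e2, -⟩ := exists_od (G0 Q)
    obtain ⟨j, hj⟩ := e2 y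
    have h4 := hy.lmul (inv_mem (mem_Ev.2 ⟨pow_mem hy.1 e, sg_of_odd (e1 y)⟩))
    obtain ⟨i, -, hi⟩ := (Nat.dvd_prime_pow Nat.prime_two).1 (orderOf_dvd_of_pow_eq_one hj)
    obtain ⟨Δ, h5, h6, h7⟩ := exists_good A.rd h h2 h3 h1
      (.of_card (by rw [Nat.card_zpowers, hi])) (Subgroup.zpowers_le.2 h4.1)
    obtain ⟨-, x, h8, h9⟩ := h7 ⟨_, h6 (Subgroup.mem_zpowers _), h4.2⟩
    exact ⟨x, h8.mono h5, h9⟩

end OA

end CF.FSo
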