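/-
From twisted symplectic modules to Frobenius-Schur indicators.
-/
import Cfsg.Agent.FSo.G5
import Cfsg.Agent.BlockB.Ord3

set_option autoImplicit false

namespace CF.FSo

open Module Cfsg CF.Char CF.Clifford CF.BlockB.Ord Matrix CF.Geom QuadraticMap

theorem im_of_isConj {H : Type*} [Group H] [Finite H] {χ : H → ℂ} (hχ : IsIrrCharacter H χ) {g : H}
    (h : IsConj g g⁻¹) : (χ g).im = 0 := by
  obtain ⟨c, hc⟩ := isConj_iff.1 h
  rw [← Complex.conj_eq_iff_im, ← irr_inv hχ, ← hc]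
  obtain ⟨n, ρ, -, rfl⟩ := hχ
  exact ρ.char_conj g c

theorem fs_of_NS {Γ H : Type*} [Group Γ] [Group H] [Fintype H] {s : Γ →* ℤˣ} {Δ : Subgroup Γ}
    (h : NS s Δ) {y : Γ} (hy : Od s Δ y) (hy' : y * y = 1) (hc : ∀ g, y * g * y = g) (π : Γ → H)
    (h1 : ∀ g ∈ Δ, ∀ k ∈ Δ, π (g * k) = π g * π k) (h2 : ∀ x, ∃ g ∈ Ev s Δ, π g = x)
    (h3 : ∀ x : H, IsConj x x⁻¹) {χ : H → ℂ} (hχ : IsIrrCharacter H χ) : fsInd χ = 1 := by
  have h4 := fun x => im_of_isConj hχ (h3 x)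
  refine (fsInd_of_real hχ h4).resolve_right fun ⟨h5, _⟩ => ?_
  obtain ⟨n, ρ, _, rfl⟩ := hχ
  obtain ⟨⟨M, m0, m1⟩, m2⟩ := invariant_forms ρ h4
  have m3 := m2 M m1
  have m4 := isUnit_of_invariant ρ m0 m1
  have p1 : π 1 = 1 := by simpa using h1 1 (one_mem _) 1 (one_mem _)
  haveI := nontrivial_of_isIrreducible ρ
  have m5 : ∀ g v w, Matrix.toBilin' M (ρ g v) (ρ g w) = Matrix.toBilin' M v w := fun g v w => by
    conv_rhs => rw [← m1 g]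
    rw [toBilin'_apply', toBilin'_apply', ← mat_mulVec, ← mat_mulVec, ← vecMul_transpose,
      ← dotProduct_mulVec, mulVec_mulVec, mulVec_mulVec]
  refine h (Fin n → ℂ) (.ofInv hy hy' (ρ := fun g => ρ (π g)) ⟨by simp [p1], fun hg hk => by
    simp [h1 _ hg.1 _ hk.1]⟩ (Matrix.toBilin' M) (fun v w => ?_) (fun v hv => ?_) fun g hg v w => ?_)
    fun Y _ hY => ((isIrreducible_iff ρ).1 ‹_›).2 Y fun x v hv => ?_
  · rw [toBilin'_apply', toBilin'_apply', dotProduct_mulVec, ← mulVec_transpose, m3, h5,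
      dotProduct_comm]
    simp [neg_mulVec]
  · exact (Matrix.nondegenerate_toBilin'_iff.2
      (Matrix.Nondegenerate.of_det_ne_zero ((isUnit_iff_isUnit_det M).1 m4).ne_zero)).1 v hv
  · rw [hc, ← m5 (π g⁻¹), ← End.mul_apply, ← map_mul, ← h1 _ (inv_mem hg.1) _ hg.1]
    simp [p1]
  · obtain ⟨g, hg, rfl⟩ := h2 x
    exact hY g hg v hv

variable {F V : Type*} [Field F] [AddCommGroup V] [Module F V] {Q : QuadraticForm F V}

/-- The trivial subgroup. -/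
def OA.bot (hQ : (polarBilin Q).Nondegenerate) : OA Q :=
  ⟨⊥, hQ, fun a ha b _ => by rw [Subgroup.mem_bot.1 ha]; exact .one_left b,
    fun a ha => by simp [Subgroup.mem_bot.1 ha]⟩

theorem fs_of_stab [CharP F 2] [Finite F] [Finite V] (hQ : (polarBilin Q).Nondegenerate)
    {S : Set V} (hS : ∀ v ∈ Submodule.span F S, Q v = 0 → v = 0) {H : Type*} [Group H] [Fintype H]
    (π : OG Q → H) (h1 : ∀ g k : OG Q, (∀ u ∈ S, g.1 u = u) → (∀ u ∈ S, k.1 u = u) →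
      π (g * k) = π g * π k) (h2 : ∀ x, ∃ g : OG Q, (∀ u ∈ S, g.1 u = u) ∧ π g = x)
    (h3 : ∀ x : H, IsConj x x⁻¹) {χ : H → ℂ} (hχ : IsIrrCharacter H χ) : fsInd χ = 1 := by
  have a1 : ∀ g : G0 Q, g ∈ Gam (OA.bot hQ).R Q S ↔ ∀ u ∈ S, g • u = u := fun g => by
    rw [OA.mem_Gam, and_iff_right]
    intro a ha
    simp [Subgroup.mem_bot.1 ha, tw]
  have a2 : Od (sg Q) (Gam (OA.bot hQ).R Q S) ((1, -1) : OG Q × ℤˣ) := ⟨(a1 _).2 fun _ _ => rfl, rfl⟩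
  refine fs_of_NS ((OA.bot hQ).good (fun v hv _ => hS v ?_) ⟨_, a2⟩).1 a2 (Prod.ext (mul_one _) ?_)
    (fun g => Prod.ext ?_ ?_) (fun g => π g.1) (fun g hg k hk => h1 _ _ ((a1 g).1 hg) ((a1 k).1 hk))
    (fun x => ?_) h3 hχ
  · refine Submodule.span_mono ?_ ((OA.bot hQ).mem_span.1 hv)
    rintro _ ⟨a, ha, u, hu, rfl⟩
    rwa [Subgroup.mem_bot.1 ha, one_smul]
  · exact Int.units_mul_self _
  · exact (mul_one _).trans (one_mul _)
  · change -1 * g.2 * -1 = g.2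
    simp
  · obtain ⟨g, hg, rfl⟩ := h2 x
    exact ⟨(g, 1), ⟨(a1 _).2 hg, rfl⟩, rfl⟩

end CF.FSo
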