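/-
Frobenius-Schur indicators of orthogonal and symplectic groups in characteristic two.
-/
import Cfsg.Agent.FSo.F1
import Cfsg.Agent.FSo.F2
import Cfsg.Agent.Cls.Inv2O
import Cfsg.Agent.Clifford.Ind

set_option autoImplicit false

namespace CF.FSo

open Module Cfsg CF.Char CF.Clifford CF.BlockB.Ord CF.Geom CF.Cls QuadraticMap

theorem fs_index_two {G : Type*} [Group G] [Fintype G] {H : Subgroup G} [Fintype H]
    (h : H.index = 2) (h1 : ∀ χ, IsIrrCharacter G χ → fsInd χ = 1) (h2 : ∀ x : H, IsConj x x⁻¹)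
    {θ : H → ℂ} (hθ : IsIrrCharacter H θ) : fsInd θ = 1 := by
  obtain ⟨χ, hχ, h3⟩ := CF.Char.exists_irr_over H hθ
  have h4 := char_restrict (irr_isCharacter hχ) H
  obtain ⟨m, hm⟩ := inner_char_eq_nat h4 (irr_isCharacter hθ)
  have h5 := one_le_of_sub_char (char_sub_inner_smul h4 hθ) (irr_deg_eq hχ)
    (b := m * charDegree θ) (by simp [hm, irr_deg_eq hθ])
  have h6 := one_le_of_sub_char (char_sub_inner_smul (char_indFun H (irr_isCharacter hθ)) hχ)
    (a := 2 * charDegree θ) (b := m * charDegree χ) (by simp [indFun_one, h, irr_deg_eq hθ]) (by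
      rw [inner_indFun_left H _ (irr_isClassFunction hχ), ← Char.inner_conj_symm, hm]
      simp [irr_deg_eq hχ])
  have h7 : m = 1 := by
    have := irr_deg_pos hθ
    have : m ≠ 0 := by rintro rfl; exact h3 (by simpa using hm)
    have : m * m ≤ 2 := by nlinarith
    have : m < 2 := by nlinarith
    omega
  rw [← fsInd_eq_of_odd H.subtype hχ hθ (real_of_fsInd_eq_one hχ (h1 χ hχ))
    (fun g => im_of_isConj hθ (h2 g)) hm (h7 ▸ odd_one), h1 χ hχ]

universe u

variable {F V : Type u} [Field F] [Finite F] [CharP F 2] [AddCommGroup V] [Module F V]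
  [FiniteDimensional F V] {Q : QuadraticForm F V} {H : Type*} [Group H] [Fintype H]

theorem fs_OG (hQ : (polarBilin Q).Nondegenerate) (e : H ≃* OG Q) {χ : H → ℂ}
    (hχ : IsIrrCharacter H χ) : fsInd χ = 1 := by
  haveI := Module.finite_of_finite F (M := V)
  refine fs_of_stab hQ (S := ∅) (by simp) e.symm (by simp) (fun x => ⟨e x, by simp⟩) (fun x => ?_) hχ
  obtain ⟨y, hy, -⟩ := exists_inv hQ (e x)
  exact isConj_iff.2 ⟨e.symm y, e.injective (by simpa using hy)⟩

theorem fs_Omega (hQ : (polarBilin Q).Nondegenerate) {m : ℕ} (hm : 2 ≤ m)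
    (hV : finrank F V = 4 * m) (e : H ≃* OG Q) [Fintype (commutator H)] {χ : commutator H → ℂ}
    (hχ : IsIrrCharacter _ χ) : fsInd χ = 1 := by
  have h1 := reflSub_eq_top hQ (Or.inr (by omega))
  haveI : Nontrivial V := finrank_pos_iff.1 (by omega : 0 < finrank F V)
  have h2 : (commutator (OG Q)).comap e.toMonoidHom = commutator H := by
    rw [commutator_def, commutator_def, ← Subgroup.map_top_of_surjective e.toMonoidHom e.surjective,
      ← Subgroup.map_commutator, Subgroup.comap_map_eq_self_of_injective e.injective]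
  refine fs_index_two ?_ (fun _ => fs_OG hQ e) (fun x => ?_) hχ
  · rw [← h2, Subgroup.index_comap_of_surjective _ e.surjective,
      index_commutator_even hQ two_eq h1]
  obtain ⟨y, hy, h3⟩ := exists_inv hQ (e x)
  exact isConj_iff.2 ⟨⟨e.symm y, h2.le (by
    simpa using (mem_commutator_iff two_eq hQ h1 y).2 ⟨m, by omega⟩)⟩,
    Subtype.ext (e.injective (by simpa using hy))⟩

theorem fs_Sp {B : LinearMap.BilinForm F V} (hB : B.Nondegenerate) (hA : B.IsAlt) (e : H ≃* SpG B)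
    {χ : H → ℂ} (hχ : IsIrrCharacter H χ) : fsInd χ = 1 := by
  haveI := Module.finite_of_finite F (M := V)
  obtain ⟨Q, rfl⟩ := exists_polar_eq hB hA
  have a1 := (QT.add (QT.mk' hB (f := 1) fun _ => rfl)
    (QT.mk' (nondeg_plq (1 : F) 0) (f := 1) fun _ => rfl)).nondeg
  set Q' : QuadraticForm F (V × (F × F)) := Q.prod (plq 1 0)
  have a2 : ∀ x y, polar Q' x y = polar Q x.1 y.1 + (x.2.1 * y.2.2 + x.2.2 * y.2.1) := fun x y => by
    simp [Q', polar_plq]
  have a3 : ∀ g : OG Q', g.1 (0, 1, 0) = (0, 1, 0) → ∀ v, (g.1 (v, 0)).2.2 = 0 := fun g hg v => by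
    have := OG_polar g (0, 1, 0) (v, 0)
    simpa [hg, a2] using this
  have a4 : ∀ g : OG Q', ∃ p : SpG (polarBilin Q), g.1 (0, 1, 0) = (0, 1, 0) →
      ∀ v, p.1 v = (g.1 (v, 0)).1 := fun g => by
    by_cases hg : g.1 (0, 1, 0) = (0, 1, 0)
    · have h1 : ∀ v w, polar Q (g.1 (v, 0)).1 (g.1 (w, 0)).1 = polar Q v w := fun v w => by
        simpa [a2, a3 g hg] using OG_polar g (v, 0) (w, 0)
      obtain ⟨p, hp⟩ := (isWittPair_quad Q hB).exists_equiv
        (LinearMap.fst F _ _ ∘ₗ g.1.toLinearMap ∘ₗ LinearMap.inl F _ _) h1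
      exact ⟨⟨p, mem_SpG.2 fun v w => by rw [hp, hp]; exact h1 v w⟩, fun _ => hp⟩
    · exact ⟨1, fun h => (hg h).elim⟩
  choose π hπ using a4
  refine fs_of_stab (Q := Q') a1 (S := {(0, 1, 0)}) (fun v hv h => ?_) (fun g => e.symm (π g))
    (fun g k hg hk => ?_) (fun x => ?_) (fun x => ?_) hχ
  · obtain ⟨c, rfl⟩ := Submodule.mem_span_singleton.1 hv
    simpa [Q', plq_apply] using h
  · have hg := hg _ rfl
    have hk := hk _ rfl
    rw [← map_mul]
    refine congrArg _ (Subtype.ext (LinearEquiv.ext fun v => ?_))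
    have h1 : k.1 (v, 0) = ((π k).1 v, 0) + (k.1 (v, 0)).2.1 • (0, 1, 0) :=
      Prod.ext (by simp [hπ k hk]) (Prod.ext (by simp) (by simp [a3 k hk]))
    rw [hπ (g * k) (by simp [hg, hk])]
    change (g.1 (k.1 (v, 0))).1 = (π g).1 ((π k).1 v)
    rw [h1, map_add, map_smul, hg, hπ g hg]
    simp
  · obtain ⟨l, hl⟩ := exists_sqrt_functional (F := F) (φ := fun v => Q ((e x).1 v) - Q v)
      (fun v w => by
        have : polar Q _ _ = polar Q _ _ := mem_SpG.1 (e x).2 v w
        simp only [map_add (e x).1, quad_add, this]; ring)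
      fun c v => by simp only [map_smul (e x).1, quad_smul]; ring
    obtain ⟨g, h1, h2, h3⟩ := (isWittPair_quad Q' a1).extend_map
      (LinearMap.ker (LinearMap.snd F F F ∘ₗ LinearMap.snd F V _))
      ((((e x).1.toLinearMap ∘ₗ LinearMap.fst F _ _).prod (LinearMap.snd F _ _ +
        LinearMap.inl F _ _ ∘ₗ l ∘ₗ LinearMap.fst F _ _)) ∘ₗ Submodule.subtype _)
      ((injective_iff_map_eq_zero _).2 fun ⟨⟨v, a⟩, _⟩ h => by
        have h1 : v = 0 := by simpa using congrArg Prod.fst h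
        simpa [h1, Prod.mk_zero_zero] using h)
      (fun ⟨⟨v, a, b⟩, h⟩ ⟨⟨w, c, d⟩, h'⟩ => by
        have : polar Q _ _ = polar Q _ _ := mem_SpG.1 (e x).2 v w
        simp [a2, this, show b = 0 from h, show d = 0 from h'])
      fun ⟨⟨v, a, b⟩, h⟩ => by
        simp only [Q', show b = 0 from h, plq_apply, prod_apply, LinearMap.comp_apply]
        simp
        linear_combination hl v + (a * l v + Q ((e x).1 v) - Q v) * two_eq (F := F)
    have h4 : g (0, 1, 0) = (0, 1, 0) := by simpa using h3 ⟨(0, 1, 0), rfl⟩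
    refine ⟨⟨g, h1, h2⟩, by simpa using h4, e.symm_apply_eq.2 (Subtype.ext
      (LinearEquiv.ext fun v => ?_))⟩
    rw [hπ _ h4]
    exact congrArg Prod.fst (h3 ⟨(v, 0), rfl⟩)
  · obtain ⟨R, h1, h2⟩ := exists_quad_fixed hB hA (f := (e x).1.toLinearMap) (mem_SpG.1 (e x).2)
    obtain ⟨y, hy, -⟩ := exists_inv (Q := R) (h1 ▸ hB) ⟨(e x).1, mem_OG.2 h2⟩
    exact isConj_iff.2 ⟨e.symm ⟨y.1, mem_SpG.2 (h1 ▸ y.2.1)⟩, e.injective (by
      simpa [Subtype.ext_iff] using hy)⟩

end CF.FSo
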